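/-
Conjugacy of elements of small order in `Cfsg.M24` and their centralisers, by enumeration of
cosets of the stabiliser of four points (order 960).
-/
import Cfsg.Agent.Lib.Golay.Transitive
import Cfsg.Agent.Lib.Golay.ClassData

set_option autoImplicit false

namespace Cfsg.Agent.Lib.Golay.Classes

open Cfsg
open scoped Pointwise

/-! ### Packed image lists -/

/-- An image list packed in five-bit digits. -/
def pack : List ℕ → ℕ
  | [] => 0
  | a :: l => a % 24 + 32 * pack l

/-- The image of `i` under a packed list. -/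
def pimg (c i : ℕ) : ℕ := (c >>> (5 * i)) &&& 31

theorem pimg_pack : ∀ (l : List ℕ) (i : ℕ), pimg (pack l) i = applyNum l i
  | [], i => by simp [pack, pimg, applyNum]
  | a :: l, 0 => by
    simp only [pack, pimg, applyNum, Nat.mul_zero, Nat.shiftRight_zero, List.getD_cons_zero]
    rw [show (31 : ℕ) = 2 ^ 5 - 1 from rfl, Nat.and_two_pow_sub_one_eq_mod, show 2 ^ 5 = 32 from rfl,
      Nat.add_mul_mod_self_left, Nat.mod_eq_of_lt]
    omega
  | a :: l, i + 1 => by
    have h : (a % 24 + 32 * pack l) >>> (5 * (i + 1)) = pack l >>> (5 * i) := by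
      rw [Nat.mul_succ, Nat.add_comm (5 * i) 5, Nat.shiftRight_add]
      congr 1
      rw [Nat.shiftRight_eq_div_pow]
      omega
    show ((a % 24 + 32 * pack l) >>> (5 * (i + 1))) &&& 31 = _
    rw [h]
    exact (pimg_pack l i).trans (by simp [applyNum])

theorem pack_congr {l m : List ℕ} (hl : l.length = 24) (hm : m.length = 24)
    (h : ∀ t < 24, applyNum l t = applyNum m t) : pack l = pack m := by
  have main : ∀ (k : ℕ) (l m : List ℕ), l.length = k → m.length = k →
      (∀ t < k, applyNum l t = applyNum m t) → pack l = pack m := by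
    intro k
    induction k with
    | zero =>
      intro l m hl hm _
      rw [List.length_eq_zero_iff.1 hl, List.length_eq_zero_iff.1 hm]
    | succ k ih =>
      intro l m hl hm h
      match l, m, hl, hm with
      | a :: l, b :: m, hl, hm =>
        have h0 := h 0 (by omega)
        simp only [applyNum, List.getD_cons_zero] at h0
        rw [pack, pack, h0, ih l m (by simpa using hl) (by simpa using hm)
          fun t ht => by simpa [applyNum] using h (t + 1) (by omega)]
  exact main 24 l m hl hm h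

/-! ### The stabiliser of four points -/

/-- The 960 elements fixing `23, 0, 1, 2`. -/
def fix4List : List (List ℕ) :=
  Data.level5.2.2.flatMap fun a => Data.level6.2.2.flatMap fun b =>
    Data.level7.2.2.map fun c => compList a (compList b c)

theorem fix4_pack : fix4List.map pack = ClassData.fix4Packed := by decide +kernel

theorem fix4_levels : Data.level5.2.2.all (fun a => Data.level6.2.2.all fun b =>
    Data.level7.2.2.all fun c => validList a && validList b && validList c &&
      validList (compList b c) && validList (compList a (compList b c))) = true := by decide +kernel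

theorem mem_fix4 {h : Equiv.Perm GolayPt} (hh : h ∈ M24 ⊓ fixNums [2, 1, 0, 23]) :
    ∃ c ∈ ClassData.fix4Packed, ∀ i < 24, (idx (h (ptN i))).val = pimg c i := by
  obtain ⟨t, ht, hte⟩ := List.mem_map.1 (chain20.2.2.1 h hh)
  obtain ⟨a, ha, rfl⟩ := List.mem_map.1 ht
  have h1 : (toPerm a)⁻¹ * h ∈ M24 ⊓ fixNums [3, 2, 1, 0, 23] := by
    show _ ∈ M24 ⊓ (fixNums [2, 1, 0, 23] ⊓ MulAction.stabilizer (Equiv.Perm GolayPt) (ptN 3))
    rw [← inf_assoc]
    refine Subgroup.mem_inf.2 ⟨mul_mem (inv_mem (chain20.1 _ ht)) hh, ?_⟩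
    show (toPerm a)⁻¹ (h (ptN 3)) = ptN 3
    rw [Equiv.Perm.inv_eq_iff_eq]
    exact hte.symm
  obtain ⟨t', ht', hte'⟩ := List.mem_map.1 (chain19.2.2.1 _ h1)
  obtain ⟨b, hb, rfl⟩ := List.mem_map.1 ht'
  have h2 : (toPerm b)⁻¹ * ((toPerm a)⁻¹ * h) ∈ M24 ⊓ fixNums [5, 3, 2, 1, 0, 23] := by
    show _ ∈ M24 ⊓ (fixNums [3, 2, 1, 0, 23] ⊓ MulAction.stabilizer (Equiv.Perm GolayPt) (ptN 5))
    rw [← inf_assoc]
    refine Subgroup.mem_inf.2 ⟨mul_mem (inv_mem (chain19.1 _ ht')) h1, ?_⟩
    show (toPerm b)⁻¹ (((toPerm a)⁻¹ * h) (ptN 5)) = ptN 5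
    rw [Equiv.Perm.inv_eq_iff_eq]
    exact hte'.symm
  obtain ⟨c, hc, hce, -⟩ := elems16 h2
  have hv := List.all_eq_true.1 (List.all_eq_true.1 (List.all_eq_true.1 fix4_levels a ha) b hb) c hc
  simp only [Bool.and_eq_true] at hv
  obtain ⟨⟨⟨⟨va, vb⟩, vc⟩, vbc⟩, vabc⟩ := hv
  refine ⟨pack (compList a (compList b c)), ?_, fun i hi => ?_⟩
  · rw [← fix4_pack]
    exact List.mem_map_of_mem (List.mem_flatMap.2 ⟨a, ha, List.mem_flatMap.2
      ⟨b, hb, List.mem_map.2 ⟨c, hc, rfl⟩⟩⟩)
  · have e : h = toPerm (compList a (compList b c)) := by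
      rw [toPerm_mul va vbc vabc, toPerm_mul vb vc vbc, ← hce]
      group
    rw [pimg_pack, e, idx_toPerm vabc, idx_ptN hi]

/-- An element agrees with `g₀ ∘ h` when their images of four base points agree. -/
theorem coset4 {σ : Equiv.Perm GolayPt} (hσ : σ ∈ M24) {g0 : List ℕ} (hg0 : inM24 g0 = true)
    (himg : ∀ b ∈ [2, 1, 0, 23], (idx (σ (ptN b))).val = applyNum g0 b) :
    ∃ c ∈ ClassData.fix4Packed, ∀ i < 24,
      (idx (σ (ptN i))).val = pimg (pack g0) (pimg c i) := by
  have hv := inM24.valid hg0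
  have hmem : (toPerm g0)⁻¹ * σ ∈ M24 ⊓ fixNums [2, 1, 0, 23] := by
    refine Subgroup.mem_inf.2 ⟨mul_mem (inv_mem (toPerm_mem_M24 hg0)) hσ, mem_fixNums.2 fun b hb => ?_⟩
    have hb24 : b < 24 := by
      simp only [List.mem_cons, List.not_mem_nil, or_false] at hb
      omega
    rw [Equiv.Perm.mul_apply, Equiv.Perm.inv_eq_iff_eq]
    apply ptEquiv.injective
    apply Fin.ext
    show (idx (σ (ptN b))).val = (idx (toPerm g0 (ptN b))).val
    rw [idx_toPerm hv, idx_ptN hb24, himg b hb]
  obtain ⟨c, hc, hce⟩ := mem_fix4 hmem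
  refine ⟨c, hc, fun i hi => ?_⟩
  rw [pimg_pack, ← hce i hi, ← idx_toPerm hv, Equiv.Perm.mul_apply]
  simp

/-! ### Solving `k r = s k` -/

/-- Whether `g₀ ∘ c` intertwines `r` with `s` (all packed). -/
def intertw (g0 c r s : ℕ) : Bool :=
  (List.range 24).all fun i => pimg g0 (pimg c (pimg r i)) == pimg s (pimg g0 (pimg c i))

/-- Whether every solution among `starts ∘ fix4` is in the list `known` (packed). -/
def solveOK (r s : ℕ) (starts : List ℕ) (known : List ℕ) : Bool :=
  starts.all fun g0 => ClassData.fix4Packed.all fun c => !intertw g0 c r s ||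
    known.any fun k => (List.range 24).all fun i => pimg k i == pimg g0 (pimg c i)

theorem solve_sound {r s : List ℕ} (hr : validList r = true) (hs : validList s = true)
    {starts known : List (List ℕ)} (hst : starts.all inM24 = true)
    (hkn : known.all validList = true)
    (hok : solveOK (pack r) (pack s) (starts.map pack) (known.map pack) = true)
    {k : Equiv.Perm GolayPt} (hk : k ∈ M24) (hcomm : k * toPerm r = toPerm s * k)
    {g0 : List ℕ} (hg0 : g0 ∈ starts)
    (himg : ∀ b ∈ [2, 1, 0, 23], (idx (k (ptN b))).val = applyNum g0 b) :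
    ∃ l ∈ known, k = toPerm l := by
  obtain ⟨c, hc, hce⟩ := coset4 hk (List.all_eq_true.1 hst g0 hg0) himg
  have := List.all_eq_true.1 (List.all_eq_true.1 hok _ (List.mem_map_of_mem hg0)) c hc
  have hi : intertw (pack g0) c (pack r) (pack s) = true := by
    refine List.all_eq_true.2 fun i hi => beq_iff_eq.2 ?_
    rw [List.mem_range] at hi
    have hri : pimg (pack r) i < 24 := by rw [pimg_pack]; exact applyNum_lt r i
    rw [← hce _ hri, ← hce i hi, pimg_pack s, ← idx_toPerm hs]
    have e : ptN (pimg (pack r) i) = toPerm r (ptN i) := by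
      apply ptEquiv.injective
      apply Fin.ext
      show (idx (ptN _)).val = (idx (toPerm r (ptN i))).val
      rw [idx_ptN hri, idx_toPerm hr, idx_ptN hi, pimg_pack]
    rw [e]
    exact congrArg (fun x => (idx x).val) (Equiv.ext_iff.1 hcomm (ptN i))
  rw [hi, Bool.not_true, Bool.false_or, List.any_eq_true] at this
  obtain ⟨m, hm, hmi⟩ := this
  obtain ⟨l, hl, rfl⟩ := List.mem_map.1 hm
  refine ⟨l, hl, ((toPerm_eq_iff (List.all_eq_true.1 hkn l hl) k).2 fun i => ?_).symm⟩
  have h1 := beq_iff_eq.1 (List.all_eq_true.1 hmi i.val (List.mem_range.2 i.isLt))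
  rw [← pimg_pack l, h1, ← hce i.val i.isLt,
    show ptN i.val = pt i from congrArg pt (Fin.ext (Nat.mod_eq_of_lt i.isLt))]

/-- The image of four base points. -/
def imgs4 (g : List ℕ) : List ℕ := [applyNum g 23, applyNum g 0, applyNum g 1, applyNum g 2]

theorem imgs4_spec {g : List ℕ} {a b c d : ℕ} (h : imgs4 g = [a, b, c, d])
    {k : Equiv.Perm GolayPt} (h1 : (idx (k (ptN 23))).val = a) (h2 : (idx (k (ptN 0))).val = b)
    (h3 : (idx (k (ptN 1))).val = c) (h4 : (idx (k (ptN 2))).val = d) :
    ∀ i ∈ [2, 1, 0, 23], (idx (k (ptN i))).val = applyNum g i := by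
  simp only [imgs4, List.cons.injEq, and_true] at h
  obtain ⟨e1, e2, e3, e4⟩ := h
  simp only [List.mem_cons, List.not_mem_nil, or_false, forall_eq_or_imp, forall_eq]
  exact ⟨h4.trans e4.symm, h3.trans e3.symm, h2.trans e2.symm, h1.trans e1.symm⟩

theorem nodup_images (k : Equiv.Perm GolayPt) {a b c d : ℕ} (h1 : (idx (k (ptN 23))).val = a)
    (h2 : (idx (k (ptN 0))).val = b) (h3 : (idx (k (ptN 1))).val = c)
    (h4 : (idx (k (ptN 2))).val = d) : [a, b, c, d].Nodup := by
  subst h1 h2 h3 h4
  have : ([ptN 23, ptN 0, ptN 1, ptN 2].map fun p => (idx (k p)).val).Nodup := by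
    refine List.Nodup.map ?_ (by decide +kernel)
    intro p q e
    exact k.injective (ptEquiv.injective (Fin.ext e))
  exact this

theorem apply_comm {k : Equiv.Perm GolayPt} {r s : List ℕ} (hr : validList r = true)
    (hs : validList s = true) (hcomm : k * toPerm r = toPerm s * k) {i j : ℕ} (hi : i < 24)
    (hij : applyNum r i = j) :
    (idx (k (ptN j))).val = applyNum s (idx (k (ptN i))).val := by
  rw [← idx_toPerm hs]
  have e : ptN j = toPerm r (ptN i) := by
    apply ptEquiv.injective
    apply Fin.ext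
    show (idx (ptN j)).val = (idx (toPerm r (ptN i))).val
    rw [idx_toPerm hr, idx_ptN hi, hij, idx_ptN (hij ▸ applyNum_lt r i)]
  rw [e]
  exact congrArg (fun x => (idx x).val) (Equiv.ext_iff.1 hcomm (ptN i))

/-- The possible images of `23, 0, 1, 2` of a solution fixing `23`, by order of the element. -/
def tuple (n : ℕ) (s : List ℕ) (x : ℕ) : List ℕ :=
  if n = 2 then [23, applyNum s 23, x, applyNum s x]
  else if n = 3 then [23, applyNum s 23, applyNum s (applyNum s 23), x]
  else [23, applyNum s 23, applyNum s (applyNum s 23), applyNum s (applyNum s (applyNum s 23))]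

/-- The shape needed of the element `r`. -/
def shapeOK (n : ℕ) (r : List ℕ) : Bool :=
  applyNum r 23 == 0 &&
    (if n = 2 then applyNum r 1 == 2 else applyNum r 0 == 1 && (n == 3 || applyNum r 1 == 2))

/-- All possible tuples are realised by the starts. -/
def startsOK (n : ℕ) (s : List ℕ) (starts : List (List ℕ)) : Bool :=
  starts.all inM24 && (List.range 24).all fun x =>
    !decide (tuple n s x).Nodup || starts.any fun g => imgs4 g == tuple n s x

theorem solutions {n : ℕ} {r s : List ℕ} (hr : validList r = true) (hs : validList s = true)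
    (hshape : shapeOK n r = true) {starts known : List (List ℕ)}
    (hst : startsOK n s starts = true) (hkn : known.all validList = true)
    (hok : solveOK (pack r) (pack s) (starts.map pack) (known.map pack) = true)
    {k : Equiv.Perm GolayPt} (hk : k ∈ M24) (hfix : k (ptN 23) = ptN 23)
    (hcomm : k * toPerm r = toPerm s * k) : ∃ l ∈ known, k = toPerm l := by
  simp only [shapeOK, Bool.and_eq_true, beq_iff_eq] at hshape
  obtain ⟨hs0, hs1⟩ := hshape
  simp only [startsOK, Bool.and_eq_true] at hst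
  have h23 : (idx (k (ptN 23))).val = 23 := by rw [hfix, idx_ptN (by norm_num)]
  have h0 : (idx (k (ptN 0))).val = applyNum s 23 := by
    rw [apply_comm hr hs hcomm (i := 23) (by norm_num) hs0, h23]
  have key : ∃ x < 24, ∃ a b c d, tuple n s x = [a, b, c, d] ∧ (idx (k (ptN 23))).val = a ∧
      (idx (k (ptN 0))).val = b ∧ (idx (k (ptN 1))).val = c ∧ (idx (k (ptN 2))).val = d := by
    by_cases h2 : n = 2
    · subst h2
      simp only [if_true, beq_iff_eq] at hs1
      refine ⟨_, (idx (k (ptN 1))).isLt, _, _, _, _, rfl, h23, h0, rfl, ?_⟩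
      exact apply_comm hr hs hcomm (i := 1) (by norm_num) hs1
    · rw [if_neg h2, Bool.and_eq_true, beq_iff_eq, Bool.or_eq_true, beq_iff_eq, beq_iff_eq] at hs1
      have h1 : (idx (k (ptN 1))).val = applyNum s (applyNum s 23) := by
        rw [apply_comm hr hs hcomm (i := 0) (by norm_num) hs1.1, h0]
      by_cases h3 : n = 3
      · exact ⟨_, (idx (k (ptN 2))).isLt, _, _, _, _, by rw [tuple, if_neg h2, if_pos h3],
          h23, h0, h1, rfl⟩
      · refine ⟨0, by norm_num, _, _, _, _, by rw [tuple, if_neg h2, if_neg h3], h23, h0, h1, ?_⟩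
        rw [apply_comm hr hs hcomm (i := 1) (by norm_num) (hs1.2.resolve_left h3), h1]
  obtain ⟨x, hx, a, b, c, d, e, e1, e2, e3, e4⟩ := key
  have := List.all_eq_true.1 hst.2 x (List.mem_range.2 hx)
  rw [e] at this
  simp only [nodup_images k e1 e2 e3 e4, decide_true, Bool.not_true, Bool.false_or,
    List.any_eq_true, beq_iff_eq] at this
  obtain ⟨g, hg, hge⟩ := this
  exact solve_sound hr hs hst.1 hkn hok hk hcomm hg (imgs4_spec hge e1 e2 e3 e4)

/-! ### Centralisers -/

/-- The centraliser of an element inside `M24`. -/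
def centM24 (r : List ℕ) : Subgroup (Equiv.Perm GolayPt) :=
  M24 ⊓ Subgroup.centralizer {toPerm r}

theorem mem_centM24 {r : List ℕ} {k : Equiv.Perm GolayPt} :
    k ∈ centM24 r ↔ k ∈ M24 ∧ k * toPerm r = toPerm r * k := by
  rw [centM24, Subgroup.mem_inf, Subgroup.mem_centralizer_singleton_iff]

/-- Whether an image list commutes with `r` and is in `M24`. -/
def commTest (r : List ℕ) (l : List ℕ) : Bool :=
  inM24 l && (List.range 24).all fun i =>
    pimg (pack l) (pimg (pack r) i) == pimg (pack r) (pimg (pack l) i)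

theorem commTest_sound {r : List ℕ} (hr : validList r = true) {l : List ℕ}
    (h : commTest r l = true) : toPerm l ∈ centM24 r := by
  simp only [commTest, Bool.and_eq_true, List.all_eq_true, List.mem_range, beq_iff_eq,
    pimg_pack] at h
  refine mem_centM24.2 ⟨toPerm_mem_M24 h.1, Equiv.ext fun p => ptEquiv.injective (Fin.ext ?_)⟩
  show (idx (toPerm l (toPerm r p))).val = (idx (toPerm r (toPerm l p))).val
  rw [idx_toPerm (inM24.valid h.1), idx_toPerm hr, idx_toPerm hr, idx_toPerm (inM24.valid h.1)]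
  exact h.2 _ (idx p).isLt

/-- The certificate for a centraliser: transversal for the orbit of `23`, list of the rest. -/
def centOK (n : ℕ) (r : List ℕ) (wit cent starts : List (List ℕ)) : Bool :=
  validList r && shapeOK n r && startsOK n r starts &&
    (wit.all (commTest r)) && (cent.all fun l => commTest r l && l.length == 24 && applyNum l 23 == 23) &&
    decide (wit.map fun l => applyNum l 23).Nodup && decide (cent.map pack).Nodup &&
    ((List.range 24).all fun i => applyNum r i == i || (wit.map fun l => applyNum l 23).contains i) &&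
    solveOK (pack r) (pack r) (starts.map pack) (cent.map pack)

section Cent

variable {n : ℕ} {r : List ℕ} {wit cent starts : List (List ℕ)}

theorem centOK_valid (h : centOK n r wit cent starts = true) : validList r = true := by
  simp only [centOK, Bool.and_eq_true] at h
  exact h.1.1.1.1.1.1.1.1

theorem cent_mem (h : centOK n r wit cent starts = true) :
    (∀ w ∈ wit, toPerm w ∈ centM24 r) ∧
      ∀ l ∈ cent, toPerm l ∈ centM24 r ∧ toPerm l (ptN 23) = ptN 23 := by
  have hv := centOK_valid h
  simp only [centOK, Bool.and_eq_true, List.all_eq_true, beq_iff_eq] at h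
  obtain ⟨⟨⟨⟨⟨⟨-, hw⟩, hc⟩, -⟩, -⟩, -⟩, -⟩ := h
  refine ⟨fun w hwm => commTest_sound hv (hw w hwm), fun l hl => ?_⟩
  refine ⟨commTest_sound hv (hc l hl).1.1, ptEquiv.injective (Fin.ext ?_)⟩
  have hlv : validList l = true := by
    have := (hc l hl).1.1
    simp only [commTest, Bool.and_eq_true] at this
    exact inM24.valid this.1
  show (idx (toPerm l (ptN 23))).val = (idx (ptN 23)).val
  rw [idx_toPerm hlv, idx_ptN (by norm_num)]
  exact (hc l hl).2

theorem cent_factor (h : centOK n r wit cent starts = true) {k : Equiv.Perm GolayPt}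
    (hk : k ∈ centM24 r) : ∃ w ∈ wit, ∃ l ∈ cent, k = toPerm w * toPerm l := by
  obtain ⟨hwm, hlm⟩ := cent_mem h
  have hv := centOK_valid h
  simp only [centOK, Bool.and_eq_true, List.all_eq_true, decide_eq_true_eq, Bool.or_eq_true,
    beq_iff_eq, List.contains_iff_mem] at h
  obtain ⟨⟨⟨⟨⟨⟨⟨⟨-, hsh⟩, hst⟩, hw⟩, hc⟩, -⟩, -⟩, hcov⟩, hok⟩ := h
  obtain ⟨hk1, hk2⟩ := mem_centM24.1 hk
  have hmoved : applyNum r (idx (k (ptN 23))).val ≠ (idx (k (ptN 23))).val := by
    intro e
    have h1 : toPerm r (k (ptN 23)) = k (ptN 23) := by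
      apply ptEquiv.injective
      apply Fin.ext
      show (idx (toPerm r (k (ptN 23)))).val = _
      rw [idx_toPerm hv]; exact e
    have h2 : toPerm r (ptN 23) = ptN 23 := by
      apply k.injective
      exact ((Equiv.ext_iff.1 hk2 (ptN 23)).trans h1)
    have h3 := idx_toPerm hv (ptN 23)
    rw [h2, idx_ptN (by norm_num)] at h3
    simp only [shapeOK, Bool.and_eq_true, beq_iff_eq] at hsh
    rw [hsh.1] at h3
    omega
  obtain ⟨w, hwin, hwi⟩ := List.mem_map.1
    ((hcov _ (List.mem_range.2 (idx _).isLt)).resolve_left hmoved)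
  have hwv : validList w = true := by
    have := hw w hwin
    simp only [commTest, Bool.and_eq_true] at this
    exact inM24.valid this.1
  have hk' := mem_centM24.1 (mul_mem (inv_mem (hwm w hwin)) hk)
  have hfix : ((toPerm w)⁻¹ * k) (ptN 23) = ptN 23 := by
    rw [Equiv.Perm.mul_apply, Equiv.Perm.inv_eq_iff_eq]
    apply ptEquiv.injective
    apply Fin.ext
    show (idx (k (ptN 23))).val = (idx (toPerm w (ptN 23))).val
    rw [idx_toPerm hwv, idx_ptN (by norm_num), hwi]
  obtain ⟨l, hl, e⟩ := solutions hv hv hsh hst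
    (List.all_eq_true.2 fun l hl => by
      have := (hc l hl).1.1
      simp only [commTest, Bool.and_eq_true] at this
      exact inM24.valid this.1)
    hok hk'.1 hfix hk'.2
  exact ⟨w, hwin, l, hl, by rw [← e]; simp⟩

theorem card_centM24 (h : centOK n r wit cent starts = true) :
    Nat.card (centM24 r) = wit.length * cent.length := by
  classical
  obtain ⟨hwm, hlm⟩ := cent_mem h
  have h' := h
  simp only [centOK, Bool.and_eq_true, List.all_eq_true, decide_eq_true_eq, beq_iff_eq] at h'
  obtain ⟨⟨⟨⟨⟨⟨-, hw⟩, hc⟩, hnw⟩, hnc⟩, -⟩, -⟩ := h'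
  have hwv : ∀ w ∈ wit, validList w = true := fun w hw' => by
    have := hw w hw'
    simp only [commTest, Bool.and_eq_true] at this
    exact inM24.valid this.1
  have hlv : ∀ l ∈ cent, validList l = true := fun l hl' => by
    have := (hc l hl').1.1
    simp only [commTest, Bool.and_eq_true] at this
    exact inM24.valid this.1
  let f : Fin wit.length × Fin cent.length → centM24 r := fun x =>
    ⟨toPerm (wit.get x.1) * toPerm (cent.get x.2),
      mul_mem (hwm _ (List.get_mem _ _)) (hlm _ (List.get_mem _ _)).1⟩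
  have hb : Function.Bijective f := by
    constructor
    · rintro ⟨i, j⟩ ⟨i', j'⟩ e
      have e' : toPerm (wit.get i) * toPerm (cent.get j) =
          toPerm (wit.get i') * toPerm (cent.get j') := Subtype.ext_iff.1 e
      have e1 := congrArg (fun σ : Equiv.Perm GolayPt => (idx (σ (ptN 23))).val) e'
      simp only [Equiv.Perm.mul_apply, (hlm _ (List.get_mem _ _)).2] at e1
      rw [idx_toPerm (hwv _ (List.get_mem _ _)), idx_toPerm (hwv _ (List.get_mem _ _)),
        idx_ptN (by norm_num)] at e1
      have hi : i = i' := Fin.ext ((hnw.getElem_inj_iff (hi := by simp) (hj := by simp)).1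
        (by simpa using e1))
      subst hi
      have e2 := mul_left_cancel e'
      refine Prod.ext rfl (Fin.ext ((hnc.getElem_inj_iff (hi := by simp) (hj := by simp)).1 ?_))
      simp only [List.getElem_map]
      have happ : ∀ t < 24, applyNum (cent.get j) t = applyNum (cent.get j') t := fun t ht => by
        have := congrArg (fun σ : Equiv.Perm GolayPt => (idx (σ (ptN t))).val) e2
        simpa only [idx_toPerm (hlv _ (List.get_mem _ _)), idx_ptN ht] using this
      exact pack_congr (hc _ (List.getElem_mem _)).1.2 (hc _ (List.getElem_mem _)).1.2 happ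
    · rintro ⟨k, hk⟩
      obtain ⟨w, hw', l, hl', rfl⟩ := cent_factor h hk
      obtain ⟨i, rfl⟩ := List.get_of_mem hw'
      obtain ⟨j, rfl⟩ := List.get_of_mem hl'
      exact ⟨(i, j), rfl⟩
  rw [← Nat.card_congr (Equiv.ofBijective f hb), Nat.card_prod, Nat.card_fin, Nat.card_fin]

end Cent

/-! ### Conjugacy -/

/-- `g₀ ∘ c` has `n`-th power one. -/
def powOne (n g0 c : ℕ) : Bool :=
  (List.range 24).all fun i => (List.range n).foldl (fun x _ => pimg g0 (pimg c x)) i == i

/-- Every candidate of the coset with `n`-th power one is conjugate to one of the targets. -/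
def conjOK (n : ℕ) (g0 : List ℕ) (cands : List (List ℕ × List ℕ)) : Bool :=
  inM24 g0 && (cands.all fun e => validList e.1 && inM24 e.2) &&
    ClassData.fix4Packed.all fun c => !powOne n (pack g0) c || cands.any fun e =>
      (List.range 24).all fun i =>
        pimg (pack e.2) (pimg (pack e.1) i) == pimg (pack g0) (pimg c (pimg (pack e.2) i))

theorem conjOK_sound {n : ℕ} {g0 : List ℕ} {cands : List (List ℕ × List ℕ)}
    (h : conjOK n g0 cands = true) {σ : Equiv.Perm GolayPt} (hσ : σ ∈ M24) (hn : σ ^ n = 1)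
    (himg : ∀ b ∈ [2, 1, 0, 23], (idx (σ (ptN b))).val = applyNum g0 b) :
    ∃ e ∈ cands, ∃ k ∈ M24, k * toPerm e.1 * k⁻¹ = σ := by
  simp only [conjOK, Bool.and_eq_true, List.all_eq_true, Bool.or_eq_true, List.any_eq_true,
    Bool.not_eq_true', List.mem_range, beq_iff_eq] at h
  obtain ⟨⟨hg0, hc⟩, hall⟩ := h
  obtain ⟨c, hcm, hce⟩ := coset4 hσ hg0 himg
  have hp : powOne n (pack g0) c = true := by
    refine List.all_eq_true.2 fun i hi => beq_iff_eq.2 ?_
    rw [List.mem_range] at hi
    have main : ∀ m : ℕ, (List.range m).foldl (fun x _ => pimg (pack g0) (pimg c x)) i =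
        (idx ((σ ^ m) (ptN i))).val := by
      intro m
      induction m with
      | zero => simp [idx_ptN hi]
      | succ m ih =>
        rw [List.range_succ, List.foldl_append, List.foldl_cons, List.foldl_nil, ih, pow_succ',
          Equiv.Perm.mul_apply, ← hce _ (Fin.isLt _), ptN_idx]
    rw [main n, hn, Equiv.Perm.one_apply, idx_ptN hi]
  rcases hall c hcm with h' | ⟨e, he, hee⟩
  · rw [hp] at h'; exact absurd h' (by simp)
  refine ⟨e, he, toPerm e.2, toPerm_mem_M24 (hc e he).2, ?_⟩
  rw [mul_inv_eq_iff_eq_mul]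
  refine Equiv.ext fun p => ptEquiv.injective (Fin.ext ?_)
  show (idx (toPerm e.2 (toPerm e.1 p))).val = (idx (σ (toPerm e.2 p))).val
  rw [idx_toPerm (inM24.valid (hc e he).2), idx_toPerm (hc e he).1, ← pimg_pack, ← pimg_pack,
    hee _ (idx p).isLt]
  conv_rhs => rw [← ptN_idx (toPerm e.2 p), hce _ (idx _).isLt,
    idx_toPerm (inM24.valid (hc e he).2), ← pimg_pack]

/-- Five distinct points go to `23, 0, 1, 2, 3`. -/
theorem move_five (xs : List GolayPt) (hl : xs.length = 5) (hnd : xs.Nodup) :
    ∃ k ∈ M24, xs.map k = [ptN 23, ptN 0, ptN 1, ptN 2, ptN 3] :=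
  exists_map_list xs _ (by rw [hl]; rfl) hl.le hnd (by decide +kernel)

theorem octad_avoid (p a b : GolayPt) (ha : p ≠ a) (hb : p ≠ b) :
    ∃ o ∈ octads, p ∈ o ∧ a ∉ o ∧ b ∉ o := by
  have hbase : (List.range 4096).any (fun x => popCount (encode x) == 8 && (encode x).testBit 23 &&
      !(encode x).testBit 0 && !(encode x).testBit 1) = true := by decide +kernel
  obtain ⟨x, _, hx⟩ := List.any_eq_true.1 hbase
  simp only [Bool.and_eq_true, beq_iff_eq, Bool.not_eq_true'] at hx
  obtain ⟨⟨⟨h8, h23⟩, h0⟩, h1⟩ := hx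
  have ho : ptsOf (encode x) ∈ octads :=
    mem_octads_iff.2 ⟨encode_isCodeSet x, by rw [card_ptsOf, h8]⟩
  obtain ⟨k, hk, hk23, hk0, hk1⟩ : ∃ k ∈ M24, k (ptN 23) = p ∧ k (ptN 0) = a ∧
      (k (ptN 1) = b ∨ b = a) := by
    by_cases hab : b = a
    · obtain ⟨k, hk, e⟩ := exists_map_list [ptN 23, ptN 0] [p, a] rfl (by simp)
        (by decide +kernel) (by simp [ha])
      simp only [List.map_cons, List.map_nil, List.cons.injEq, and_true] at e
      exact ⟨k, hk, e.1, e.2, Or.inr hab⟩
    · obtain ⟨k, hk, e⟩ := exists_map_list [ptN 23, ptN 0, ptN 1] [p, a, b] rfl (by simp)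
        (by decide +kernel) (by simp [ha, hb, Ne.symm hab])
      simp only [List.map_cons, List.map_nil, List.cons.injEq, and_true] at e
      exact ⟨k, hk, e.1, e.2.1, Or.inl e.2.2⟩
  have hbit : ∀ i < 24, (k (ptN i) ∈ k • ptsOf (encode x) ↔ (encode x).testBit i = true) :=
    fun i hi => by
      rw [smul_finset_eq_image, Function.Injective.mem_finset_image k.injective, mem_ptsOf,
        idx_ptN hi]
  have n0 : a ∉ k • ptsOf (encode x) := by
    rw [← hk0, hbit 0 (by norm_num)]; simp [h0]
  refine ⟨k • ptsOf (encode x), M24_octad hk ho, by rw [← hk23, hbit 23 (by norm_num)]; exact h23,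
    n0, ?_⟩
  rcases hk1 with e | e
  · rw [← e, hbit 1 (by norm_num)]; simp [h1]
  · rw [e]; exact n0

/-- An element moving a point moves some point outside any two others (and that point). -/
theorem exists_moved {σ : Equiv.Perm GolayPt} (hσ : σ ∈ M24) {p a b : GolayPt} (hp : σ p ≠ p)
    (hpa : p ≠ a) (hpb : p ≠ b) : ∃ q, q ≠ p ∧ q ≠ a ∧ q ≠ b ∧ σ q ≠ q := by
  by_contra hno
  push Not at hno
  obtain ⟨o, ho, hpo, hao, hbo⟩ := octad_avoid p a b hpa hpb
  have he : σ • o = o := by
    refine octad_eq_of_five_le (M24_octad hσ ho) ho ?_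
    have hsub : o.erase p ⊆ σ • o ∩ o := by
      intro q hq
      rw [Finset.mem_erase] at hq
      rw [Finset.mem_inter, smul_finset_eq_image]
      refine ⟨?_, hq.2⟩
      rw [← hno q hq.1 (fun e => hao (e ▸ hq.2)) (fun e => hbo (e ▸ hq.2))]
      exact Finset.mem_image_of_mem _ hq.2
    have := Finset.card_le_card hsub
    rw [Finset.card_erase_of_mem hpo, (mem_octads_iff.1 ho).2] at this
    omega
  have hmem : σ p ∈ o := (mem_iff_of_smul_eq he p).2 hpo
  have h1 := hno (σ p) hp (fun e => hao (e ▸ hmem)) (fun e => hbo (e ▸ hmem))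
  exact hp (σ.injective h1)

theorem conj_of_images {n : ℕ} {g0 : List ℕ} {cands : List (List ℕ × List ℕ)}
    (h : conjOK n g0 cands = true) {σ : Equiv.Perm GolayPt} (hσ : σ ∈ M24) (hn : σ ^ n = 1)
    {k : Equiv.Perm GolayPt} (hk : k ∈ M24) {xs : List GolayPt}
    (hkx : xs.map k = [ptN 23, ptN 0, ptN 1, ptN 2])
    (himg : xs.map (fun x => (idx (k (σ x))).val) = imgs4 g0) :
    ∃ e ∈ cands, ∃ c ∈ M24, c * toPerm e.1 * c⁻¹ = σ := by
  have h' : ∀ x ∈ xs, (k * σ * k⁻¹) (k x) = k (σ x) := fun x _ => by simp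
  have hm : [ptN 23, ptN 0, ptN 1, ptN 2].map (fun p => (idx ((k * σ * k⁻¹) p)).val) = imgs4 g0 := by
    rw [← hkx, List.map_map, ← himg]
    exact List.map_congr_left fun x hx => by simp [Function.comp]
  simp only [List.map_cons, List.map_nil] at hm
  obtain ⟨e, he, c, hc, hce⟩ := conjOK_sound h (mul_mem (mul_mem hk hσ) (inv_mem hk))
    (by rw [conj_pow, hn, mul_one, mul_inv_cancel]) (imgs4_spec hm.symm rfl rfl rfl rfl)
  refine ⟨e, he, k⁻¹ * c, mul_mem (inv_mem hk) hc, ?_⟩
  calc k⁻¹ * c * toPerm e.1 * (k⁻¹ * c)⁻¹ = k⁻¹ * (c * toPerm e.1 * c⁻¹) * k := by group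
    _ = σ := by rw [hce]; group

/-- The number of fixed points. -/
def fixCount (σ : Equiv.Perm GolayPt) : ℕ := (Finset.univ.filter fun p => σ p = p).card

theorem fixCount_conj (k σ : Equiv.Perm GolayPt) : fixCount (k * σ * k⁻¹) = fixCount σ := by
  refine Finset.card_equiv (k⁻¹ : Equiv.Perm GolayPt) fun p => ?_
  show p ∈ Finset.univ.filter (fun p => (k * σ * k⁻¹) p = p) ↔ _
  rw [Finset.mem_filter, Finset.mem_filter]
  simp only [Finset.mem_univ, true_and, Equiv.Perm.mul_apply]
  exact k.apply_eq_iff_eq_symm_apply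

end Cfsg.Agent.Lib.Golay.Classes
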