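/-
The classes of elements of order 2, 3 and 7 in `Cfsg.M24` and transport of facts along conjugation.
-/
import Cfsg.Agent.Lib.Golay.Classes
import Cfsg.Agent.Lib.Golay.StabCert

set_option autoImplicit false
set_option maxRecDepth 1000000

namespace Cfsg.Agent.Lib.Golay.Classes

open Cfsg
open scoped Pointwise
open Cfsg.Agent.Lib.Orbit
open Cfsg.Agent.Lib.Golay.StabCert

/-! ### The three class certificates -/

theorem conj2_ok : conjOK 2 ClassData.start2 ClassData.conj2 = true := by decide +kernel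

theorem conj3_ok : conjOK 3 ClassData.start3 ClassData.conj3 = true := by decide +kernel

theorem conj7_ok : conjOK 7 ClassData.start7 ClassData.conj7 = true := by decide +kernel

theorem conj2_reps : ClassData.conj2.all (fun e =>
    e.1 == ClassData.rep2f8 || e.1 == ClassData.rep2f0) = true := by decide +kernel

theorem conj3_reps : ClassData.conj3.all (fun e =>
    e.1 == ClassData.rep3f6 || e.1 == ClassData.rep3f0) = true := by decide +kernel

theorem conj7_reps : ClassData.conj7.all (fun e =>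
    e.1 == ClassData.rep7f3 || e.1 == ClassData.rep7x3) = true := by decide +kernel

theorem exists_point {σ : Equiv.Perm GolayPt} {n : ℕ} (h : orderOf σ = n) (hn : n ≠ 1) :
    ∃ p, σ p ≠ p := by
  by_contra hno
  push Not at hno
  have : σ = 1 := Equiv.ext hno
  rw [this, orderOf_one] at h
  exact hn h.symm

theorem classify_two {σ : Equiv.Perm GolayPt} (hσ : σ ∈ M24) (h : orderOf σ = 2) :
    ∃ r ∈ [ClassData.rep2f8, ClassData.rep2f0], ∃ k ∈ M24, k * toPerm r * k⁻¹ = σ := by
  obtain ⟨p, hp⟩ := exists_point h (by norm_num)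
  obtain ⟨q, hqp, hqa, -, hq⟩ := exists_moved hσ hp (Ne.symm hp) (Ne.symm hp)
  have hpow : σ ^ 2 = 1 := h ▸ pow_orderOf_eq_one σ
  have inv2 : ∀ x, σ (σ x) = x := fun x => by
    have e := Equiv.ext_iff.1 hpow x
    simpa [pow_two] using e
  have hqs : σ q ≠ p := fun e => hqa (by rw [← e, inv2])
  have hqs' : σ q ≠ σ p := fun e => hqp (σ.injective e)
  have hnd : [p, σ p, q, σ q].Nodup := by
    simp [Ne.symm hp, Ne.symm hqp, Ne.symm hqs, Ne.symm hqa, Ne.symm hqs', Ne.symm hq]
  obtain ⟨k, hk, e⟩ := exists_map_list [p, σ p, q, σ q] [ptN 23, ptN 0, ptN 1, ptN 2] rfl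
    (by simp) hnd (by decide +kernel)
  have e' := e
  simp only [List.map_cons, List.map_nil, List.cons.injEq, and_true] at e'
  obtain ⟨ep, esp, eq, esq⟩ := e'
  obtain ⟨x, hx, c, hc, hcx⟩ := conj_of_images conj2_ok hσ hpow hk e (by
    simp only [List.map_cons, List.map_nil, inv2, ep, esp, eq, esq]
    decide +kernel)
  have := List.all_eq_true.1 conj2_reps x hx
  simp only [Bool.or_eq_true, beq_iff_eq] at this
  refine ⟨x.1, ?_, c, hc, hcx⟩
  rcases this with e | e <;> simp [e]

theorem classify_three {σ : Equiv.Perm GolayPt} (hσ : σ ∈ M24) (h : orderOf σ = 3) :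
    ∃ r ∈ [ClassData.rep3f6, ClassData.rep3f0], ∃ k ∈ M24, k * toPerm r * k⁻¹ = σ := by
  obtain ⟨p, hp⟩ := exists_point h (by norm_num)
  have hpow : σ ^ 3 = 1 := h ▸ pow_orderOf_eq_one σ
  have inv3 : ∀ x, σ (σ (σ x)) = x := fun x => by
    have e := Equiv.ext_iff.1 hpow x
    simpa [pow_succ] using e
  have h2 : σ (σ p) ≠ p := fun e => hp (by have := inv3 p; rw [e] at this; exact this)
  obtain ⟨q, hqp, hqa, hqb, hq⟩ := exists_moved hσ hp (Ne.symm hp) (Ne.symm h2)
  have hqs : σ q ≠ p := fun e => hqb (by rw [← e, inv3])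
  have hqs' : σ q ≠ σ p := fun e => hqp (σ.injective e)
  have hqs'' : σ q ≠ σ (σ p) := fun e => hqa (σ.injective e)
  have hnd : [p, σ p, σ (σ p), q, σ q].Nodup := by
    simp [Ne.symm hp, Ne.symm h2, Ne.symm hqp, Ne.symm hqs, Ne.symm hqa, Ne.symm hqs',
      Ne.symm hqb, Ne.symm hqs'', Ne.symm hq]
  obtain ⟨k, hk, e⟩ := move_five [p, σ p, σ (σ p), q, σ q] rfl hnd
  simp only [List.map_cons, List.map_nil, List.cons.injEq, and_true] at e
  obtain ⟨ep, e1, e2, eq, esq⟩ := e
  obtain ⟨x, hx, c, hc, hcx⟩ := conj_of_images conj3_ok hσ hpow hk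
    (xs := [p, σ p, σ (σ p), q]) (by simp [ep, e1, e2, eq]) (by
    simp only [List.map_cons, List.map_nil, inv3, ep, e1, e2, esq]
    decide +kernel)
  have := List.all_eq_true.1 conj3_reps x hx
  simp only [Bool.or_eq_true, beq_iff_eq] at this
  refine ⟨x.1, ?_, c, hc, hcx⟩
  rcases this with e | e <;> simp [e]

theorem not_fixed_pow {σ : Equiv.Perm GolayPt} {p : GolayPt} (hp : σ p ≠ p) {d m : ℕ}
    (hm : σ ^ (d * m) = σ) : (σ ^ d) p ≠ p := by
  intro e
  apply hp
  have h1 : ∀ k : ℕ, ((σ ^ d) ^ k) p = p := by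
    intro k
    induction k with
    | zero => simp
    | succ k ih => rw [pow_succ, Equiv.Perm.mul_apply, e, ih]
  have h2 := h1 m
  rwa [← pow_mul, hm] at h2

theorem classify_seven {σ : Equiv.Perm GolayPt} (hσ : σ ∈ M24) (h : orderOf σ = 7) :
    ∃ r ∈ [ClassData.rep7f3, ClassData.rep7x3], ∃ k ∈ M24, k * toPerm r * k⁻¹ = σ := by
  obtain ⟨p, hp⟩ := exists_point h (by norm_num)
  have hpow : σ ^ 7 = 1 := h ▸ pow_orderOf_eq_one σ
  have hd : ∀ d m : ℕ, d * m % 7 = 1 → (σ ^ d) p ≠ p := fun d m hdm => not_fixed_pow hp (m := m)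
    (by rw [← pow_mod_orderOf, h, hdm, pow_one])
  have h2 : σ (σ p) ≠ p := by simpa [pow_succ] using hd 2 4 (by norm_num)
  have h3 : σ (σ (σ p)) ≠ p := by simpa [pow_succ] using hd 3 5 (by norm_num)
  have h4 : σ (σ (σ (σ p))) ≠ p := by simpa [pow_succ] using hd 4 2 (by norm_num)
  have hnd : [p, σ p, σ (σ p), σ (σ (σ p)), σ (σ (σ (σ p)))].Nodup := by
    simp [Ne.symm hp, Ne.symm h2, Ne.symm h3, Ne.symm h4]
  obtain ⟨k, hk, e⟩ := move_five [p, σ p, σ (σ p), σ (σ (σ p)), σ (σ (σ (σ p)))] rfl hnd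
  simp only [List.map_cons, List.map_nil, List.cons.injEq, and_true] at e
  obtain ⟨ep, e1, e2, e3, e4⟩ := e
  obtain ⟨x, hx, c, hc, hcx⟩ := conj_of_images conj7_ok hσ hpow hk
    (xs := [p, σ p, σ (σ p), σ (σ (σ p))]) (by simp [ep, e1, e2, e3]) (by
    simp only [List.map_cons, List.map_nil, ep, e1, e2, e3, e4]
    decide +kernel)
  have := List.all_eq_true.1 conj7_reps x hx
  simp only [Bool.or_eq_true, beq_iff_eq] at this
  refine ⟨x.1, ?_, c, hc, hcx⟩
  rcases this with e | e <;> simp [e]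

theorem reps_valid : [ClassData.rep2f8, ClassData.rep2f0, ClassData.rep3f6, ClassData.rep3f0,
    ClassData.rep7f3, ClassData.rep7x2, ClassData.rep7x3, ClassData.rep7x4, ClassData.rep7x5,
    ClassData.rep7x6].all inM24 = true := by decide +kernel

/-! ### Fixed points -/

/-- The number of fixed indices of an image list. -/
def fixNum (l : List ℕ) : ℕ :=
  (Finset.univ.filter fun i : Fin 24 => applyNum l i.val = i.val).card

theorem fixCount_toPerm {l : List ℕ} (hl : validList l = true) :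
    fixCount (toPerm l) = fixNum l := by
  refine Finset.card_equiv ptEquiv fun p => ?_
  show p ∈ Finset.univ.filter (fun q => toPerm l q = q) ↔ _
  rw [Finset.mem_filter, Finset.mem_filter]
  simp only [Finset.mem_univ, true_and]
  show toPerm l p = p ↔ applyNum l (idx p).val = (idx p).val
  rw [← idx_toPerm hl]
  constructor
  · intro e; rw [e]
  · intro e; exact ptEquiv.injective (Fin.ext e)

theorem fixNum_reps : fixNum ClassData.rep2f8 = 8 ∧ fixNum ClassData.rep2f0 = 0 ∧
    fixNum ClassData.rep3f6 = 6 ∧ fixNum ClassData.rep3f0 = 0 := by decide +kernel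

theorem fixCount_eq_zero {σ : Equiv.Perm GolayPt} : fixCount σ = 0 ↔ ∀ p, σ p ≠ p := by
  rw [fixCount, Finset.card_eq_zero, Finset.filter_eq_empty_iff]
  simp

/-! ### Transport along conjugation -/

theorem smul_conj_iff {X : Type*} [MulAction (Equiv.Perm GolayPt) X] (k r : Equiv.Perm GolayPt)
    (x : X) : (k * r * k⁻¹) • x = x ↔ r • k⁻¹ • x = k⁻¹ • x := by
  rw [mul_smul, mul_smul, smul_eq_iff_eq_inv_smul]

theorem ncard_fixed_conj {X : Type*} [MulAction (Equiv.Perm GolayPt) X] (P : Set X)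
    (hP : ∀ g ∈ M24, ∀ x ∈ P, g • x ∈ P) {k r : Equiv.Perm GolayPt} (hk : k ∈ M24) :
    {x | x ∈ P ∧ (k * r * k⁻¹) • x = x}.ncard = {x | x ∈ P ∧ r • x = x}.ncard := by
  have e : {x | x ∈ P ∧ (k * r * k⁻¹) • x = x} = (fun x => k • x) '' {x | x ∈ P ∧ r • x = x} := by
    ext x
    simp only [Set.mem_image, Set.mem_setOf_eq, smul_conj_iff]
    constructor
    · rintro ⟨hx, h⟩
      exact ⟨k⁻¹ • x, ⟨hP _ (inv_mem hk) x hx, h⟩, smul_inv_smul k x⟩
    · rintro ⟨y, ⟨hy, h⟩, rfl⟩
      exact ⟨hP k hk y hy, by rwa [inv_smul_smul]⟩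
  rw [e, Set.ncard_image_of_injective _ (MulAction.injective k)]

theorem conj_mem_cent {k r c : Equiv.Perm GolayPt} :
    c * (k * r * k⁻¹) = k * r * k⁻¹ * c ↔ k⁻¹ * c * k * r = r * (k⁻¹ * c * k) := by
  constructor
  · intro h
    calc k⁻¹ * c * k * r = k⁻¹ * (c * (k * r * k⁻¹)) * k := by group
      _ = r * (k⁻¹ * c * k) := by rw [h]; group
  · intro h
    calc c * (k * r * k⁻¹) = k * (k⁻¹ * c * k * r) * k⁻¹ := by group
      _ = k * r * k⁻¹ * c := by rw [h]; group

theorem card_cent_conj {l : List ℕ} {k : Equiv.Perm GolayPt} (hk : k ∈ M24) :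
    Nat.card {c : Equiv.Perm GolayPt // c ∈ M24 ∧
      c * (k * toPerm l * k⁻¹) = k * toPerm l * k⁻¹ * c} = Nat.card (centM24 l) := by
  refine Nat.card_congr
    { toFun := fun c => ⟨k⁻¹ * c.1 * k, mem_centM24.2
        ⟨mul_mem (mul_mem (inv_mem hk) c.2.1) hk, conj_mem_cent.1 c.2.2⟩⟩
      invFun := fun c => ⟨k * c.1 * k⁻¹, mul_mem (mul_mem hk (mem_centM24.1 c.2).1) (inv_mem hk),
        conj_mem_cent.2 (by
          have := (mem_centM24.1 c.2).2
          simpa [mul_assoc] using this)⟩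
      left_inv := fun c => Subtype.ext (by simp [mul_assoc])
      right_inv := fun c => Subtype.ext (by simp [mul_assoc]) }

/-! ### Fixed families -/

theorem imageMask_lt (l : List ℕ) (m : ℕ) : imageMask l m < 2 ^ 24 := by
  refine Nat.lt_pow_two_of_testBit _ fun j hj => ?_
  by_contra h
  rw [Bool.not_eq_false, imageMask, testBit_imageFold] at h
  rcases h with h | ⟨i, -, -, hi⟩
  · simp at h
  · have := applyNum_lt l i
    omega

theorem smul_ptsOf_eq_iff {l : List ℕ} (hl : validList l = true) {m : ℕ} (hm : m < 2 ^ 24) :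
    toPerm l • ptsOf m = ptsOf m ↔ imageMask l m = m := by
  rw [toPerm_smul_ptsOf hl]
  exact ⟨fun h => ptsOf_injective (imageMask_lt l m) hm h, fun h => by rw [h]⟩

/-- The number of code sets of a given size fixed by an image list. -/
def fixCodeNum (k : ℕ) (l : List ℕ) : ℕ :=
  ((List.range 4096).filter fun x =>
    popCount (encode x) == k && imageMask l (encode x) == encode x).length

theorem ncard_fixed_code (k : ℕ) {l : List ℕ} (hl : validList l = true) :
    {s : Finset GolayPt | IsCodeSet s ∧ s.card = k ∧ toPerm l • s = s}.ncard = fixCodeNum k l :=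
  ncard_isCodeSet_of_test _ (fun m => popCount m == k && imageMask l m == m) fun m hm => by
    simp [card_ptsOf, smul_ptsOf_eq_iff hl hm]

/-- Whether an image list fixes a family of masks. -/
def fixFam (l : List ℕ) (L : List ℕ) : Bool := L.all fun m => L.contains (imageMask l m)

theorem smul_famOf_eq_iff {l : List ℕ} (hl : validList l = true) {L : List ℕ}
    (hL : ∀ m ∈ L, m < 2 ^ 24) : toPerm l • famOf L = famOf L ↔ fixFam l L = true := by
  rw [fixFam, List.all_eq_true]
  constructor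
  · intro h m hm
    have : toPerm l • ptsOf m ∈ famOf L := by
      rw [← h]
      exact Finset.smul_mem_smul_finset (mem_famOf.2 ⟨m, hm, rfl⟩)
    obtain ⟨m', hm', e⟩ := mem_famOf.1 this
    rw [toPerm_smul_ptsOf hl] at e
    exact List.contains_iff_mem.2 (ptsOf_injective (hL m' hm') (imageMask_lt _ _) e ▸ hm')
  · intro h
    refine Finset.eq_of_subset_of_card_le (fun x hx => ?_) (by rw [Finset.card_smul_finset])
    rw [Finset.smul_finset_def, Finset.mem_image] at hx
    obtain ⟨y, hy, rfl⟩ := hx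
    obtain ⟨m, hm, rfl⟩ := mem_famOf.1 hy
    exact mem_famOf.2 ⟨_, List.contains_iff_mem.1 (h m hm), (toPerm_smul_ptsOf hl m).symm⟩

theorem ncard_fixed_fams {P : Set (Finset (Finset GolayPt))} {gens : List (List ℕ)}
    {c0 : List ℕ} {os : List (List ℕ × OrbTree (List ℕ))}
    (h : famCoding.Decomp P gens c0 os) (hc : (os.flatMap Coding.orbCodes).all canonFam = true)
    {l : List ℕ} (hl : validList l = true) :
    {S | S ∈ P ∧ toPerm l • S = S}.ncard =
      ((os.flatMap Coding.orbCodes).filter (fixFam l)).length := by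
  classical
  set codes := os.flatMap Coding.orbCodes
  have hlt : ∀ c ∈ codes, ∀ m ∈ c, m < 2 ^ 24 := fun c hcm =>
    (canonFam_spec (List.all_eq_true.1 hc c hcm)).2
  have e : {S | S ∈ P ∧ toPerm l • S = S} =
      (((codes.filter (fixFam l)).map famOf).toFinset : Set (Finset (Finset GolayPt))) := by
    ext S
    rw [h.codes_eq]
    simp only [Set.mem_setOf_eq, Finset.mem_coe, List.mem_toFinset, List.mem_map, List.mem_filter]
    constructor
    · rintro ⟨⟨c, hcm, rfl⟩, hf⟩
      exact ⟨c, ⟨hcm, (smul_famOf_eq_iff hl (hlt c hcm)).1 hf⟩, rfl⟩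
    · rintro ⟨c, ⟨hcm, hf⟩, rfl⟩
      exact ⟨⟨c, hcm, rfl⟩, (smul_famOf_eq_iff hl (hlt c hcm)).2 hf⟩
  rw [e, Set.ncard_coe_finset, List.toFinset_card_of_nodup, List.length_map]
  exact h.nodup.sublist (List.Sublist.map _ List.filter_sublist)

end Cfsg.Agent.Lib.Golay.Classes
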