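/-
Octads against a dodecad: intersection counts and the Steiner system S(5,6,12) on a dodecad.
-/
import Cfsg.Agent.Lib.Golay.Transitive

set_option autoImplicit false

namespace Cfsg.Agent.Lib.Golay

open Cfsg
open scoped Pointwise symmDiff

theorem octad_dodecad_le {o d : Finset GolayPt} (ho : o ∈ octads) (hd : d ∈ dodecads) :
    (o ∩ d).card ≤ 6 ∧ Even (o ∩ d).card := by
  rw [mem_octads_iff] at ho
  rw [mem_dodecads_iff] at hd
  refine ⟨?_, even_card_inter ho.1 hd.1⟩
  have h := card_symmDiff_add o d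
  rcases card_isCodeSet (ho.1.symmDiff hd.1) with e | e | e | e | e <;> try omega
  have h1 : (o ∩ d).card ≤ o.card := Finset.card_le_card Finset.inter_subset_left
  omega

theorem hexads_steiner {d : Finset GolayPt} (hd : d ∈ dodecads) :
    IsSteinerSystem 5 6 {h : Finset {p : GolayPt // p ∈ d} |
      ∃ o ∈ octads, (o ∩ d).card = 6 ∧ h = Finset.subtype (fun p => p ∈ d) o} := by
  have hmap : ∀ o : Finset GolayPt,
      (Finset.subtype (fun p => p ∈ d) o).map (Function.Embedding.subtype _) = o ∩ d := by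
    intro o
    rw [Finset.subtype_map]
    ext a; simp
  constructor
  · rintro _ ⟨o, _, h6, rfl⟩
    rw [← Finset.card_map (Function.Embedding.subtype _), hmap, h6]
  · intro s hs
    have hsd : s.map (Function.Embedding.subtype _) ⊆ d := fun a ha => by
      obtain ⟨a', -, rfl⟩ := Finset.mem_map.1 ha
      exact a'.2
    obtain ⟨o, ⟨ho, hso⟩, huniq⟩ :=
      octads_steiner.2 (s.map (Function.Embedding.subtype _)) (by rw [Finset.card_map, hs])
    have h6 : (o ∩ d).card = 6 := by
      obtain ⟨hle, hev⟩ := octad_dodecad_le ho hd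
      have : 5 ≤ (o ∩ d).card := by
        rw [← hs, ← Finset.card_map (Function.Embedding.subtype _)]
        exact Finset.card_le_card (Finset.subset_inter hso hsd)
      rw [Nat.even_iff] at hev
      omega
    refine ⟨Finset.subtype (fun p => p ∈ d) o, ⟨⟨o, ho, h6, rfl⟩, ?_⟩, ?_⟩
    · intro a ha
      exact Finset.mem_subtype.2 (hso (Finset.mem_map_of_mem _ ha))
    · rintro _ ⟨⟨o', ho', -, rfl⟩, hs'⟩
      rw [huniq o' ⟨ho', fun a ha => ?_⟩]
      obtain ⟨a', ha', rfl⟩ := Finset.mem_map.1 ha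
      exact Finset.mem_subtype.1 (hs' ha')

theorem smul_inter_finset (g : Equiv.Perm GolayPt) (a b : Finset GolayPt) :
    g • (a ∩ b) = (g • a) ∩ (g • b) := by
  ext p
  simp [← Finset.inv_smul_mem_iff]

theorem ncard_octads_meet {d : Finset GolayPt} (hd : d ∈ dodecads) (i : ℕ) :
    {o : Finset GolayPt | o ∈ octads ∧ (o ∩ d).card = i}.ncard =
      ((List.range 4096).filter fun x =>
        popCount (encode x) == 8 && popCount (encode x &&& Data.dodecad0) == i).length := by
  obtain ⟨g, hg, rfl⟩ := dodecads_transitive dodecad0_mem hd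
  rw [← ncard_isCodeSet_of_test (fun s => s.card = 8 ∧ (s ∩ ptsOf Data.dodecad0).card = i)
    (fun m => popCount m == 8 && popCount (m &&& Data.dodecad0) == i)
    (fun m _ => by simp [card_ptsOf, ← ptsOf_land])]
  have e : {o : Finset GolayPt | o ∈ octads ∧ (o ∩ g • ptsOf Data.dodecad0).card = i} =
      (fun o : Finset GolayPt => g • o) ''
        {s | IsCodeSet s ∧ s.card = 8 ∧ (s ∩ ptsOf Data.dodecad0).card = i} := by
    ext o
    simp only [Set.mem_ofPred_eq, Set.mem_image]
    constructor
    · rintro ⟨ho, hi⟩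
      have h' := mem_octads_iff.mp (M24_octad (inv_mem hg) ho)
      refine ⟨g⁻¹ • o, ⟨h'.1, h'.2, ?_⟩, smul_inv_smul g o⟩
      rw [← Finset.card_smul_finset g, smul_inter_finset, smul_inv_smul, hi]
    · rintro ⟨s, ⟨h1, h2, h3⟩, rfl⟩
      refine ⟨M24_octad hg (mem_octads_iff.mpr ⟨h1, h2⟩), ?_⟩
      rw [← smul_inter_finset, Finset.card_smul_finset, h3]
  rw [e, Set.ncard_image_of_injective _ (MulAction.injective g)]

theorem octads_meet_counts {d : Finset GolayPt} (hd : d ∈ dodecads) :
    {o : Finset GolayPt | o ∈ octads ∧ (o ∩ d).card = 6}.ncard = 132 ∧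
      {o : Finset GolayPt | o ∈ octads ∧ (o ∩ d).card = 2}.ncard = 132 ∧
      {o : Finset GolayPt | o ∈ octads ∧ (o ∩ d).card = 4}.ncard = 495 := by
  rw [ncard_octads_meet hd, ncard_octads_meet hd, ncard_octads_meet hd]
  decide +kernel

end Cfsg.Agent.Lib.Golay
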