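/-
Intersection numbers of Steiner systems S(5,8,24), S(4,7,23), S(3,6,22), S(5,6,12).
-/
import Cfsg.Agent.Lib.Design.Count

set_option autoImplicit false

namespace Cfsg.Agent.Lib.Golay

open Cfsg Finset

variable {α : Type*} [Fintype α] [DecidableEq α] {t k : ℕ} {B : Finset (Finset α)}

theorem choose_sum_inter (hB : IsSteinerSystem t k (B : Set (Finset α))) (Y : Finset α) {j : ℕ}
    (hj : j ≤ t) :
    (∑ b ∈ B, (b ∩ Y).card.choose j) * (k - j).choose (t - j) =
      Y.card.choose j * (Fintype.card α - j).choose (t - j) := by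
  rw [Design.sum_choose_inter, sum_mul, ← card_powersetCard]
  refine sum_const_nat fun P hP => ?_
  rw [mem_powersetCard] at hP
  have := Design.card_blocks_through hB (S := P) (by omega)
  rwa [hP.2] at this

/-- The number of blocks meeting a set in exactly `i` points. -/
def interNum (B : Finset (Finset α)) (Y : Finset α) (i : ℕ) : ℕ :=
  (B.filter fun b => (b ∩ Y).card = i).card

theorem sum_choose_eq_interNum (B : Finset (Finset α)) (Y : Finset α) (j : ℕ) :
    ∑ b ∈ B, (b ∩ Y).card.choose j = ∑ i ∈ range (Y.card + 1), interNum B Y i * i.choose j := by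
  rw [← sum_fiberwise_of_maps_to (g := fun b => (b ∩ Y).card) (t := range (Y.card + 1))
    (f := fun b => (b ∩ Y).card.choose j) (s := B) fun b _ => ?_]
  · refine sum_congr rfl fun i _ => ?_
    rw [sum_const_nat (m := i.choose j) fun b hb => by rw [(mem_filter.1 hb).2]]
    rfl
  · rw [mem_range, Nat.lt_succ_iff]
    exact card_le_card inter_subset_right

theorem block_eq (hB : IsSteinerSystem t k (B : Set (Finset α))) {b c : Finset α} (hb : b ∈ B)
    (hc : c ∈ B) (h : t ≤ (c ∩ b).card) : c = b := by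
  obtain ⟨s, hs, hst⟩ := exists_subset_card_eq h
  exact (hB.2 s hst).unique ⟨mem_coe.2 hc, hs.trans inter_subset_left⟩
    ⟨mem_coe.2 hb, hs.trans inter_subset_right⟩

theorem interNum_high (hB : IsSteinerSystem t k (B : Set (Finset α))) {b : Finset α} (hb : b ∈ B)
    {i : ℕ} (hi : t ≤ i) : interNum B b i = if i = k then 1 else 0 := by
  have hbk : b.card = k := hB.1 b (mem_coe.2 hb)
  split_ifs with h
  · subst h
    rw [interNum, card_eq_one]
    refine ⟨b, eq_singleton_iff_unique_mem.2 ⟨mem_filter.2 ⟨hb, by rw [inter_self, hbk]⟩, ?_⟩⟩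
    intro c hc
    rw [mem_filter] at hc
    exact block_eq hB hb hc.1 (hc.2.symm ▸ hi)
  · rw [interNum, card_eq_zero, filter_eq_empty_iff]
    intro c hc e
    rw [block_eq hB hb hc (e.symm ▸ hi), inter_self, hbk] at e
    exact h e.symm

theorem not_mem_of_interNum_zero {Y : Finset α} {i : ℕ} (h : interNum B Y i = 0) {c : Finset α}
    (hc : c ∈ B) : (c ∩ Y).card ≠ i := by
  rw [interNum, card_eq_zero, filter_eq_empty_iff] at h
  exact h hc

theorem inter_numbers_24 (hα : Fintype.card α = 24)
    (hB : IsSteinerSystem 5 8 (B : Set (Finset α))) {b : Finset α} (hb : b ∈ B) :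
    interNum B b 0 = 30 ∧ interNum B b 1 = 0 ∧ interNum B b 2 = 448 ∧ interNum B b 3 = 0 ∧
      interNum B b 4 = 280 := by
  have hk : b.card = 8 := hB.1 b (mem_coe.2 hb)
  have h := fun j (hj : j ≤ 5) => choose_sum_inter hB b (j := j) hj
  have h0 := h 0 (by norm_num)
  have h1 := h 1 (by norm_num)
  have h2 := h 2 (by norm_num)
  have h3 := h 3 (by norm_num)
  have h4 := h 4 (by norm_num)
  simp only [sum_choose_eq_interNum, hk, hα, sum_range_succ, sum_range_zero,
    interNum_high hB hb (i := 5) (by norm_num), interNum_high hB hb (i := 6) (by norm_num),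
    interNum_high hB hb (i := 7) (by norm_num), interNum_high hB hb (i := 8) (by norm_num)]
    at h0 h1 h2 h3 h4
  norm_num [Nat.choose] at h0 h1 h2 h3 h4
  omega

theorem inter_numbers_23 (hα : Fintype.card α = 23)
    (hB : IsSteinerSystem 4 7 (B : Set (Finset α))) {b : Finset α} (hb : b ∈ B) :
    interNum B b 0 = 0 ∧ interNum B b 1 = 112 ∧ interNum B b 2 = 0 ∧ interNum B b 3 = 140 := by
  have hk : b.card = 7 := hB.1 b (mem_coe.2 hb)
  have h := fun j (hj : j ≤ 4) => choose_sum_inter hB b (j := j) hj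
  have h0 := h 0 (by norm_num)
  have h1 := h 1 (by norm_num)
  have h2 := h 2 (by norm_num)
  have h3 := h 3 (by norm_num)
  simp only [sum_choose_eq_interNum, hk, hα, sum_range_succ, sum_range_zero,
    interNum_high hB hb (i := 4) (by norm_num), interNum_high hB hb (i := 5) (by norm_num),
    interNum_high hB hb (i := 6) (by norm_num), interNum_high hB hb (i := 7) (by norm_num)]
    at h0 h1 h2 h3
  norm_num [Nat.choose] at h0 h1 h2 h3
  omega

theorem inter_numbers_22 (hα : Fintype.card α = 22)
    (hB : IsSteinerSystem 3 6 (B : Set (Finset α))) {b : Finset α} (hb : b ∈ B) :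
    interNum B b 0 = 16 ∧ interNum B b 1 = 0 ∧ interNum B b 2 = 60 := by
  have hk : b.card = 6 := hB.1 b (mem_coe.2 hb)
  have h := fun j (hj : j ≤ 3) => choose_sum_inter hB b (j := j) hj
  have h0 := h 0 (by norm_num)
  have h1 := h 1 (by norm_num)
  have h2 := h 2 (by norm_num)
  simp only [sum_choose_eq_interNum, hk, hα, sum_range_succ, sum_range_zero,
    interNum_high hB hb (i := 3) (by norm_num), interNum_high hB hb (i := 4) (by norm_num),
    interNum_high hB hb (i := 5) (by norm_num), interNum_high hB hb (i := 6) (by norm_num)]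
    at h0 h1 h2
  norm_num [Nat.choose] at h0 h1 h2
  omega

theorem inter_numbers_12 (hα : Fintype.card α = 12)
    (hB : IsSteinerSystem 5 6 (B : Set (Finset α))) {b : Finset α} (hb : b ∈ B) :
    interNum B b 0 = 1 ∧ interNum B b 1 = 0 ∧ interNum B b 2 = 45 ∧ interNum B b 3 = 40 ∧
      interNum B b 4 = 45 := by
  have hk : b.card = 6 := hB.1 b (mem_coe.2 hb)
  have h := fun j (hj : j ≤ 5) => choose_sum_inter hB b (j := j) hj
  have h0 := h 0 (by norm_num)
  have h1 := h 1 (by norm_num)
  have h2 := h 2 (by norm_num)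
  have h3 := h 3 (by norm_num)
  have h4 := h 4 (by norm_num)
  simp only [sum_choose_eq_interNum, hk, hα, sum_range_succ, sum_range_zero,
    interNum_high hB hb (i := 5) (by norm_num), interNum_high hB hb (i := 6) (by norm_num)]
    at h0 h1 h2 h3 h4
  norm_num [Nat.choose] at h0 h1 h2 h3 h4
  omega

/-- The blocks of a Steiner system, as a finset. -/
theorem exists_blocks {B' : Set (Finset α)} : ∃ B : Finset (Finset α), (B : Set (Finset α)) = B' :=
  ⟨B'.toFinite.toFinset, Set.Finite.coe_toFinset _⟩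

theorem inter_24_cases (hα : Fintype.card α = 24) {B' : Set (Finset α)}
    (hB : IsSteinerSystem 5 8 B') {b c : Finset α} (hb : b ∈ B') (hc : c ∈ B') (hne : b ≠ c) :
    (b ∩ c).card = 0 ∨ (b ∩ c).card = 2 ∨ (b ∩ c).card = 4 := by
  obtain ⟨B, rfl⟩ := exists_blocks (B' := B')
  rw [mem_coe] at hb hc
  obtain ⟨-, h1, -, h3, -⟩ := inter_numbers_24 hα hB hc
  have h1' := not_mem_of_interNum_zero h1 hb
  have h3' := not_mem_of_interNum_zero h3 hb
  by_contra
  exact hne (block_eq hB hc hb (by omega))

theorem inter_23_cases (hα : Fintype.card α = 23) {B' : Set (Finset α)}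
    (hB : IsSteinerSystem 4 7 B') {b c : Finset α} (hb : b ∈ B') (hc : c ∈ B') (hne : b ≠ c) :
    (b ∩ c).card = 1 ∨ (b ∩ c).card = 3 := by
  obtain ⟨B, rfl⟩ := exists_blocks (B' := B')
  rw [mem_coe] at hb hc
  obtain ⟨h0, -, h2, -⟩ := inter_numbers_23 hα hB hc
  have h0' := not_mem_of_interNum_zero h0 hb
  have h2' := not_mem_of_interNum_zero h2 hb
  by_contra
  exact hne (block_eq hB hc hb (by omega))

theorem inter_22_cases (hα : Fintype.card α = 22) {B' : Set (Finset α)}
    (hB : IsSteinerSystem 3 6 B') {b c : Finset α} (hb : b ∈ B') (hc : c ∈ B') (hne : b ≠ c) :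
    (b ∩ c).card = 0 ∨ (b ∩ c).card = 2 := by
  obtain ⟨B, rfl⟩ := exists_blocks (B' := B')
  rw [mem_coe] at hb hc
  obtain ⟨-, h1, -⟩ := inter_numbers_22 hα hB hc
  have h1' := not_mem_of_interNum_zero h1 hb
  by_contra
  exact hne (block_eq hB hc hb (by omega))

theorem disjoint_blocks_24 (hα : Fintype.card α = 24) {B' : Set (Finset α)}
    (hB : IsSteinerSystem 5 8 B') {b : Finset α} (hb : b ∈ B') :
    {c : Finset α | c ∈ B' ∧ Disjoint b c}.ncard = 30 := by
  obtain ⟨B, rfl⟩ := exists_blocks (B' := B')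
  rw [← (inter_numbers_24 hα hB hb).1, interNum, ← Set.ncard_coe_finset]
  congr 1
  ext c
  simp only [Set.mem_ofPred_eq, coe_filter, mem_coe, card_eq_zero, ← disjoint_iff_inter_eq_empty]
  rw [disjoint_comm]

theorem compl_block_12 (hα : Fintype.card α = 12) {B' : Set (Finset α)}
    (hB : IsSteinerSystem 5 6 B') {b : Finset α} (hb : b ∈ B') : bᶜ ∈ B' := by
  obtain ⟨B, rfl⟩ := exists_blocks (B' := B')
  rw [mem_coe] at hb ⊢
  have h0 := (inter_numbers_12 hα hB hb).1
  rw [interNum, card_eq_one] at h0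
  obtain ⟨c, hc⟩ := h0
  have hcm : c ∈ B.filter fun x => (x ∩ b).card = 0 := by rw [hc]; exact mem_singleton_self c
  rw [mem_filter, card_eq_zero, ← disjoint_iff_inter_eq_empty] at hcm
  suffices c = bᶜ from this ▸ hcm.1
  refine eq_of_subset_of_card_le (fun x hx => mem_compl.2 (disjoint_left.1 hcm.2 hx)) ?_
  rw [card_compl, hα, hB.1 b (mem_coe.2 hb), hB.1 c (mem_coe.2 hcm.1)]

/-- A set of eight points meeting every block evenly is a block. -/
theorem mem_of_even_inter (hB : IsSteinerSystem 5 8 (B : Set (Finset α))) {X : Finset α}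
    (hX : X.card = 8) (heven : ∀ b ∈ B, Even (b ∩ X).card) : X ∈ B := by
  by_contra hne
  have h := choose_sum_inter hB X (j := 5) le_rfl
  rw [Nat.sub_self, Nat.choose_zero_right, Nat.choose_zero_right, mul_one, mul_one, hX] at h
  have h6 : 6 ∣ ∑ b ∈ B, (b ∩ X).card.choose 5 := by
    refine dvd_sum fun b hb => ?_
    have h8 : (b ∩ X).card ≠ 8 := fun e => hne (by
      have hb8 := hB.1 b (mem_coe.2 hb)
      have e1 : b ∩ X = b := eq_of_subset_of_card_le inter_subset_left (by omega)
      have e2 : b ∩ X = X := eq_of_subset_of_card_le inter_subset_right (by omega)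
      exact (e1.symm.trans e2) ▸ hb)
    have hle : (b ∩ X).card ≤ 8 := hX ▸ card_le_card inter_subset_right
    obtain ⟨r, hr⟩ := heven b hb
    rw [hr] at h8 hle ⊢
    have : r ≤ 3 := by omega
    interval_cases r <;> decide
  rw [h] at h6
  revert h6; decide

theorem symmDiff_block_24 (hα : Fintype.card α = 24) {B' : Set (Finset α)}
    (hB : IsSteinerSystem 5 8 B') {b c : Finset α} (hb : b ∈ B') (hc : c ∈ B')
    (h4 : (b ∩ c).card = 4) : symmDiff b c ∈ B' := by
  obtain ⟨B, rfl⟩ := exists_blocks (B' := B')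
  rw [mem_coe]
  have hev : ∀ x ∈ (B : Set (Finset α)), ∀ y ∈ (B : Set (Finset α)), Even (x ∩ y).card := by
    intro x hx y hy
    by_cases e : x = y
    · rw [← e, inter_self, hB.1 x hx]; exact ⟨4, rfl⟩
    · rcases inter_24_cases hα hB hx hy e with h | h | h <;> rw [h] <;> decide
  have hcard : ∀ s u : Finset α, (symmDiff s u).card + 2 * (s ∩ u).card = s.card + u.card := by
    intro s u
    have h1 : (symmDiff s u).card = (s \ u).card + (u \ s).card :=
      card_union_of_disjoint disjoint_sdiff_sdiff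
    have h2 := card_sdiff_add_card_inter s u
    have h3 := card_sdiff_add_card_inter u s
    rw [inter_comm u s] at h3
    omega
  refine mem_of_even_inter hB ?_ fun x hx => ?_
  · have := hcard b c; rw [hB.1 b hb, hB.1 c hc, h4] at this; omega
  · have h := hcard (x ∩ b) (x ∩ c)
    have hd : x ∩ symmDiff b c = symmDiff (x ∩ b) (x ∩ c) := by
      ext; simp only [mem_inter, mem_symmDiff]; tauto
    rw [hd, Nat.even_iff]
    have h2 := Nat.even_iff.1 (hev x (mem_coe.2 hx) b hb)
    have h3 := Nat.even_iff.1 (hev x (mem_coe.2 hx) c hc)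
    omega

theorem ncard_blocks {B' : Set (Finset α)} (hB : IsSteinerSystem t k B') :
    B'.ncard * k.choose t = (Fintype.card α).choose t := by
  obtain ⟨B, rfl⟩ := exists_blocks (B' := B')
  have := Design.card_blocks_through hB (S := ∅) (by simp)
  simpa [Set.ncard_coe_finset] using this

theorem derived_steiner {B' : Set (Finset α)} (hB : IsSteinerSystem (t + 1) (k + 1) B') (p : α) :
    IsSteinerSystem t k {b' : Finset {a : α // a ≠ p} |
      ∃ b ∈ B', p ∈ b ∧ b' = Finset.subtype (fun a => a ≠ p) b} := by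
  have hsub : ∀ b : Finset α,
      (Finset.subtype (fun a => a ≠ p) b).map (Function.Embedding.subtype _) = b.erase p := by
    intro b
    rw [subtype_map]
    ext a; simp [mem_erase, and_comm]
  constructor
  · rintro _ ⟨b, hb, hp, rfl⟩
    rw [← card_map (Function.Embedding.subtype _), hsub, card_erase_of_mem hp, hB.1 b hb]
    rfl
  · intro s hs
    let s' : Finset α := insert p (s.map (Function.Embedding.subtype _))
    have hpn : p ∉ s.map (Function.Embedding.subtype _) := by simp
    obtain ⟨b, ⟨hb, hsb⟩, huniq⟩ :=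
      hB.2 s' (by rw [card_insert_of_notMem hpn, card_map, hs])
    refine ⟨Finset.subtype (fun a => a ≠ p) b, ⟨⟨b, hb, hsb (mem_insert_self _ _), rfl⟩, ?_⟩, ?_⟩
    · intro a ha
      exact mem_subtype.2 (hsb (mem_insert_of_mem (mem_map_of_mem _ ha)))
    · rintro _ ⟨⟨c, hc, hpc, rfl⟩, hsc⟩
      rw [huniq c ⟨hc, insert_subset hpc fun a ha => ?_⟩]
      obtain ⟨a', ha', rfl⟩ := mem_map.1 ha
      exact mem_subtype.1 (hsc ha')

end Cfsg.Agent.Lib.Golay
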