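/-
Uniqueness of the extended binary Golay code: a self-orthogonal code of dimension 12 and minimum
weight 8 on 24 points is carried onto `Cfsg.golayCode` by a bijection of the points.

An octad `o` of the code is carried to `octad0`; the code words off `o` form a first-order
Reed-Muller code, which gives coordinates on the 16 remaining points; seven words cutting `o` in
pairs `{a₀, aᵢ}` give seven 2-subsets of `octad0` meeting pairwise in one point, hence a star,
which gives the bijection on `o`.
-/
import Cfsg.Agent.Lib.Golay.M24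
import Cfsg.Agent.Lib.BinCode24.Basic

set_option autoImplicit false

namespace Cfsg.Agent.Lib.Golay.Unique

open Cfsg Finset
open scoped symmDiff

variable {α : Type*} [Fintype α] [DecidableEq α] {C : Submodule (ZMod 2) (α → ZMod 2)}

/-- The set `s` is the support of a word of `C`. -/
def Mem (C : Submodule (ZMod 2) (α → ZMod 2)) (s : Finset α) : Prop := BinCode24.word s ∈ C

omit [Fintype α] in
theorem word_symmDiff (s t : Finset α) :
    BinCode24.word (s ∆ t) = BinCode24.word s + BinCode24.word t := by
  funext p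
  simp only [BinCode24.word, Pi.add_apply, mem_symmDiff]
  by_cases hs : p ∈ s <;> by_cases ht : p ∈ t <;> simp [hs, ht] <;> decide

omit [Fintype α] in
theorem Mem.symmDiff {s t : Finset α} (hs : Mem C s) (ht : Mem C t) : Mem C (s ∆ t) := by
  rw [Mem, word_symmDiff]; exact add_mem hs ht

omit [Fintype α] in
theorem mem_empty : Mem C ∅ := by
  rw [Mem, show BinCode24.word (∅ : Finset α) = 0 by funext p; simp [BinCode24.word]]
  exact zero_mem C

variable (h : BinCode24.IsGolay C)
include h

theorem even_inter {s t : Finset α} (hs : Mem C s) (ht : Mem C t) : Even (s ∩ t).card := by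
  have := h.orth _ hs _ ht
  rw [BinCode24.dot_word, BinCode24.supp_word, BinCode24.supp_word,
    ZMod.natCast_eq_zero_iff_even] at this
  exact this

theorem weight {s : Finset α} (hs : Mem C s) :
    s.card = 0 ∨ s.card = 8 ∨ s.card = 12 ∨ s.card = 16 ∨ s.card = 20 ∨ s.card = 24 := by
  have h4 := BinCode24.four_dvd h _ hs
  rw [BinCode24.hammingNorm_word] at h4
  have hle : s.card ≤ 24 := h.card_pts ▸ card_le_univ s
  by_cases h0 : s = ∅
  · simp [h0]
  have hne : BinCode24.word s ≠ 0 := by
    intro e
    apply h0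
    rw [← BinCode24.supp_word s, e]
    simp [BinCode24.supp]
  have h8 := h.min _ hs hne
  rw [BinCode24.hammingNorm_word] at h8
  obtain ⟨k, hk⟩ := h4
  omega

theorem card_code : Nat.card C = 4096 := by
  rw [Module.natCard_eq_pow_finrank (K := ZMod 2) (V := C), h.dim, Nat.card_zmod]
  norm_num

theorem mem_univ_set : Mem C (univ : Finset α) := by
  refine BinCode24.mem_of_orth_octads h fun w hw h8 => ?_
  rw [BinCode24.dot_word, BinCode24.supp_word, inter_univ, ← BinCode24.hammingNorm_eq, h8]
  decide

open Classical in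
/-- The words off `o`. -/
noncomputable def offWords (_h : BinCode24.IsGolay C) (o : Finset α) : Finset (Finset α) :=
  univ.filter fun s => Mem C s ∧ s ⊆ oᶜ

theorem mem_offWords {o s : Finset α} : s ∈ offWords h o ↔ Mem C s ∧ s ⊆ oᶜ := by
  simp [offWords]

open Classical in
/-- All supports. -/
noncomputable def allWords (_h : BinCode24.IsGolay C) : Finset (Finset α) :=
  univ.filter fun s => Mem C s

theorem mem_allWords {s : Finset α} : s ∈ allWords h ↔ Mem C s := by
  simp [allWords]

theorem card_allWords : (allWords h).card = 4096 := by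
  rw [← card_code h, ← Nat.card_eq_finsetCard]
  exact Nat.card_congr
    { toFun := fun s => ⟨BinCode24.word s.1, (mem_allWords h).1 s.2⟩
      invFun := fun w => ⟨BinCode24.supp w.1, (mem_allWords h).2 (by
        rw [Mem, BinCode24.word_supp]; exact w.2)⟩
      left_inv := fun s => Subtype.ext (BinCode24.supp_word s.1)
      right_inv := fun w => Subtype.ext (BinCode24.word_supp w.1) }

variable {o : Finset α} (ho : Mem C o) (ho8 : o.card = 8)
include ho ho8

theorem compl_mem : Mem C oᶜ := by
  have := (mem_univ_set h).symmDiff ho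
  rwa [show (univ : Finset α) ∆ o = oᶜ by ext p; simp [mem_symmDiff]] at this

theorem off_card_cases {s : Finset α} (hs : s ∈ offWords h o) :
    s.card = 0 ∨ s.card = 8 ∨ s = oᶜ := by
  rw [mem_offWords] at hs
  have hc : oᶜ.card = 16 := by rw [card_compl, h.card_pts, ho8]
  have hle : s.card ≤ 16 := hc ▸ card_le_card hs.2
  have hx := (hs.1.symmDiff (compl_mem h ho ho8))
  have hcard : (s ∆ oᶜ).card = 16 - s.card := by
    rw [symmDiff_def, sdiff_eq_bot_iff.2 hs.2, bot_sup_eq, card_sdiff_of_subset hs.2, hc]
  rcases weight h hx with e | e | e | e | e | e <;> rw [hcard] at e <;>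
    rcases weight h hs.1 with e' | e' | e' | e' | e' | e' <;>
    first
      | omega
      | exact Or.inl e'
      | exact Or.inr (Or.inl e')
      | exact Or.inr (Or.inr (eq_of_subset_of_card_le hs.2 (by omega)))

/-- The off-words avoiding a point. -/
noncomputable def offAvoid (o : Finset α) (h : BinCode24.IsGolay C) (x : α) : Finset (Finset α) :=
  (offWords h o).filter fun s => x ∉ s

theorem mem_offAvoid {x : α} {s : Finset α} :
    s ∈ offAvoid o h x ↔ (Mem C s ∧ s ⊆ oᶜ) ∧ x ∉ s := by
  rw [offAvoid, mem_filter, mem_offWords]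

theorem card_offAvoid_mul (x : α) (hx : x ∉ o) :
    2 * (offAvoid o h x).card = (offWords h o).card := by
  have hc := compl_mem h ho ho8
  have hxc : x ∈ oᶜ := mem_compl.2 hx
  have : ((offWords h o).filter fun s => x ∈ s).card = (offAvoid o h x).card := by
    refine card_bij' (fun s _ => s ∆ oᶜ) (fun s _ => s ∆ oᶜ) ?_ ?_ ?_ ?_
    · intro s hs
      rw [mem_filter, mem_offWords] at hs
      rw [mem_offAvoid h ho ho8]
      exact ⟨⟨hs.1.1.symmDiff hc, symmDiff_le (hs.1.2.trans subset_union_right) subset_union_right⟩,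
        by simp [mem_symmDiff, hs.2, hxc]⟩
    · intro s hs
      rw [mem_offAvoid h ho ho8] at hs
      rw [mem_filter, mem_offWords]
      exact ⟨⟨hs.1.1.symmDiff hc, symmDiff_le (hs.1.2.trans subset_union_right) subset_union_right⟩,
        by simp [mem_symmDiff, hs.2, hxc]⟩
    · intro s _; simp
    · intro s _; simp
  have h2 := card_filter_add_card_filter_not (s := offWords h o) (p := fun s => x ∈ s)
  rw [offAvoid] at *
  omega

theorem plotkin (x : α) (hx : x ∉ o) (hge : 16 ≤ (offAvoid o h x).card) :
    (offAvoid o h x).card = 16 ∧ ∀ y ∉ o, (∀ s ∈ offAvoid o h x, y ∉ s) → y = x := by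
  classical
  set W := offAvoid o h x with hW
  have hc : oᶜ.card = 16 := by rw [card_compl, h.card_pts, ho8]
  have hmem : ∀ {s}, s ∈ W ↔ (Mem C s ∧ s ⊆ oᶜ) ∧ x ∉ s := mem_offAvoid h ho ho8
  have hw8 : ∀ s ∈ W.erase ∅, s.card = 8 := by
    intro s hs
    rw [mem_erase] at hs
    have hs' := hmem.1 hs.2
    rcases off_card_cases h ho ho8 ((mem_offWords h).2 hs'.1) with e | e | e
    · exact absurd (card_eq_zero.1 e) hs.1
    · exact e
    · exact absurd (e ▸ mem_compl.2 hx) hs'.2
  have h0 : ∅ ∈ W := hmem.2 ⟨⟨mem_empty, empty_subset _⟩, notMem_empty x⟩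
  have hsum1 : ∑ s ∈ W, s.card = 8 * (W.card - 1) := by
    rw [← add_sum_erase _ _ h0, card_empty, zero_add, sum_const_nat hw8, card_erase_of_mem h0]
    ring
  set A := oᶜ.filter fun y => ∀ s ∈ W, y ∉ s with hA
  have hxA : x ∈ A := mem_filter.2 ⟨mem_compl.2 hx, fun s hs => (hmem.1 hs).2⟩
  have hhalf : ∀ y ∈ oᶜ \ A, 2 * (W.filter fun s => y ∈ s).card = W.card := by
    intro y hy
    rw [mem_sdiff, hA, mem_filter] at hy
    obtain ⟨s0, hs0, hy0⟩ : ∃ s0 ∈ W, y ∈ s0 := by
      by_contra hh
      push Not at hh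
      exact hy.2 ⟨hy.1, hh⟩
    have hs0' := hmem.1 hs0
    have hcl : ∀ s ∈ W, s ∆ s0 ∈ W := by
      intro s hs
      have hs' := hmem.1 hs
      exact hmem.2 ⟨⟨hs'.1.1.symmDiff hs0'.1.1,
        symmDiff_le (hs'.1.2.trans subset_union_right) (hs0'.1.2.trans subset_union_right)⟩,
        by simp [mem_symmDiff, hs'.2, hs0'.2]⟩
    have e : (W.filter fun s => y ∈ s).card = (W.filter fun s => y ∉ s).card := by
      refine card_bij' (fun s _ => s ∆ s0) (fun s _ => s ∆ s0) ?_ ?_ ?_ ?_
      · intro s hs
        rw [mem_filter] at hs ⊢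
        exact ⟨hcl s hs.1, by simp [mem_symmDiff, hs.2, hy0]⟩
      · intro s hs
        rw [mem_filter] at hs ⊢
        exact ⟨hcl s hs.1, by simp [mem_symmDiff, hs.2, hy0]⟩
      · intro s _; simp
      · intro s _; simp
    have := card_filter_add_card_filter_not (s := W) (p := fun s => y ∈ s)
    omega
  have hsum2 : ∑ s ∈ W, s.card = ∑ y ∈ oᶜ, (W.filter fun s => y ∈ s).card := by
    simp only [card_filter]
    rw [sum_comm]
    refine sum_congr rfl fun s hs => ?_
    rw [← card_filter]
    congr 1
    ext y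
    rw [mem_filter]
    exact ⟨fun hy => ⟨(hmem.1 hs).1.2 hy, hy⟩, fun hy => hy.2⟩
  have hAz : ∑ y ∈ A, (W.filter fun s => y ∈ s).card = 0 := by
    refine sum_eq_zero fun y hy => ?_
    rw [card_eq_zero, filter_eq_empty_iff]
    exact (mem_filter.1 hy).2
  rw [← sum_sdiff (filter_subset _ _ : A ⊆ oᶜ), hAz, add_zero] at hsum2
  have hdouble : 2 * ∑ s ∈ W, s.card = (16 - A.card) * W.card := by
    rw [hsum2, mul_sum, sum_const_nat hhalf, card_sdiff_of_subset (filter_subset _ _), hc]
  rw [hsum1] at hdouble
  have hA1 : 1 ≤ A.card := card_pos.2 ⟨x, hxA⟩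
  have hA16 : A.card ≤ 16 := hc ▸ card_le_card (filter_subset _ _)
  have hprod : A.card * W.card = 16 := by
    have h1 : (16 - A.card) * W.card + A.card * W.card = 16 * W.card := by
      rw [← Nat.add_mul]; congr 1; omega
    omega
  have hA_one : A.card = 1 := by
    by_contra hne
    have : 2 * 16 ≤ A.card * W.card := Nat.mul_le_mul (by omega) hge
    omega
  refine ⟨by rw [hA_one, one_mul] at hprod; exact hprod, fun y hy hh => ?_⟩
  obtain ⟨z, hz⟩ := card_eq_one.1 hA_one
  have hyA : y ∈ A := mem_filter.2 ⟨mem_compl.2 hy, hh⟩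
  rw [hz, mem_singleton] at hyA hxA
  rw [hyA, hxA]

theorem proj_fiber_le (P : Finset α) :
    ((allWords h).filter fun s => s ∩ o = P).card ≤ (offWords h o).card := by
  rcases ((allWords h).filter fun s => s ∩ o = P).eq_empty_or_nonempty with e | ⟨s0, hs0⟩
  · rw [e]; simp
  refine card_le_card_of_injOn (fun s => s ∆ s0) (fun s hs => ?_) (fun a _ b _ e => ?_)
  · simp only [coe_filter, Set.mem_ofPred_eq, mem_allWords] at hs
    rw [mem_filter, mem_allWords] at hs0
    rw [mem_coe, mem_offWords]
    refine ⟨hs.1.symmDiff hs0.1, fun p hp => mem_compl.2 fun hpo => ?_⟩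
    have h1 := Finset.ext_iff.1 hs.2 p
    have h2 := Finset.ext_iff.1 hs0.2 p
    simp only [mem_inter, hpo, and_true] at h1 h2
    rw [mem_symmDiff] at hp
    tauto
  · simpa using congrArg (fun z => z ∆ s0) e

theorem card_evenSubsets : (o.powerset.filter fun P => Even P.card).card = 128 := by
  obtain ⟨e⟩ : Nonempty (Fin 8 ≃ o) :=
    ⟨(Fintype.equivFinOfCardEq (by simp [ho8])).symm⟩
  let f : Fin 8 ↪ α := e.toEmbedding.trans (Function.Embedding.subtype _)
  have hf : (univ : Finset (Fin 8)).map f = o := by
    refine eq_of_subset_of_card_le (fun p hp => ?_) (by simp [ho8])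
    obtain ⟨i, -, rfl⟩ := mem_map.1 hp
    exact (e i).2
  have e : (univ : Finset (Fin 8)).powerset.image (fun P => P.map f) =
      ((univ : Finset (Fin 8)).map f).powerset := by
    ext P
    simp only [mem_image, mem_powerset]
    constructor
    · rintro ⟨Q, hQ, rfl⟩; exact map_subset_map.2 hQ
    · intro hP
      obtain ⟨Q, hQ, rfl⟩ := subset_map_iff.1 hP
      exact ⟨Q, hQ, rfl⟩
  rw [← hf, ← e, filter_image, card_image_of_injective _ (map_injective f)]
  simp only [card_map]
  decide +kernel

theorem card_offWords : (offWords h o).card = 32 ∧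
    ∀ P ⊆ o, Even P.card → ∃ s, Mem C s ∧ s ∩ o = P := by
  classical
  have hmaps : ∀ s ∈ allWords h, s ∩ o ∈ o.powerset.filter fun P => Even P.card := fun s hs =>
    mem_filter.2 ⟨mem_powerset.2 inter_subset_right, even_inter h ((mem_allWords h).1 hs) ho⟩
  have hsum := card_eq_sum_card_fiberwise (f := fun s => s ∩ o) hmaps
  rw [card_allWords h] at hsum
  have hE := card_evenSubsets h ho ho8
  have hge : 32 ≤ (offWords h o).card := by
    have := sum_le_card_nsmul (o.powerset.filter fun P => Even P.card) _ _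
      (fun P _ => proj_fiber_le h ho ho8 P)
    rw [← hsum, hE, smul_eq_mul] at this
    omega
  -- the Plotkin count at a point off o
  obtain ⟨x, hx⟩ : ∃ x, x ∉ o := by
    by_contra hh
    push Not at hh
    have := card_le_card (show (univ : Finset α) ⊆ o from fun a _ => hh a)
    rw [card_univ, h.card_pts, ho8] at this
    omega
  have h16 : (offAvoid o h x).card = 16 := (plotkin h ho ho8 x hx (by
    have := card_offAvoid_mul h ho ho8 x hx; omega)).1
  have h32 : (offWords h o).card = 32 := by
    have := card_offAvoid_mul h ho ho8 x hx; omega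
  refine ⟨h32, fun P hP hev => ?_⟩
  by_contra hne
  have hzero : ((allWords h).filter fun s => s ∩ o = P).card = 0 := by
    rw [card_eq_zero, filter_eq_empty_iff]
    exact fun s hs e => hne ⟨s, (mem_allWords h).1 hs, e⟩
  have hPm : P ∈ o.powerset.filter fun P => Even P.card := mem_filter.2 ⟨mem_powerset.2 hP, hev⟩
  rw [← add_sum_erase _ _ hPm, hzero, zero_add] at hsum
  have := sum_le_card_nsmul ((o.powerset.filter fun P => Even P.card).erase P) _ _
    (fun P _ => proj_fiber_le h ho ho8 P)
  rw [← hsum, card_erase_of_mem hPm, hE, h32, smul_eq_mul] at this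
  omega

end Cfsg.Agent.Lib.Golay.Unique
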