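/-
The bijection carrying an abstract extended binary Golay code onto `Cfsg.golayCode`.
-/
import Cfsg.Agent.Lib.Golay.Unique

set_option autoImplicit false

namespace Cfsg.Agent.Lib.Golay.Unique

open Cfsg Finset
open scoped symmDiff

/-! ### The target side -/

/-- The four words off `octad0` giving coordinates. -/
def baseWord (i : Fin 4) : ℕ := [4038912, 6656640, 6100032, 1161408].getD i.val 0

/-- The point off `octad0` with given coordinates. -/
def coordPoint (b : Fin 4 → Bool) : GolayPt :=
  ptN ([4, 8, 9, 21, 10, 19, 22, 18, 11, 13, 7, 15, 6, 20, 12, 16].getD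
    ((b 0).toNat + 2 * (b 1).toNat + 4 * (b 2).toNat + 8 * (b 3).toNat) 0)

theorem coordPoint_props : ∀ b : Fin 4 → Bool, coordPoint b ∉ ptsOf Data.octad0 ∧
    ∀ i, coordPoint b ∈ ptsOf (baseWord i) ↔ b i = true := by decide +kernel

theorem coordPoint_injective : Function.Injective coordPoint := by
  intro b b' h
  funext i
  have h1 := (coordPoint_props b).2 i
  have h2 := (coordPoint_props b').2 i
  rw [h] at h1
  exact Bool.eq_iff_iff.2 (h1.symm.trans h2)

theorem baseWord_props : ∀ i : Fin 4, isCodeMask (baseWord i) = true ∧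
    popCount (baseWord i &&& Data.octad0) = 0 := by decide +kernel

/-- The numbers of the points off `octad0`. -/
def offNums : List ℕ := (List.range 24).filter fun i => !Data.octad0.testBit i

/-- The numbers of the points of `octad0`. -/
def onNums : List ℕ := (List.range 24).filter fun i => Data.octad0.testBit i

/-- The check that every admissible six-set has a pair completing it to a code word. -/
def sixCheck : Bool :=
  (offNums.sublistsLen 6).all fun l =>
    [4038912, 6656640, 6100032, 1161408].any (fun v => popCount (maskL l &&& v) % 2 == 1) ||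
      onNums.any fun a => onNums.any fun b =>
        decide (a < b) && isCodeMask (maskL [a, b] ||| maskL l)

theorem sixCheck_ok : sixCheck = true := by decide +kernel

theorem exists_pair {t : Finset GolayPt} (ht : Disjoint t (ptsOf Data.octad0)) (h6 : t.card = 6)
    (hev : ∀ i, Even (t ∩ ptsOf (baseWord i)).card) :
    ∃ P ⊆ ptsOf Data.octad0, P.card = 2 ∧ IsCodeSet (P ∪ t) := by
  set l := offNums.filter fun i => decide (ptN i ∈ t) with hl
  have hoff : ∀ i ∈ offNums, i < 24 := fun i hi => List.mem_range.1 (List.mem_filter.1 hi).1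
  have hml : ∀ p, p ∈ ptsOf (maskL l) ↔ p ∈ t := by
    intro p
    rw [mem_ptsOf, testBit_maskL]
    constructor
    · rintro ⟨i, hi, e⟩
      rw [hl, List.mem_filter, decide_eq_true_eq] at hi
      rw [Nat.mod_eq_of_lt (hoff i hi.1)] at e
      rw [← ptN_idx p, ← e]; exact hi.2
    · intro hp
      refine ⟨(idx p).val, ?_, Nat.mod_eq_of_lt (idx p).isLt⟩
      rw [hl, List.mem_filter, decide_eq_true_eq, ptN_idx, offNums, List.mem_filter, List.mem_range]
      refine ⟨⟨(idx p).isLt, ?_⟩, hp⟩
      have := disjoint_left.1 ht hp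
      rw [mem_ptsOf] at this
      simpa using this
  have he : ptsOf (maskL l) = t := Finset.ext hml
  have hlen : l.length = 6 := by
    have hnd : l.Nodup := (List.nodup_range.filter _).filter _
    rw [← h6, ← List.toFinset_card_of_nodup hnd]
    refine card_bij' (fun i _ => ptN i) (fun p _ => (idx p).val) ?_ ?_ ?_ ?_
    · intro i hi
      rw [List.mem_toFinset, hl, List.mem_filter, decide_eq_true_eq] at hi
      exact hi.2
    · intro p hp
      rw [List.mem_toFinset]
      have := (hml p).2 hp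
      rw [mem_ptsOf, testBit_maskL] at this
      obtain ⟨i, hi, e⟩ := this
      have hi' := hi
      rw [hl, List.mem_filter] at hi'
      rw [Nat.mod_eq_of_lt (hoff i hi'.1)] at e
      exact e ▸ hi
    · intro i hi
      rw [List.mem_toFinset, hl, List.mem_filter] at hi
      exact idx_ptN (hoff i hi.1)
    · intro p _; exact ptN_idx p
  have hmem : l ∈ offNums.sublistsLen 6 := List.mem_sublistsLen.2 ⟨List.filter_sublist, hlen⟩
  have := List.all_eq_true.1 sixCheck_ok l hmem
  rw [Bool.or_eq_true] at this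
  rcases this with h | h
  · exfalso
    obtain ⟨v, hv, hodd⟩ := List.any_eq_true.1 h
    obtain ⟨i, rfl⟩ : ∃ i : Fin 4, baseWord i = v := by
      simp only [List.mem_cons, List.not_mem_nil, or_false] at hv
      rcases hv with rfl | rfl | rfl | rfl
      exacts [⟨0, rfl⟩, ⟨1, rfl⟩, ⟨2, rfl⟩, ⟨3, rfl⟩]
    have := Nat.even_iff.1 (hev i)
    rw [← he, ← ptsOf_land, card_ptsOf] at this
    simp [this] at hodd
  · obtain ⟨a, ha, hb⟩ := List.any_eq_true.1 h
    obtain ⟨b, hb, hab⟩ := List.any_eq_true.1 hb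
    simp only [Bool.and_eq_true, decide_eq_true_eq] at hab
    rw [onNums, List.mem_filter, List.mem_range] at ha hb
    refine ⟨ptsOf (maskL [a, b]), ?_, ?_, ?_⟩
    · intro p hp
      rw [mem_ptsOf, testBit_maskL] at hp
      obtain ⟨i, hi, e⟩ := hp
      simp only [List.mem_cons, List.not_mem_nil, or_false] at hi
      rw [mem_ptsOf]
      rcases hi with rfl | rfl
      · rw [Nat.mod_eq_of_lt ha.1] at e; rw [← e]; exact ha.2
      · rw [Nat.mod_eq_of_lt hb.1] at e; rw [← e]; exact hb.2
    · have e : ptsOf (maskL [a, b]) = {ptN a, ptN b} := by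
        ext p
        rw [mem_ptsOf, testBit_maskL, mem_insert, mem_singleton]
        constructor
        · rintro ⟨i, hi, e⟩
          simp only [List.mem_cons, List.not_mem_nil, or_false] at hi
          rcases hi with rfl | rfl
          · left; rw [← ptN_idx p, ← e, Nat.mod_eq_of_lt ha.1]
          · right; rw [← ptN_idx p, ← e, Nat.mod_eq_of_lt hb.1]
        · rintro (rfl | rfl)
          · exact ⟨a, by simp, by rw [idx_ptN ha.1, Nat.mod_eq_of_lt ha.1]⟩
          · exact ⟨b, by simp, by rw [idx_ptN hb.1, Nat.mod_eq_of_lt hb.1]⟩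
      rw [e, card_pair]
      intro e'
      have := congrArg (fun p => (idx p).val) e'
      rw [idx_ptN ha.1, idx_ptN hb.1] at this
      omega
    · rw [← he, ← ptsOf_lor]
      exact isCodeSet_of_isCodeMask hab.2

/-- Seven 2-sets meeting pairwise in one point have a common point. -/
theorem exists_centre {β : Type*} [DecidableEq β] {n : ℕ} (hn : 5 ≤ n) (P : Fin n → Finset β)
    (h2 : ∀ i, (P i).card = 2) (h1 : ∀ i j, i ≠ j → (P i ∩ P j).card = 1) :
    ∃ c, ∀ i, c ∈ P i := by
  let i0 : Fin n := ⟨0, by omega⟩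
  let i1 : Fin n := ⟨1, by omega⟩
  obtain ⟨c, hc⟩ := card_eq_one.1 (h1 i0 i1 (by simp [i0, i1, Fin.ext_iff]))
  have hc' : c ∈ P i0 ∩ P i1 := hc ▸ mem_singleton_self c
  rw [mem_inter] at hc'
  refine ⟨c, fun k => ?_⟩
  by_contra hk
  obtain ⟨x, hx⟩ := card_eq_one.1 (show ((P i0).erase c).card = 1 by
    rw [card_erase_of_mem hc'.1, h2])
  obtain ⟨y, hy⟩ := card_eq_one.1 (show ((P i1).erase c).card = 1 by
    rw [card_erase_of_mem hc'.2, h2])
  have meets : ∀ {l m : Fin n}, l ≠ m → c ∉ P l → ∀ {z}, (P m).erase c = {z} → z ∈ P l := by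
    intro l m hlm hcl z hz
    obtain ⟨w, hw⟩ := card_eq_one.1 (h1 l m hlm)
    have hw' : w ∈ P l ∩ P m := hw ▸ mem_singleton_self w
    rw [mem_inter] at hw'
    have : w ∈ (P m).erase c := mem_erase.2 ⟨fun e => hcl (e ▸ hw'.1), hw'.2⟩
    rw [hz, mem_singleton] at this
    exact this ▸ hw'.1
  have hxy : x ≠ y := by
    intro e
    have hx' : x ∈ (P i0).erase c := hx ▸ mem_singleton_self x
    have hy' : y ∈ (P i1).erase c := hy ▸ mem_singleton_self y
    rw [mem_erase] at hx' hy'
    have : x ∈ P i0 ∩ P i1 := mem_inter.2 ⟨hx'.2, e ▸ hy'.2⟩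
    rw [hc, mem_singleton] at this
    exact hx'.1 this
  have all : ∀ l, c ∉ P l → P l = {x, y} := by
    intro l hl
    have hl0 : l ≠ i0 := fun e => hl (e ▸ hc'.1)
    have hl1 : l ≠ i1 := fun e => hl (e ▸ hc'.2)
    refine (eq_of_subset_of_card_le ?_ (by rw [h2, card_pair hxy])).symm
    exact insert_subset (meets hl0 hl hx) (singleton_subset_iff.2 (meets hl1 hl hy))
  obtain ⟨l, hl⟩ : ∃ l : Fin n, l ≠ i0 ∧ l ≠ i1 ∧ l ≠ k := by
    have : ({i0, i1, k} : Finset (Fin n))ᶜ.Nonempty := by
      rw [← card_pos, card_compl, Fintype.card_fin]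
      have := card_le_three (a := i0) (b := i1) (c := k)
      omega
    obtain ⟨l, hl⟩ := this
    simp only [mem_compl, mem_insert, mem_singleton, not_or] at hl
    exact ⟨l, hl⟩
  by_cases hcl : c ∈ P l
  · obtain ⟨z, hz⟩ := card_eq_one.1 (show ((P l).erase c).card = 1 by
      rw [card_erase_of_mem hcl, h2])
    have hz' : z ∈ (P l).erase c := hz ▸ mem_singleton_self z
    rw [mem_erase] at hz'
    have hzk := meets (Ne.symm hl.2.2) hk hz
    rw [all k hk, mem_insert, mem_singleton] at hzk
    have two : ∀ {m : Fin n}, l ≠ m → c ∈ P m → z ∈ P m → False := by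
      intro m hlm hcm hzm
      have := card_le_card (show ({c, z} : Finset β) ⊆ P l ∩ P m from insert_subset
        (mem_inter.2 ⟨hcl, hcm⟩) (singleton_subset_iff.2 (mem_inter.2 ⟨hz'.2, hzm⟩)))
      rw [card_pair hz'.1.symm, h1 l m hlm] at this
      omega
    rcases hzk with rfl | rfl
    · exact two hl.1 hc'.1 (mem_of_mem_erase (hx ▸ mem_singleton_self _))
    · exact two hl.2.1 hc'.2 (mem_of_mem_erase (hy ▸ mem_singleton_self _))
  · have := h1 l k hl.2.2
    rw [all l hcl, all k hk, inter_self, card_pair hxy] at this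
    omega

/-! ### The source side -/

variable {α : Type*} [Fintype α] [DecidableEq α] {C : Submodule (ZMod 2) (α → ZMod 2)}

/-- All sums of sub-lists. -/
def spanSet : List (Finset α) → Finset (Finset α)
  | [] => {∅}
  | u :: r => spanSet r ∪ (spanSet r).image fun s => u ∆ s

omit [Fintype α] in
theorem empty_mem_spanSet : ∀ l : List (Finset α), ∅ ∈ spanSet l
  | [] => mem_singleton_self _
  | _ :: r => mem_union_left _ (empty_mem_spanSet r)

omit [Fintype α] in
theorem spanSet_symmDiff : ∀ {l : List (Finset α)} {s t : Finset α},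
    s ∈ spanSet l → t ∈ spanSet l → s ∆ t ∈ spanSet l
  | [], s, t, hs, ht => by
    simp only [spanSet, mem_singleton] at hs ht ⊢
    subst hs ht; simp
  | u :: r, s, t, hs, ht => by
    rw [spanSet, mem_union, mem_image] at hs ht ⊢
    rcases hs with hs | ⟨s, hs, rfl⟩ <;> rcases ht with ht | ⟨t, ht, rfl⟩
    · exact Or.inl (spanSet_symmDiff hs ht)
    · exact Or.inr ⟨s ∆ t, spanSet_symmDiff hs ht, by rw [symmDiff_left_comm]⟩
    · exact Or.inr ⟨s ∆ t, spanSet_symmDiff hs ht, by rw [symmDiff_assoc]⟩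
    · refine Or.inl ?_
      rw [symmDiff_symmDiff_symmDiff_comm, symmDiff_self, bot_symmDiff]
      exact spanSet_symmDiff hs ht

omit [Fintype α] in
theorem spanSet_induction {P : Finset α → Prop} (h0 : P ∅)
    (hd : ∀ s t, P s → P t → P (s ∆ t)) :
    ∀ {l : List (Finset α)}, (∀ u ∈ l, P u) → ∀ s ∈ spanSet l, P s
  | [], _, s, hs => by rw [spanSet, mem_singleton] at hs; exact hs ▸ h0
  | u :: r, hl, s, hs => by
    have ih := spanSet_induction h0 hd (l := r) fun v hv => hl v (List.mem_cons_of_mem u hv)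
    rw [spanSet, mem_union, mem_image] at hs
    rcases hs with hs | ⟨t, ht, rfl⟩
    · exact ih s hs
    · exact hd _ _ (hl u (List.mem_cons_self ..)) (ih t ht)

omit [Fintype α] in
theorem card_spanSet_cons {l : List (Finset α)} {u : Finset α} (hu : u ∉ spanSet l) :
    (spanSet (u :: l)).card = 2 * (spanSet l).card := by
  rw [spanSet, card_union_of_disjoint, card_image_of_injective _ (symmDiff_right_injective u),
    two_mul]
  rw [disjoint_left]
  intro s hs hs'
  obtain ⟨t, ht, rfl⟩ := mem_image.1 hs'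
  have := spanSet_symmDiff hs ht
  rw [symmDiff_symmDiff_cancel_right] at this
  exact hu this

omit [Fintype α] in
theorem exists_basis_list (W : Finset (Finset α)) (h0 : ∅ ∈ W)
    (hd : ∀ s ∈ W, ∀ t ∈ W, s ∆ t ∈ W) (k : ℕ) (hk : 2 ^ k ≤ W.card) :
    ∃ l : List (Finset α), l.length = k ∧ (∀ u ∈ l, u ∈ W) ∧ spanSet l ⊆ W ∧
      (spanSet l).card = 2 ^ k := by
  induction k with
  | zero => exact ⟨[], rfl, by simp, by simp [spanSet, h0], by simp [spanSet]⟩
  | succ k ih =>
    obtain ⟨l, hlen, hlW, hsub, hcard⟩ := ih (le_trans (Nat.pow_le_pow_right (by norm_num)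
      (Nat.le_succ k)) hk)
    obtain ⟨u, hu, hun⟩ := not_subset.1 (show ¬ W ⊆ spanSet l from fun hh => by
      have := card_le_card hh
      rw [hcard] at this
      rw [pow_succ] at hk
      have := Nat.two_pow_pos k
      omega)
    refine ⟨u :: l, by simp [hlen], List.forall_mem_cons.2 ⟨hu, hlW⟩, ?_, ?_⟩
    · intro s hs
      rw [spanSet, mem_union, mem_image] at hs
      rcases hs with hs | ⟨t, ht, rfl⟩
      · exact hsub hs
      · exact hd u hu t (hsub ht)
    · rw [card_spanSet_cons hun, hcard, pow_succ, mul_comm]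

theorem exists_coords (h : BinCode24.IsGolay C) {o : Finset α} (ho : Mem C o) (ho8 : o.card = 8) :
    ∃ u : Fin 4 → Finset α, (∀ i, Mem C (u i) ∧ u i ⊆ oᶜ) ∧
      (∀ y ∉ o, ∀ z ∉ o, (∀ i, y ∈ u i ↔ z ∈ u i) → y = z) ∧
      ∀ P : Finset α → Prop, (∀ s t, P s → P t → P (s ∆ t)) → P ∅ → P oᶜ → (∀ i, P (u i)) →
        ∀ s, Mem C s → s ⊆ oᶜ → P s := by
  obtain ⟨h32, -⟩ := card_offWords h ho ho8
  obtain ⟨x, hx⟩ : ∃ x, x ∉ o := by
    by_contra hh
    push Not at hh
    have := card_le_card (show (univ : Finset α) ⊆ o from fun a _ => hh a)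
    rw [card_univ, h.card_pts, ho8] at this
    omega
  have hW : (offAvoid o h x).card = 16 := by
    have := card_offAvoid_mul h ho ho8 x hx; omega
  have hmem := @mem_offAvoid α _ _ C h o ho ho8 x
  obtain ⟨l, hlen, hlW, hsub, hcard⟩ := exists_basis_list (offAvoid o h x)
    (hmem.2 ⟨⟨mem_empty, empty_subset _⟩, notMem_empty x⟩)
    (fun s hs t ht => by
      have hs' := hmem.1 hs
      have ht' := hmem.1 ht
      exact hmem.2 ⟨⟨hs'.1.1.symmDiff ht'.1.1,
        symmDiff_le (hs'.1.2.trans subset_union_right) (ht'.1.2.trans subset_union_right)⟩,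
        by simp [mem_symmDiff, hs'.2, ht'.2]⟩) 4 (by rw [hW]; norm_num)
  have hall : spanSet l = offAvoid o h x := eq_of_subset_of_card_le hsub (by rw [hcard, hW]; norm_num)
  have hget : ∀ v ∈ l, ∃ i : Fin 4, l.getD i.val ∅ = v := by
    intro v hv
    obtain ⟨i, hi, rfl⟩ := List.getElem_of_mem hv
    exact ⟨⟨i, hlen ▸ hi⟩, List.getD_eq_getElem _ _ hi⟩
  have hcompl := compl_mem h ho ho8
  have hgen : ∀ s, Mem C s → s ⊆ oᶜ → s ∈ spanSet l ∨ s ∆ oᶜ ∈ spanSet l := by
    intro s hs hso
    rw [hall]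
    by_cases hxs : x ∈ s
    · exact Or.inr (hmem.2 ⟨⟨hs.symmDiff hcompl,
        symmDiff_le (hso.trans subset_union_right) subset_union_right⟩,
        by simp [mem_symmDiff, hxs, hx]⟩)
    · exact Or.inl (hmem.2 ⟨⟨hs, hso⟩, hxs⟩)
  refine ⟨fun i => l.getD i.val ∅, fun i => ?_, ?_, ?_⟩
  · have hi : i.val < l.length := hlen.symm ▸ i.isLt
    have := hmem.1 (hlW _ (List.getElem_mem hi))
    show Mem C (l.getD i.val ∅) ∧ l.getD i.val ∅ ⊆ oᶜ
    rw [List.getD_eq_getElem _ _ hi]
    exact this.1
  · intro y hy z hz hyz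
    refine ((plotkin h ho ho8 y hy (by have := card_offAvoid_mul h ho ho8 y hy; omega)).2 z hz
      fun s hs => ?_).symm
    rw [mem_offAvoid h ho ho8] at hs
    have agree : ∀ t ∈ spanSet l, (y ∈ t ↔ z ∈ t) := by
      refine spanSet_induction (P := fun t => y ∈ t ↔ z ∈ t) (by simp)
        (fun a b ha hb => by simp only [mem_symmDiff]; tauto) fun v hv => ?_
      obtain ⟨i, rfl⟩ := hget v hv
      exact hyz i
    rcases hgen s hs.1.1 hs.1.2 with e | e
    · exact fun hzs => hs.2 ((agree s e).2 hzs)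
    · intro hzs
      have := agree _ e
      simp [mem_symmDiff, hs.2, hzs, hy, hz] at this
  · intro P hd h0 hc hu s hs hso
    have hspan : ∀ t ∈ spanSet l, P t := spanSet_induction h0 hd fun v hv => by
      obtain ⟨i, rfl⟩ := hget v hv; exact hu i
    rcases hgen s hs hso with e | e
    · exact hspan s e
    · have := hd _ _ (hspan _ e) hc
      rwa [symmDiff_symmDiff_cancel_right] at this

theorem exists_six (h : BinCode24.IsGolay C) {o : Finset α} (ho : Mem C o) (ho8 : o.card = 8)
    {P : Finset α} (hP : P ⊆ o) (hP2 : P.card = 2) :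
    ∃ s, Mem C s ∧ s ∩ o = P ∧ (s \ o).card = 6 := by
  obtain ⟨s, hs, hso⟩ := (card_offWords h ho ho8).2 P hP (by rw [hP2]; decide)
  have hsplit := card_sdiff_add_card_inter s o
  rw [hso, hP2] at hsplit
  have hle : (s \ o).card ≤ 16 := by
    have := card_le_card (show s \ o ⊆ oᶜ from fun p hp => mem_compl.2 (mem_sdiff.1 hp).2)
    rwa [card_compl, h.card_pts, ho8] at this
  have hflip : (s ∆ oᶜ) ∩ o = P ∧ (s ∆ oᶜ) \ o = oᶜ \ s := by
    constructor
    · rw [← hso]; ext p; simp only [mem_inter, mem_symmDiff, mem_compl]; tauto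
    · ext p; simp only [mem_sdiff, mem_symmDiff, mem_compl]; tauto
  have hflipcard : ((s ∆ oᶜ) \ o).card = 16 - (s \ o).card := by
    rw [hflip.2]
    have := card_sdiff_add_card_inter oᶜ s
    rw [card_compl, h.card_pts, ho8] at this
    have e : oᶜ ∩ s = s \ o := by ext p; simp [and_comm]
    rw [e] at this
    omega
  have hw := weight h hs
  have hw' := weight h (hs.symmDiff (compl_mem h ho ho8))
  have hsplit' := card_sdiff_add_card_inter (s ∆ oᶜ) o
  rw [hflip.1, hP2, hflipcard] at hsplit'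
  by_cases h6 : (s \ o).card = 6
  · exact ⟨s, hs, hso, h6⟩
  · exact ⟨s ∆ oᶜ, hs.symmDiff (compl_mem h ho ho8), hflip.1, by rw [hflipcard]; omega⟩

/-- Any such code is carried onto `golayCode` by a bijection of the points. -/
theorem exists_equiv (h : BinCode24.IsGolay C) :
    ∃ e : α ≃ GolayPt, ∀ w : GolayPt → ZMod 2, w ∈ golayCode ↔ (fun i => w (e i)) ∈ C := by
  classical
  obtain ⟨w0, hw0, hw8⟩ := BinCode24.exists_octad h
  set o := BinCode24.supp w0 with ho_def
  have ho : Mem C o := by rw [Mem, ho_def, BinCode24.word_supp]; exact hw0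
  have ho8 : o.card = 8 := by rw [ho_def, ← BinCode24.hammingNorm_eq, hw8]
  obtain ⟨u, hu, hsep, hgen⟩ := exists_coords h ho ho8
  let G : α → GolayPt := fun y => coordPoint fun i => decide (y ∈ u i)
  have hGinj : ∀ y ∉ o, ∀ z ∉ o, G y = G z → y = z := fun y hy z hz e =>
    hsep y hy z hz fun i => decide_eq_decide.1 (congrFun (coordPoint_injective e) i)
  have hGo : ∀ y, G y ∉ ptsOf Data.octad0 := fun y => (coordPoint_props _).1
  have hGu : ∀ y i, G y ∈ ptsOf (baseWord i) ↔ y ∈ u i := fun y i =>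
    ((coordPoint_props _).2 i).trans decide_eq_true_iff
  obtain ⟨a⟩ : Nonempty (Fin 8 ≃ o) := ⟨(Fintype.equivFinOfCardEq (by simp [ho8])).symm⟩
  let pr : Fin 7 → Finset α := fun i => {(a 0).1, (a i.succ).1}
  have hne0 : ∀ i : Fin 7, (a 0).1 ≠ (a i.succ).1 := fun i e =>
    Fin.succ_ne_zero i (a.injective (Subtype.ext e)).symm
  have hpr2 : ∀ i, (pr i).card = 2 := fun i => card_pair (hne0 i)
  have hpro : ∀ i, pr i ⊆ o := fun i => insert_subset (a 0).2 (singleton_subset_iff.2 (a i.succ).2)
  choose s hs hso hs6 using fun i => exists_six h ho ho8 (hpro i) (hpr2 i)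
  have himg : ∀ t : Finset α, Disjoint (t.image G) (ptsOf Data.octad0) := fun t =>
    disjoint_left.2 fun p hp => by
      obtain ⟨y, -, rfl⟩ := mem_image.1 hp
      exact hGo y
  have hnot : ∀ (i : Fin 7), ∀ y ∈ s i \ o, y ∉ o := fun i y hy => (mem_sdiff.1 hy).2
  have hcard6 : ∀ i, ((s i \ o).image G).card = 6 := fun i => by
    rw [card_image_of_injOn, hs6]
    exact fun y hy z hz e => hGinj y (hnot i y hy) z (hnot i z hz) e
  have hev : ∀ i j, Even ((s i \ o).image G ∩ ptsOf (baseWord j)).card := by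
    intro i j
    have e : (s i \ o).image G ∩ ptsOf (baseWord j) = ((s i \ o) ∩ u j).image G := by
      ext p
      simp only [mem_inter, mem_image]
      constructor
      · rintro ⟨⟨y, hy, rfl⟩, hp⟩; exact ⟨y, ⟨hy, (hGu y j).1 hp⟩, rfl⟩
      · rintro ⟨y, ⟨hy, hyu⟩, rfl⟩; exact ⟨⟨y, hy, rfl⟩, (hGu y j).2 hyu⟩
    rw [e, card_image_of_injOn fun y hy z hz e =>
      hGinj y (hnot i y (mem_inter.1 hy).1) z (hnot i z (mem_inter.1 hz).1) e]
    have e2 : (s i \ o) ∩ u j = s i ∩ u j := by
      ext p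
      simp only [mem_inter, mem_sdiff]
      exact ⟨fun hp => ⟨hp.1.1, hp.2⟩, fun hp => ⟨⟨hp.1, mem_compl.1 ((hu j).2 hp.2)⟩, hp.2⟩⟩
    rw [e2]
    exact even_inter h (hs i) (hu j).1
  choose P hPo hP2 hPc using fun i => exists_pair (himg (s i \ o)) (hcard6 i) (hev i)
  have hP1 : ∀ i j, i ≠ j → (P i ∩ P j).card = 1 := by
    intro i j hij
    have h1 := Nat.even_iff.1 (Golay.even_card_inter (hPc i) (hPc j))
    have e1 : (P i ∪ (s i \ o).image G) ∩ (P j ∪ (s j \ o).image G) =
        (P i ∩ P j) ∪ ((s i \ o) ∩ (s j \ o)).image G := by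
      have d1 : ∀ k l, ∀ p ∈ P k, p ∉ (s l \ o).image G := fun k l p hp hp' =>
        disjoint_left.1 (himg _) hp' (hPo k hp)
      ext p
      simp only [mem_inter, mem_union]
      constructor
      · rintro ⟨hp1 | hp1, hp2 | hp2⟩
        · exact Or.inl ⟨hp1, hp2⟩
        · exact absurd hp2 (d1 i j p hp1)
        · exact absurd hp1 (d1 j i p hp2)
        · obtain ⟨y, hy, rfl⟩ := mem_image.1 hp1
          obtain ⟨z, hz, e⟩ := mem_image.1 hp2
          obtain rfl := hGinj z (hnot j z hz) y (hnot i y hy) e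
          exact Or.inr (mem_image_of_mem _ (mem_inter.2 ⟨hy, hz⟩))
      · rintro (⟨hp1, hp2⟩ | hp)
        · exact ⟨Or.inl hp1, Or.inl hp2⟩
        · obtain ⟨y, hy, rfl⟩ := mem_image.1 hp
          rw [mem_inter] at hy
          exact ⟨Or.inr (mem_image_of_mem _ hy.1), Or.inr (mem_image_of_mem _ hy.2)⟩
    rw [e1, card_union_of_disjoint (disjoint_left.2 fun p hp hp' =>
        disjoint_left.1 (himg _) hp' (hPo i (mem_inter.1 hp).1)),
      card_image_of_injOn fun y hy z hz e =>
        hGinj y (hnot i y (mem_inter.1 hy).1) z (hnot i z (mem_inter.1 hz).1) e] at h1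
    have h2 := Nat.even_iff.1 (even_inter h (hs i) (hs j))
    have e2 : s i ∩ s j = (pr i ∩ pr j) ∪ ((s i \ o) ∩ (s j \ o)) := by
      rw [← hso i, ← hso j]
      ext p; simp only [mem_inter, mem_union, mem_sdiff]; tauto
    have hd : Disjoint (pr i ∩ pr j) ((s i \ o) ∩ (s j \ o)) := disjoint_left.2 fun p hp hp' =>
      hnot i p (mem_inter.1 hp').1 (hpro i (mem_inter.1 hp).1)
    have hpp : pr i ∩ pr j = {(a 0).1} := by
      ext p
      simp only [pr, mem_inter, mem_insert, mem_singleton]
      constructor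
      · rintro ⟨rfl | rfl, h'⟩
        · rfl
        · rcases h' with h' | h'
          · exact h'
          · exact absurd (Fin.succ_injective _ (a.injective (Subtype.ext h'))) hij
      · intro hp; exact ⟨Or.inl hp, Or.inl hp⟩
    rw [e2, card_union_of_disjoint hd, hpp, card_singleton] at h2
    have h3 : (P i ∩ P j).card ≤ 2 := hP2 i ▸ card_le_card inter_subset_left
    omega
  obtain ⟨c, hc⟩ := exists_centre (n := 7) (by norm_num) P hP2 hP1
  have hother : ∀ i, ∃ z, (P i).erase c = {z} := fun i =>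
    card_eq_one.1 (by rw [card_erase_of_mem (hc i), hP2])
  choose f hf using hother
  have hfm : ∀ i, f i ≠ c ∧ f i ∈ P i := fun i =>
    mem_erase.1 ((hf i).symm ▸ mem_singleton_self (f i))
  have hPeq : ∀ i, P i = {c, f i} := fun i => by rw [← insert_erase (hc i), hf i]
  have hfinj : Function.Injective f := by
    intro i j e
    by_contra hij
    have := hP1 i j hij
    rw [hPeq i, hPeq j, e, inter_self, card_pair (hfm j).1.symm] at this
    omega
  let star : Fin 8 → GolayPt := Fin.cons c f
  have hstar_inj : Function.Injective star :=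
    Fin.cons_injective_iff.2 ⟨fun ⟨i, hi⟩ => (hfm i).1 hi, hfinj⟩
  have hstar_o : ∀ k, star k ∈ ptsOf Data.octad0 :=
    Fin.cases (hPo 0 (hc 0)) fun i => hPo i (hfm i).2
  let E : α → GolayPt := fun y => if hy : y ∈ o then star (a.symm ⟨y, hy⟩) else G y
  have hEo : ∀ y ∈ o, E y ∈ ptsOf Data.octad0 := fun y hy => by
    simp only [E, dif_pos hy]; exact hstar_o _
  have hEn : ∀ y ∉ o, E y = G y := fun y hy => by simp only [E, dif_neg hy]
  have hEa : ∀ k, E (a k).1 = star k := fun k => by
    simp only [E, dif_pos (a k).2, Subtype.coe_eta, Equiv.symm_apply_apply]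
  have hEinj : Function.Injective E := by
    intro y z e
    by_cases hy : y ∈ o <;> by_cases hz : z ∈ o
    · obtain ⟨k, hk⟩ := a.surjective ⟨y, hy⟩
      obtain ⟨l, hl⟩ := a.surjective ⟨z, hz⟩
      have ek : (a k).1 = y := congrArg Subtype.val hk
      have el : (a l).1 = z := congrArg Subtype.val hl
      rw [← ek, ← el, hEa, hEa] at e
      rw [← ek, ← el, hstar_inj e]
    · exact absurd (hEo y hy) (by rw [e, hEn z hz]; exact hGo z)
    · exact absurd (hEo z hz) (by rw [← e, hEn y hy]; exact hGo y)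
    · rw [hEn y hy, hEn z hz] at e; exact hGinj y hy z hz e
  have hEbij : Function.Bijective E := (Fintype.bijective_iff_injective_and_card E).2
    ⟨hEinj, by rw [h.card_pts, card_golayPt]⟩
  let Good : Finset α → Prop := fun t => Mem C t ∧ IsCodeSet (t.image E)
  have hGood : ∀ t1 t2, Good t1 → Good t2 → Good (t1 ∆ t2) := fun t1 t2 h1 h2 =>
    ⟨h1.1.symmDiff h2.1, by rw [image_symmDiff _ _ hEinj]; exact h1.2.symmDiff h2.2⟩
  have hGood0 : Good ∅ := ⟨mem_empty, by rw [image_empty]; exact isCodeSet_empty⟩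
  have hoimg : o.image E = ptsOf Data.octad0 := by
    refine eq_of_subset_of_card_le (fun p hp => ?_) ?_
    · obtain ⟨y, hy, rfl⟩ := mem_image.1 hp; exact hEo y hy
    · rw [card_image_of_injective _ hEinj, ho8, (mem_octads_iff.1 octad0_mem).2]
  have hoGood : Good o := ⟨ho, hoimg ▸ (mem_octads_iff.1 octad0_mem).1⟩
  have hcGood : Good oᶜ := ⟨compl_mem h ho ho8, by
    have e : oᶜ.image E = (o.image E)ᶜ := by
      ext p
      obtain ⟨y, rfl⟩ := hEbij.2 p
      simp [hEinj.eq_iff]
    rw [e, hoimg]; exact (mem_octads_iff.1 octad0_mem).1.compl⟩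
  have huGood : ∀ i, Good (u i) := by
    refine fun i => ⟨(hu i).1, ?_⟩
    have e : (u i).image E = ptsOf (baseWord i) := by
      ext p
      rw [mem_image]
      constructor
      · rintro ⟨y, hy, rfl⟩
        rw [hEn y (mem_compl.1 ((hu i).2 hy)), hGu]; exact hy
      · intro hp
        obtain ⟨y, rfl⟩ := hEbij.2 p
        refine ⟨y, ?_, rfl⟩
        have hy : y ∉ o := fun hy => by
          have h0 := (baseWord_props i).2
          rw [← card_ptsOf, ptsOf_land, card_eq_zero] at h0
          have : E y ∈ ptsOf (baseWord i) ∩ ptsOf Data.octad0 := mem_inter.2 ⟨hp, hEo y hy⟩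
          rw [h0] at this
          exact notMem_empty _ this
        rwa [hEn y hy, hGu] at hp
    rw [e]
    exact isCodeSet_of_isCodeMask (baseWord_props i).1
  have hsGood : ∀ i, Good (s i) := by
    refine fun i => ⟨hs i, ?_⟩
    have e : (s i).image E = P i ∪ (s i \ o).image G := by
      conv_lhs => rw [← sdiff_union_inter (s i) o, image_union, hso i]
      rw [union_comm]
      congr 1
      · simp only [pr, image_insert, image_singleton, hEa, hPeq i]
        rfl
      · exact image_congr fun y hy => hEn y (hnot i y hy)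
    rw [e]; exact hPc i
  have hoff : ∀ t, Mem C t → t ⊆ oᶜ → Good t := hgen Good hGood hGood0 hcGood huGood
  have hJ : ∀ J : Finset (Fin 7), ∃ z, Good z ∧ ∀ i, (a i.succ).1 ∈ z ↔ i ∈ J := by
    intro J
    induction J using Finset.induction with
    | empty => exact ⟨∅, hGood0, fun i => by simp⟩
    | @insert j J hj ih =>
      obtain ⟨z, hz, hzJ⟩ := ih
      refine ⟨z ∆ s j, hGood _ _ hz (hsGood j), fun i => ?_⟩
      have hsji : (a i.succ).1 ∈ s j ↔ i = j := by
        have h1 := Finset.ext_iff.1 (hso j) (a i.succ).1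
        simp only [mem_inter, (a i.succ).2, and_true, pr, mem_insert, mem_singleton,
          (hne0 i).symm, false_or] at h1
        exact h1.trans ⟨fun e => Fin.succ_injective _ (a.injective (Subtype.ext e)),
          fun e => e ▸ rfl⟩
      rw [mem_symmDiff, hzJ, hsji, mem_insert]
      by_cases hij : i = j <;> simp [hij, hj]
  have hall : ∀ t, Mem C t → Good t := by
    intro t ht
    obtain ⟨z, hz, hzJ⟩ := hJ (univ.filter fun i => (a i.succ).1 ∈ t)
    have hsub : (t ∆ z) ∩ o ⊆ {(a 0).1} := by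
      intro p hp
      rw [mem_inter] at hp
      obtain ⟨k, hk⟩ := a.surjective ⟨p, hp.2⟩
      have ek : (a k).1 = p := congrArg Subtype.val hk
      rcases Fin.eq_zero_or_eq_succ k with rfl | ⟨i, rfl⟩
      · rw [mem_singleton, ek]
      · exfalso
        have hzi := hzJ i
        rw [ek, mem_filter] at hzi
        simp only [mem_univ, true_and] at hzi
        rw [mem_symmDiff] at hp
        rcases hp.1 with ⟨h1, h2⟩ | ⟨h1, h2⟩
        · exact h2 (hzi.2 (ek.symm ▸ h1))
        · exact h2 (ek ▸ hzi.1 h1)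
    have hev' := even_inter h (ht.symmDiff hz.1) ho
    have hle := card_le_card hsub
    rw [card_singleton] at hle
    have h0 : ((t ∆ z) ∩ o).card = 0 := by
      obtain ⟨r, hr⟩ := hev'; omega
    have := hGood _ _ (hoff (t ∆ z) (ht.symmDiff hz.1) fun p hp => mem_compl.2 fun hpo => by
      rw [card_eq_zero] at h0
      exact notMem_empty p (h0 ▸ mem_inter.2 ⟨hp, hpo⟩)) hz
    rwa [symmDiff_symmDiff_cancel_right] at this
  let e := Equiv.ofBijective E hEbij
  refine ⟨e, ?_⟩
  have hfwd : ∀ w : α → ZMod 2, w ∈ C → (fun p => w (e.symm p)) ∈ golayCode := by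
    intro w hw
    have hh := (hall (BinCode24.supp w) (by rw [Mem, BinCode24.word_supp]; exact hw)).2
    rw [Golay.mem_golayCode_iff]
    convert hh using 1
    ext p
    simp only [support₂, BinCode24.supp, mem_filter, mem_univ, true_and, mem_image]
    constructor
    · intro hp; exact ⟨e.symm p, hp, e.apply_symm_apply p⟩
    · rintro ⟨y, hy, rfl⟩
      rwa [show e.symm (E y) = y from e.symm_apply_apply y]
  have hsurj : Function.Surjective
      (fun w : C => (⟨fun p => w.1 (e.symm p), hfwd w.1 w.2⟩ : golayCode)) := by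
    haveI : Finite C := inferInstance
    refine ((Nat.bijective_iff_injective_and_card _).2 ⟨?_, ?_⟩).2
    · intro v w e'
      refine Subtype.ext (funext fun y => ?_)
      have := congrFun (Subtype.ext_iff.1 e') (e y)
      simpa using this
    · rw [card_code h, Golay.card_golayCode]
  intro w
  constructor
  · intro hw
    obtain ⟨v, hv⟩ := hsurj ⟨w, hw⟩
    have e' : (fun i => w (e i)) = v.1 := by
      funext y
      have := congrFun (Subtype.ext_iff.1 hv) (e y)
      simp only [Equiv.symm_apply_apply] at this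
      exact this.symm
    rw [e']; exact v.2
  · intro hw
    simpa using hfwd _ hw

end Cfsg.Agent.Lib.Golay.Unique
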