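/-
A group of order 432 with a self-centralising normal subgroup of type (3,3).
-/
import Mathlib

set_option autoImplicit false

namespace Cfsg.Agent.Lib.Golay.AffineQuotient

/-- The plane over the field with three elements. -/
abbrev Plane : Type := Fin 2 → ZMod 3

variable {G : Type*} [Group G] (N : Subgroup G) [N.Normal] (e : ↥N ≃* Multiplicative Plane)

/-- Conjugation in coordinates, as an additive map. -/
noncomputable def conjAdd (g : G) : Plane →+ Plane :=
  AddMonoidHom.mk' (fun v => (e (MulAut.conjNormal g (e.symm (Multiplicative.ofAdd v)))).toAdd)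
    fun v w => by
      rw [ofAdd_add, map_mul, map_mul, map_mul]
      rfl

theorem conjAdd_apply (g : G) (v : Plane) :
    conjAdd N e g v = (e (MulAut.conjNormal g (e.symm (Multiplicative.ofAdd v)))).toAdd := rfl

/-- Conjugation as a matrix. -/
noncomputable def conjMatrix : G →* Matrix (Fin 2) (Fin 2) (ZMod 3) where
  toFun g := LinearMap.toMatrix' ((conjAdd N e g).toZModLinearMap 3)
  map_one' := by
    rw [← LinearMap.toMatrix'_id]
    congr 1
    refine LinearMap.ext fun v => ?_
    show conjAdd N e 1 v = v
    rw [conjAdd_apply, map_one, MulAut.one_apply, MulEquiv.apply_symm_apply]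
    rfl
  map_mul' g h := by
    rw [← LinearMap.toMatrix'_comp]
    congr 1
    refine LinearMap.ext fun v => ?_
    show conjAdd N e (g * h) v = conjAdd N e g (conjAdd N e h v)
    rw [conjAdd_apply, conjAdd_apply, conjAdd_apply, map_mul, MulAut.mul_apply, ofAdd_toAdd,
      MulEquiv.symm_apply_apply]

theorem mem_ker_conjMatrix {g : G} :
    g ∈ (conjMatrix N e).ker ↔ ∀ n : ↥N, MulAut.conjNormal g n = n := by
  rw [MonoidHom.mem_ker]
  show LinearMap.toMatrix' ((conjAdd N e g).toZModLinearMap 3) = 1 ↔ _
  rw [← LinearMap.toMatrix'_id, EmbeddingLike.apply_eq_iff_eq, LinearMap.ext_iff]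
  constructor
  · intro h n
    have := h (e n).toAdd
    change conjAdd N e g _ = _ at this
    rw [conjAdd_apply, ofAdd_toAdd, MulEquiv.symm_apply_apply, LinearMap.id_apply] at this
    exact e.injective (Multiplicative.toAdd.injective this)
  · intro h v
    show conjAdd N e g v = v
    rw [conjAdd_apply, h, MulEquiv.apply_symm_apply]
    rfl

theorem card_gl_three : Nat.card (GL (Fin 2) (ZMod 3)) = 48 := by
  haveI : Fact (Nat.Prime 3) := ⟨by norm_num⟩
  rw [Matrix.card_GL_field, Fin.prod_univ_two, ZMod.card]
  rfl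

/-- The quotient of such a group is the full linear group of the plane. -/
theorem quotient_equiv (e : ↥N ≃* Multiplicative Plane) [Finite G] (hG : Nat.card G = 432)
    (hc : ∀ g : G, (∀ n ∈ N, g * n = n * g) → g ∈ N) :
    Nat.card ↥N = 9 ∧ Nonempty (G ⧸ N ≃* GL (Fin 2) (ZMod 3)) := by
  have h9 : Nat.card ↥N = 9 := by
    rw [Nat.card_congr e.toEquiv, Nat.card_congr Multiplicative.toAdd, Nat.card_eq_fintype_card,
      Fintype.card_fun, ZMod.card, Fintype.card_fin]
    norm_num
  have hker : (conjMatrix N e).toHomUnits.ker = N := by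
    ext g
    rw [MonoidHom.ker_toHomUnits, mem_ker_conjMatrix]
    constructor
    · intro h
      refine hc g fun n hn => ?_
      have := congrArg Subtype.val (h ⟨n, hn⟩)
      rw [MulAut.conjNormal_apply] at this
      exact mul_inv_eq_iff_eq_mul.mp this
    · intro hg n
      refine Subtype.ext ?_
      rw [MulAut.conjNormal_apply]
      have hcomm : (⟨g, hg⟩ : ↥N) * n = n * ⟨g, hg⟩ := e.injective (by
        rw [map_mul, map_mul, mul_comm])
      rw [show g * (n : G) = (n : G) * g from congrArg Subtype.val hcomm, mul_inv_cancel_right]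
  refine ⟨h9, ?_⟩
  have hindex : (conjMatrix N e).toHomUnits.ker.index = 48 := by
    have := Subgroup.card_mul_index N
    rw [h9, hG] at this
    rw [hker]
    omega
  rw [Subgroup.index_ker] at hindex
  have hsurj : Function.Surjective (conjMatrix N e).toHomUnits := by
    rw [← MonoidHom.range_eq_top]
    exact Subgroup.eq_top_of_card_eq _ (hindex.trans card_gl_three.symm)
  exact ⟨(QuotientGroup.quotientMulEquivOfEq hker.symm).trans
    (QuotientGroup.quotientKerEquivOfSurjective _ hsurj)⟩

/-- Transport of the conclusion along an isomorphism. -/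
theorem transport {H : Type*} [Group H] (f : H ≃* G) {K : Subgroup G} [K.Normal]
    (h : Nat.card ↥K = 9 ∧ Nonempty (G ⧸ K ≃* GL (Fin 2) (ZMod 3))) :
    ∃ (M : Subgroup H) (_ : M.Normal),
      Nat.card M = 9 ∧ Nonempty (H ⧸ M ≃* GL (Fin 2) (ZMod 3)) := by
  obtain ⟨h9, ⟨q⟩⟩ := h
  refine ⟨K.comap f.toMonoidHom, inferInstance, ?_, ⟨?_⟩⟩
  · rw [← h9]
    exact Nat.card_congr
      { toFun := fun x => ⟨f x.1, x.2⟩
        invFun := fun y => ⟨f.symm y.1, by simp⟩
        left_inv := fun x => Subtype.ext (f.symm_apply_apply x.1)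
        right_inv := fun y => Subtype.ext (f.apply_symm_apply y.1) }
  · refine (QuotientGroup.congr _ K f ?_).trans q
    exact Subgroup.map_comap_eq_self_of_surjective f.surjective K

end Cfsg.Agent.Lib.Golay.AffineQuotient
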