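/-
Invariant families and centralisers of the elements of order 2, 3 and 7 of `Cfsg.M24`.
-/
import Cfsg.Agent.Lib.Golay.ClassFacts
import Cfsg.Agent.Lib.Golay.Suborbit.Sextet
import Cfsg.Agent.Lib.Golay.Suborbit.Trio

set_option autoImplicit false
set_option maxRecDepth 1000000

namespace Cfsg.Agent.Lib.Golay.Classes

open Cfsg
open scoped Pointwise
open Cfsg.Agent.Lib.Orbit
open Cfsg.Agent.Lib.Golay.StabCert

theorem trios_inv : ∀ g ∈ M24, ∀ x ∈ trios, g • x ∈ trios := fun g hg _ hx =>
  smul_trio ⟨g, hg⟩ hx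

theorem sextets_inv : ∀ g ∈ M24, ∀ x ∈ sextets, g • x ∈ sextets := fun g hg _ hx =>
  smul_sextet ⟨g, hg⟩ hx

/-- The number of trios fixed by an image list. -/
def fixTrioNum (l : List ℕ) : ℕ :=
  ((Orbits.Trio.orbits.flatMap Coding.orbCodes).filter (fixFam l)).length

/-- The number of sextets fixed by an image list. -/
def fixSextetNum (l : List ℕ) : ℕ :=
  ((Orbits.Sextet.orbits.flatMap Coding.orbCodes).filter (fixFam l)).length

theorem count_trio {k : Equiv.Perm GolayPt} (hk : k ∈ M24) {l : List ℕ} (hl : validList l = true) :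
    {T : Finset (Finset GolayPt) | T ∈ trios ∧ (k * toPerm l * k⁻¹) • T = T}.ncard =
      fixTrioNum l := by
  rw [ncard_fixed_conj trios trios_inv hk]
  exact ncard_fixed_fams Suborbit.Trio.decomp
    ((Bool.and_eq_true _ _ ▸ Suborbit.Trio.checks.2.2.1).1) hl

theorem count_sextet {k : Equiv.Perm GolayPt} (hk : k ∈ M24) {l : List ℕ}
    (hl : validList l = true) :
    {S : Finset (Finset GolayPt) | S ∈ sextets ∧ (k * toPerm l * k⁻¹) • S = S}.ncard =
      fixSextetNum l := by
  rw [ncard_fixed_conj sextets sextets_inv hk]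
  exact ncard_fixed_fams Suborbit.Sextet.decomp
    ((Bool.and_eq_true _ _ ▸ Suborbit.Sextet.checks.2.2.1).1) hl

theorem count_octad {k : Equiv.Perm GolayPt} (hk : k ∈ M24) {l : List ℕ}
    (hl : validList l = true) :
    {o : Finset GolayPt | o ∈ octads ∧ (k * toPerm l * k⁻¹) • o = o}.ncard = fixCodeNum 8 l := by
  rw [ncard_fixed_conj octads (fun g hg _ ho => M24_octad hg ho) hk, ← ncard_fixed_code 8 hl]
  simp only [mem_octads_iff, and_assoc]

theorem count_dodecad {k : Equiv.Perm GolayPt} (hk : k ∈ M24) {l : List ℕ}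
    (hl : validList l = true) :
    {d : Finset GolayPt | d ∈ dodecads ∧ (k * toPerm l * k⁻¹) • d = d}.ncard =
      fixCodeNum 12 l := by
  rw [ncard_fixed_conj dodecads (fun g hg _ ho => M24_dodecad hg ho) hk, ← ncard_fixed_code 12 hl]
  simp only [mem_dodecads_iff, and_assoc]

theorem counts_code : fixCodeNum 8 ClassData.rep2f8 = 71 ∧ fixCodeNum 8 ClassData.rep2f0 = 15 ∧
    fixCodeNum 8 ClassData.rep3f6 = 21 ∧ fixCodeNum 12 ClassData.rep3f6 = 20 := by
  decide +kernel

theorem counts_trio : fixTrioNum ClassData.rep2f8 = 99 ∧ fixTrioNum ClassData.rep2f0 = 75 ∧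
    fixTrioNum ClassData.rep3f6 = 15 ∧ fixTrioNum ClassData.rep3f0 = 15 := by
  decide +kernel

theorem counts_sextet : fixSextetNum ClassData.rep2f8 = 91 ∧ fixSextetNum ClassData.rep2f0 = 51 ∧
    fixSextetNum ClassData.rep3f6 = 16 ∧ fixSextetNum ClassData.rep3f0 = 7 := by
  decide +kernel

theorem cent2f0_ok : centOK 2 ClassData.rep2f0 ClassData.wit2f0 ClassData.cent2f0
    ClassData.starts2f0 = true := by decide +kernel

theorem cent3f6_ok : centOK 3 ClassData.rep3f6 ClassData.wit3f6 ClassData.cent3f6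
    ClassData.starts3f6 = true := by decide +kernel

theorem cent3f0_ok : centOK 3 ClassData.rep3f0 ClassData.wit3f0 ClassData.cent3f0
    ClassData.starts3f0 = true := by decide +kernel

theorem cent7f3_ok : centOK 7 ClassData.rep7f3 ClassData.wit7f3 ClassData.cent7f3
    ClassData.starts7f3 = true := by decide +kernel

theorem exists_gen {G : Type*} [Group G] [Finite G] (X : Subgroup G) {p : ℕ} (hp : p.Prime)
    (h : Nat.card X = p) : ∃ x, orderOf x = p ∧ Subgroup.zpowers x = X := by
  have : Nontrivial X := Finite.one_lt_card_iff_nontrivial.1 (h ▸ hp.one_lt)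
  obtain ⟨x, hx⟩ := exists_ne (1 : X)
  have hd : orderOf (x : G) ∣ p := h ▸ Subgroup.orderOf_dvd_natCard X x.2
  have ho : orderOf (x : G) = p := (hp.eq_one_or_self_of_dvd _ hd).resolve_left fun e =>
    hx (Subtype.ext (orderOf_eq_one_iff.1 e))
  exact ⟨x, ho, Subgroup.eq_of_le_of_card_ge (Subgroup.zpowers_le.2 x.2)
    (by rw [h, Nat.card_zpowers, ho])⟩

theorem conj_smul_zpowers {G : Type*} [Group G] (k y : G) :
    MulAut.conj k • Subgroup.zpowers y = Subgroup.zpowers (k * y * k⁻¹) := by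
  show Subgroup.map (MulAut.conj k).toMonoidHom (Subgroup.zpowers y) = _
  rw [MonoidHom.map_zpowers]
  rfl

end Cfsg.Agent.Lib.Golay.Classes
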