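/-
Cosets of the length-24 code: short members of each coset.
-/
import Cfsg.Agent.Lib.Golay.Code

set_option autoImplicit false

namespace Cfsg.Agent.Lib.Golay

open Cfsg
open scoped symmDiff

theorem sub_eq_word_symmDiff (w v : GolayPt → ZMod 2) :
    w - v = word (support₂ w ∆ support₂ v) := by
  have h : ∀ a b : ZMod 2, a - b = a + b := by decide
  rw [word_symmDiff, word_support₂, word_support₂]
  funext p; exact h (w p) (v p)

theorem sub_mem_iff (w v : GolayPt → ZMod 2) :
    w - v ∈ golayCode ↔ IsCodeSet (support₂ w ∆ support₂ v) := by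
  rw [sub_eq_word_symmDiff]; rfl

theorem coset_symmDiff {S V V' : Finset GolayPt} (h : IsCodeSet (S ∆ V)) (h' : IsCodeSet (S ∆ V')) :
    IsCodeSet (V ∆ V') := by
  have := h.symmDiff h'
  rwa [symmDiff_symmDiff_symmDiff_comm, symmDiff_self, bot_symmDiff] at this

theorem coset_step {S V o : Finset GolayPt} (h : IsCodeSet (S ∆ V)) (ho : IsCodeSet o) :
    IsCodeSet (S ∆ (V ∆ o)) := by
  rw [← symmDiff_assoc]; exact h.symmDiff ho

/-- Every coset has a member with at most four points. -/
theorem exists_coset_card_le_four (S : Finset GolayPt) :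
    ∃ V, IsCodeSet (S ∆ V) ∧ V.card ≤ 4 := by
  suffices ∀ n (V : Finset GolayPt), IsCodeSet (S ∆ V) → V.card ≤ n →
      ∃ V, IsCodeSet (S ∆ V) ∧ V.card ≤ 4 by
    exact this _ S (by rw [symmDiff_self]; exact isCodeSet_empty) le_rfl
  intro n
  induction n with
  | zero => exact fun V h h' => ⟨V, h, by omega⟩
  | succ n ih =>
    intro V h h'
    by_cases h4 : V.card ≤ 4
    · exact ⟨V, h, h4⟩
    obtain ⟨F, hFV, hF⟩ := Finset.exists_subset_card_eq (n := 5) (s := V) (by omega)
    obtain ⟨o, ⟨ho, hFo⟩, -⟩ := octads_steiner.2 F hF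
    rw [mem_octads_iff] at ho
    refine ih (V ∆ o) (coset_step h ho.1) ?_
    have h1 := card_symmDiff_add V o
    have h2 := Finset.card_le_card (Finset.subset_inter hFV hFo)
    omega

/-- Two short members of one coset are disjoint tetrads. -/
theorem coset_short_disjoint {S V V' : Finset GolayPt} (h : IsCodeSet (S ∆ V))
    (h' : IsCodeSet (S ∆ V')) (hc : V.card ≤ 4) (hc' : V'.card ≤ 4) (hne : V ≠ V') :
    V.card = 4 ∧ V'.card = 4 ∧ Disjoint V V' := by
  have h1 := card_symmDiff_add V V'
  have h2 : 8 ≤ (V ∆ V').card := by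
    by_contra hlt
    exact hne (symmDiff_eq_bot.mp (eq_empty_of_card_lt (coset_symmDiff h h') (by omega)))
  refine ⟨by omega, by omega, ?_⟩
  rw [Finset.disjoint_iff_inter_eq_empty, ← Finset.card_eq_zero]
  omega

/-- A tetrad in a coset extends through every outside point to a second one. -/
theorem exists_coset_tetrad_through {S V : Finset GolayPt} (h : IsCodeSet (S ∆ V))
    (hc : V.card = 4) (p : GolayPt) :
    ∃ V', IsCodeSet (S ∆ V') ∧ V'.card = 4 ∧ p ∈ V' := by
  by_cases hp : p ∈ V
  · exact ⟨V, h, hc, hp⟩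
  obtain ⟨o, ⟨ho, hFo⟩, -⟩ :=
    octads_steiner.2 (insert p V) (by rw [Finset.card_insert_of_notMem hp, hc])
  rw [mem_octads_iff] at ho
  refine ⟨V ∆ o, coset_step h ho.1, ?_, ?_⟩
  · have h1 := card_symmDiff_add V o
    rw [Finset.inter_eq_left.mpr ((Finset.subset_insert _ _).trans hFo)] at h1
    omega
  · exact Finset.mem_symmDiff.mpr (Or.inr ⟨hFo (Finset.mem_insert_self _ _), hp⟩)

/-- A coset without a member of at most three points has exactly six tetrads. -/
theorem ncard_coset_short_eq_six (S : Finset GolayPt)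
    (hno : ¬ ∃ V, IsCodeSet (S ∆ V) ∧ V.card ≤ 3) :
    {V : Finset GolayPt | IsCodeSet (S ∆ V) ∧ V.card ≤ 4}.ncard = 6 := by
  classical
  set T : Set (Finset GolayPt) := {V | IsCodeSet (S ∆ V) ∧ V.card ≤ 4} with hT
  have hfour : ∀ V ∈ T, V.card = 4 := fun V hV => by
    by_contra h
    exact hno ⟨V, hV.1, by have := hV.2; omega⟩
  obtain ⟨V₀, h₀, h₀'⟩ := exists_coset_card_le_four S
  set F := T.toFinite.toFinset
  have hmem : ∀ V, V ∈ F ↔ V ∈ T := fun V => Set.Finite.mem_toFinset _
  have hcover : F.biUnion id = Finset.univ := by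
    refine Finset.eq_univ_iff_forall.mpr fun p => ?_
    obtain ⟨V, hV, hVc, hp⟩ := exists_coset_tetrad_through h₀ (hfour V₀ ⟨h₀, h₀'⟩) p
    exact Finset.mem_biUnion.mpr ⟨V, (hmem V).mpr ⟨hV, hVc.le⟩, hp⟩
  have hcard := congrArg Finset.card hcover
  rw [Finset.card_biUnion, Finset.card_univ, card_golayPt,
    Finset.sum_congr rfl (g := fun _ => 4) (f := fun u => (id u).card) fun V hV => hfour V ((hmem V).mp hV),
    Finset.sum_const, smul_eq_mul] at hcard
  · rw [Set.ncard_eq_toFinset_card T]
    show F.card = 6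
    omega
  · intro a ha b hb hab
    exact (coset_short_disjoint ((hmem a).mp ha).1 ((hmem b).mp hb).1 ((hmem a).mp ha).2
      ((hmem b).mp hb).2 hab).2.2

/-- The distance-three ball about exactly one punctured code word. -/
theorem exists_coset_three_off_none (S : Finset GolayPt) :
    ∃ V, IsCodeSet (S ∆ V) ∧ (V.erase none).card ≤ 3 := by
  obtain ⟨V, h, h'⟩ := exists_coset_card_le_four S
  by_cases h3 : V.card ≤ 3
  · exact ⟨V, h, (Finset.card_erase_le).trans h3⟩
  obtain ⟨V', hV, hc, hp⟩ := exists_coset_tetrad_through h (by omega) none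
  exact ⟨V', hV, by rw [Finset.card_erase_of_mem hp]; omega⟩

/-! ### Puncturing at the extra point -/

/-- Forget the extra coordinate. -/
def puncture (w : GolayPt → ZMod 2) : ZMod 23 → ZMod 2 := fun x => w (some x)

theorem hammingNorm_puncture (w : GolayPt → ZMod 2) :
    hammingNorm (puncture w) = ((support₂ w).erase none).card := by
  refine Finset.card_bij (fun x _ => some x) ?_ ?_ ?_
  · intro x hx
    exact Finset.mem_erase.mpr ⟨Option.some_ne_none x,
      Finset.mem_filter.mpr ⟨Finset.mem_univ _, (Finset.mem_filter.mp hx).2⟩⟩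
  · intro a _ b _ h; exact Option.some_injective _ h
  · rintro (_ | x) hx
    · simp at hx
    · exact ⟨x, Finset.mem_filter.mpr ⟨Finset.mem_univ _,
        (Finset.mem_filter.mp (Finset.mem_erase.mp hx).2).2⟩, rfl⟩

theorem puncture_injOn {v w : GolayPt → ZMod 2} (hv : v ∈ golayCode) (hw : w ∈ golayCode)
    (h : hammingNorm (puncture (v - w)) ≤ 6) : v = w := by
  have hvw := sub_mem hv hw
  have hc := hammingNorm_puncture (v - w)
  have hle := Finset.pred_card_le_card_erase (s := support₂ (v - w)) (a := (none : GolayPt))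
  have hcs := mem_golayCode_iff.mp hvw
  have : support₂ (v - w) = ∅ := eq_empty_of_card_lt hcs (by omega)
  rw [← sub_eq_zero, ← word_support₂ (v - w), this, word_empty]

end Cfsg.Agent.Lib.Golay
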