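/-
Tools for orbits of stabilisers in `Cfsg.M24` on objects of another kind.
-/
import Cfsg.Agent.Lib.Orbit.Cross
import Cfsg.Agent.Lib.Golay.StabCert

set_option autoImplicit false

namespace Cfsg.Agent.Lib.Golay.Cross

open Cfsg
open scoped Pointwise
open Cfsg.Agent.Lib.Orbit
open Cfsg.Agent.Lib.Golay.StabCert

theorem famOf_singleton (m : ℕ) : famOf [m] = {ptsOf m} := by simp [famOf]

/-- The profile of a point set against a family. -/
def setProfile (S : Finset (Finset GolayPt)) (x : Finset GolayPt) : ℕ := meetProfile S {x} 0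

theorem setProfile_smul (g : ↥M24) (S : Finset (Finset GolayPt)) (hS : g • S = S)
    (x : Finset GolayPt) : setProfile S (g • x) = setProfile S x := by
  conv_lhs => rw [setProfile, ← hS, ← Finset.smul_finset_singleton]
  exact meetProfile_smul g _ _ 0

theorem famProfile_smul (g : ↥M24) (S : Finset (Finset GolayPt)) (hS : g • S = S)
    (T : Finset (Finset GolayPt)) : meetProfile S (g • T) 0 = meetProfile S T 0 := by
  conv_lhs => rw [← hS]
  exact meetProfile_smul g _ _ 0

/-- Orbit data carried to a conjugate of the stabilised object. -/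
theorem transport {X Y A C : Type} [MulAction ↥M24 X] [MulAction ↥M24 Y]
    {D : Coding ↥M24 X A C} {x : Y} {P : Set X} {gens : List A} {os : List (C × OrbTree C)}
    (h : D.CrossDecomp (MulAction.stabilizer ↥M24 x) P gens os)
    {β : Type} (inv : X → β)
    (hinv : ∀ g ∈ MulAction.stabilizer ↥M24 x, ∀ z ∈ P, inv (g • z) = inv z)
    (hsep : (os.map fun o => inv (D.den o.1)).Nodup)
    (hP : ∀ (g : ↥M24), ∀ z ∈ P, g • z ∈ P) (g : ↥M24) :
    (∀ o ∈ os, g • D.den o.1 ∈ P ∧
      (MulAction.orbit (MulAction.stabilizer ↥M24 (g • x)) (g • D.den o.1)).ncard =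
        (Coding.orbCodes o).length) ∧
    ∀ z, z ∈ P ↔ ∃ o ∈ os,
      z ∈ MulAction.orbit (MulAction.stabilizer ↥M24 (g • x)) (g • D.den o.1) := by
  refine ⟨fun o ho => ⟨hP g _ (h.roots o ho), ?_⟩, fun z => ⟨fun hz => ?_, ?_⟩⟩
  · rw [cross_ncard_smul, h.ncard_orbit inv hinv hsep ho]
  · obtain ⟨o, ho, hzo⟩ := h.exists_root (hP g⁻¹ z hz)
    refine ⟨o, ho, ?_⟩
    rw [cross_orbit_smul, Set.mem_smul_set_iff_inv_smul_mem]
    exact hzo
  · rintro ⟨o, ho, hzo⟩
    rw [cross_orbit_smul, Set.mem_smul_set_iff_inv_smul_mem] at hzo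
    have := hP g _ (h.orbit_subset (h.roots o ho) hzo)
    rwa [smul_inv_smul] at this

end Cfsg.Agent.Lib.Golay.Cross
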