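import Mathlib

/-! Lists for the centraliser of an involution of the Mathieu group of degree 24, machine-written.
Written by helper88. -/

set_option autoImplicit false
set_option maxRecDepth 100000

namespace Cfsg.Agent.Lib.Golay.InvCentData

/-- Generators of the 2-core. -/
def qgens : List (List ℕ) := [
  [0,1,2,5,4,3,21,19,11,10,9,8,18,13,17,20,16,14,12,7,15,6,22,23],
  [0,1,2,14,13,17,21,19,18,9,10,12,11,4,3,15,22,5,8,7,20,6,16,23],
  [0,2,1,8,13,11,21,7,3,10,9,5,17,4,18,15,16,12,14,19,20,6,22,23],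
  [1,0,23,3,22,5,19,21,8,20,15,11,12,16,14,10,13,17,18,6,9,7,4,2],
  [4,16,22,8,23,11,20,9,3,19,7,5,17,0,18,6,2,12,14,10,21,15,1,13],
  [6,7,19,8,20,11,23,2,3,22,16,5,17,15,18,4,9,12,14,1,13,0,10,21]]

/-- The 2-core. -/
def qlist : List (List ℕ) := [
  [0,1,2,3,4,5,6,7,8,9,10,11,12,13,14,15,16,17,18,19,20,21,22,23],
  [0,1,2,5,4,3,21,19,11,10,9,8,18,13,17,20,16,14,12,7,15,6,22,23],
  [0,1,2,14,13,17,21,19,18,9,10,12,11,4,3,15,22,5,8,7,20,6,16,23],
  [0,2,1,8,13,11,21,7,3,10,9,5,17,4,18,15,16,12,14,19,20,6,22,23],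
  [1,0,23,3,22,5,19,21,8,20,15,11,12,16,14,10,13,17,18,6,9,7,4,2],
  [4,16,22,8,23,11,20,9,3,19,7,5,17,0,18,6,2,12,14,10,21,15,1,13],
  [6,7,19,8,20,11,23,2,3,22,16,5,17,15,18,4,9,12,14,1,13,0,10,21],
  [0,1,2,17,13,14,6,7,12,10,9,18,8,4,5,20,22,3,11,19,15,21,16,23],
  [0,2,1,11,13,8,6,19,5,9,10,3,14,4,12,20,16,18,17,7,15,21,22,23],
  [1,0,23,5,22,3,7,6,11,15,20,8,18,16,17,9,13,14,12,21,10,19,4,2],
  [4,16,22,11,23,8,15,10,5,7,19,3,14,0,12,21,2,18,17,9,6,20,1,13],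
  [21,19,7,11,15,8,23,2,5,22,16,3,14,20,12,4,10,18,17,1,13,0,9,6],
  [0,2,1,18,4,12,6,19,14,10,9,17,5,13,8,15,22,11,3,7,20,21,16,23],
  [1,0,23,14,16,17,7,6,18,20,15,12,11,22,3,10,4,5,8,21,9,19,13,2],
  [13,22,16,18,23,12,20,9,14,7,19,17,5,0,8,21,2,11,3,10,6,15,1,4],
  [21,19,7,18,20,12,23,2,14,16,22,17,5,15,8,13,9,11,3,1,4,0,10,6],
  [2,0,23,8,22,11,19,6,3,20,15,5,17,16,18,9,4,12,14,21,10,7,13,1],
  [13,16,22,3,23,5,20,10,8,19,7,11,12,0,14,21,1,17,18,9,6,15,2,4],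
  [21,7,19,3,20,5,23,1,8,22,16,11,12,15,14,13,10,17,18,2,4,0,9,6],
  [1,23,0,8,16,11,7,21,3,15,20,5,17,22,18,10,13,12,14,6,9,19,4,2],
  [22,13,4,8,2,11,9,20,3,6,21,5,17,1,18,19,23,12,14,15,7,10,0,16],
  [19,21,6,8,9,11,2,23,3,4,13,5,17,10,18,22,20,12,14,0,16,1,15,7],
  [4,16,22,18,0,12,15,10,14,19,7,17,5,23,8,6,1,11,3,9,21,20,2,13],
  [4,22,16,3,0,5,15,9,8,7,19,11,12,23,14,6,2,17,18,10,21,20,1,13],
  [16,4,13,8,1,11,10,15,3,21,6,5,17,2,18,7,0,12,14,20,19,9,23,22],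
  [23,2,1,3,13,5,21,19,8,10,9,11,12,4,14,20,22,17,18,7,15,6,16,0],
  [20,9,10,3,21,5,13,22,8,1,2,11,12,6,14,23,19,17,18,16,0,4,7,15],
  [6,7,19,11,20,8,0,1,5,16,22,3,14,15,12,13,9,18,17,2,4,23,10,21],
  [6,7,19,18,15,12,0,1,14,22,16,17,5,20,8,4,10,11,3,2,13,23,9,21],
  [6,19,7,3,15,5,0,2,8,16,22,11,12,20,14,4,9,17,18,1,13,23,10,21],
  [7,6,21,8,10,11,1,0,3,13,4,5,17,9,18,16,15,12,14,23,22,2,20,19],
  [0,2,1,12,4,18,21,7,17,9,10,14,3,13,11,20,22,8,5,19,15,6,16,23],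
  [1,0,23,17,16,14,19,21,12,15,20,18,8,22,5,9,4,3,11,6,10,7,13,2],
  [13,22,16,12,23,18,15,10,17,19,7,14,3,0,11,6,2,8,5,9,21,20,1,4],
  [6,7,19,12,15,18,23,2,17,16,22,14,3,20,11,13,10,8,5,1,4,0,9,21],
  [2,0,23,11,22,8,7,21,5,15,20,3,14,16,12,10,4,18,17,6,9,19,13,1],
  [13,16,22,5,23,3,15,9,11,7,19,8,18,0,17,6,1,14,12,10,21,20,2,4],
  [6,19,7,5,15,3,23,1,11,22,16,8,18,20,17,13,9,14,12,2,4,0,10,21],
  [1,23,0,11,16,8,19,6,5,20,15,3,14,22,12,9,13,18,17,21,10,7,4,2],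
  [22,13,4,11,2,8,10,15,5,21,6,3,14,1,12,7,23,18,17,20,19,9,0,16],
  [7,6,21,11,10,8,2,23,5,4,13,3,14,9,12,22,15,18,17,0,16,1,20,19],
  [4,16,22,12,0,18,20,9,17,7,19,14,3,23,11,21,1,8,5,10,6,15,2,13],
  [4,22,16,5,0,3,20,10,11,19,7,8,18,23,17,21,2,14,12,9,6,15,1,13],
  [16,4,13,11,1,8,9,20,5,6,21,3,14,2,12,19,0,18,17,15,7,10,23,22],
  [23,2,1,5,13,3,6,7,11,9,10,8,18,4,17,15,22,14,12,19,20,21,16,0],
  [15,10,9,5,6,3,13,22,11,1,2,8,18,21,17,23,7,14,12,16,0,4,19,20],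
  [21,19,7,8,15,11,0,1,3,16,22,5,17,20,18,13,10,12,14,2,4,23,9,6],
  [21,19,7,12,20,18,0,1,17,22,16,14,3,15,11,4,9,8,5,2,13,23,10,6],
  [21,7,19,5,20,3,0,2,11,16,22,8,18,15,17,4,10,14,12,1,13,23,9,6],
  [19,21,6,11,9,8,1,0,5,13,4,3,14,10,12,16,20,18,17,23,22,2,15,7],
  [2,0,23,18,16,12,7,21,14,20,15,17,5,22,8,9,13,11,3,6,10,19,4,1],
  [4,22,16,14,23,17,20,10,18,7,19,12,11,0,3,6,1,5,8,9,21,15,2,13],
  [6,19,7,14,20,17,23,1,18,16,22,12,11,15,3,4,10,5,8,2,13,0,9,21],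
  [1,23,0,18,22,12,19,6,14,15,20,17,5,16,8,10,4,11,3,21,9,7,13,2],
  [16,4,13,18,2,12,9,20,14,21,6,17,5,1,8,7,23,11,3,15,19,10,0,22],
  [7,6,21,18,9,12,2,23,14,13,4,17,5,10,8,16,20,11,3,0,22,1,15,19],
  [13,22,16,8,0,11,15,10,3,7,19,5,17,23,18,21,1,12,14,9,6,20,2,4],
  [13,16,22,14,0,17,15,9,18,19,7,12,11,23,3,21,2,5,8,10,6,20,1,4],
  [22,13,4,18,1,12,10,15,14,6,21,17,5,2,8,19,0,11,3,20,7,9,23,16],
  [23,2,1,14,4,17,6,7,18,10,9,12,11,13,3,20,16,5,8,19,15,21,22,0],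
  [20,9,10,14,6,17,4,16,18,1,2,12,11,21,3,23,7,5,8,22,0,13,19,15],
  [21,7,19,14,15,17,0,2,18,22,16,12,11,20,3,13,9,5,8,1,4,23,10,6],
  [19,21,6,18,10,12,1,0,14,4,13,17,5,9,8,22,15,11,3,23,16,2,20,7],
  [2,23,0,3,16,5,7,6,8,15,20,11,12,22,14,9,4,17,18,21,10,19,13,1],
  [22,4,13,3,1,5,10,20,8,21,6,11,12,2,14,19,23,17,18,15,7,9,0,16],
  [19,6,21,3,10,5,1,23,8,13,4,11,12,9,14,22,20,17,18,0,16,2,15,7],
  [16,13,4,3,2,5,9,15,8,6,21,11,12,1,14,7,0,17,18,20,19,10,23,22],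
  [23,1,2,8,4,11,6,19,3,9,10,5,17,13,18,20,22,12,14,7,15,21,16,0],
  [20,10,9,8,6,11,4,22,3,2,1,5,17,21,18,23,19,12,14,16,0,13,7,15],
  [7,21,6,3,9,5,2,0,8,4,13,11,12,10,14,16,15,17,18,23,22,1,20,19],
  [9,20,15,3,7,5,16,4,8,0,23,11,12,19,14,2,6,17,18,13,1,22,21,10],
  [15,10,9,14,21,17,13,22,18,2,1,12,11,6,3,0,19,5,8,16,23,4,7,20],
  [15,9,10,8,21,11,13,16,3,1,2,5,17,6,18,0,7,12,14,22,23,4,19,20],
  [10,15,20,3,19,5,22,13,8,23,0,11,12,7,14,1,21,17,18,4,2,16,6,9],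
  [20,9,10,5,21,3,4,16,11,2,1,8,18,6,17,0,19,14,12,22,23,13,7,15],
  [2,0,23,12,16,18,19,6,17,15,20,14,3,22,11,10,13,8,5,21,9,7,4,1],
  [4,22,16,17,23,14,15,9,12,19,7,18,8,0,5,21,1,3,11,10,6,20,2,13],
  [21,7,19,17,15,14,23,1,12,16,22,18,8,20,5,4,9,3,11,2,13,0,10,6],
  [1,23,0,12,22,18,7,21,17,20,15,14,3,16,11,9,4,8,5,6,10,19,13,2],
  [16,4,13,12,2,18,10,15,17,6,21,14,3,1,11,19,23,8,5,20,7,9,0,22],
  [19,21,6,12,10,18,2,23,17,13,4,14,3,9,11,16,15,8,5,0,22,1,20,7],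
  [13,22,16,11,0,8,20,9,5,19,7,3,14,23,12,6,1,18,17,10,21,15,2,4],
  [13,16,22,17,0,14,20,10,12,7,19,18,8,23,5,6,2,3,11,9,21,15,1,4],
  [22,13,4,12,1,18,9,20,17,21,6,14,3,2,11,7,0,8,5,15,19,10,23,16],
  [23,2,1,17,4,14,21,19,12,9,10,18,8,13,5,15,16,3,11,7,20,6,22,0],
  [15,10,9,17,21,14,4,16,12,1,2,18,8,6,5,23,19,3,11,22,0,13,7,20],
  [6,19,7,17,20,14,0,2,12,22,16,18,8,15,5,13,10,3,11,1,4,23,9,21],
  [7,6,21,12,9,18,1,0,17,4,13,14,3,10,11,22,20,8,5,23,16,2,15,19],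
  [2,23,0,5,16,3,19,21,11,20,15,8,18,22,17,10,4,14,12,6,9,7,13,1],
  [22,4,13,5,1,3,9,15,11,6,21,8,18,2,17,7,23,14,12,20,19,10,0,16],
  [7,21,6,5,9,3,1,23,11,13,4,8,18,10,17,22,15,14,12,0,16,2,20,19],
  [16,13,4,5,2,3,10,20,11,21,6,8,18,1,17,19,0,14,12,15,7,9,23,22],
  [23,1,2,11,4,8,21,7,5,10,9,3,14,13,12,15,22,18,17,19,20,6,16,0],
  [15,9,10,11,21,8,4,22,5,2,1,3,14,6,12,23,7,18,17,16,0,13,19,20],
  [19,6,21,5,10,3,2,0,11,4,13,8,18,9,17,16,20,14,12,23,22,1,15,7],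
  [10,15,20,5,19,3,16,4,11,0,23,8,18,7,17,2,21,14,12,13,1,22,6,9],
  [20,9,10,17,6,14,13,22,12,2,1,18,8,21,5,0,7,3,11,16,23,4,19,15],
  [20,10,9,11,6,8,13,16,5,1,2,3,14,21,12,0,19,18,17,22,23,4,7,15],
  [9,20,15,5,7,3,22,13,11,23,0,8,18,19,17,1,6,14,12,4,2,16,21,10],
  [15,10,9,3,6,5,4,16,8,2,1,11,12,21,14,0,7,17,18,22,23,13,19,20],
  [2,23,0,14,22,17,19,21,18,15,20,12,11,16,3,9,13,5,8,6,10,7,4,1],
  [16,13,4,14,1,17,10,20,18,6,21,12,11,2,3,7,23,5,8,15,19,9,0,22],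
  [7,21,6,14,10,17,1,23,18,4,13,12,11,9,3,16,20,5,8,0,22,2,15,19],
  [22,4,13,14,2,17,9,15,18,21,6,12,11,1,3,19,0,5,8,20,7,10,23,16],
  [23,1,2,18,13,12,21,7,14,9,10,17,5,4,8,20,16,11,3,19,15,6,22,0],
  [20,10,9,18,21,12,13,16,14,2,1,17,5,6,8,23,7,11,3,22,0,4,19,15],
  [19,6,21,14,9,17,2,0,18,13,4,12,11,10,3,22,15,5,8,23,16,1,20,7],
  [9,20,15,14,19,17,22,13,18,0,23,12,11,7,3,2,21,5,8,4,1,16,6,10],
  [15,9,10,18,6,12,4,22,14,1,2,17,5,21,8,0,19,11,3,16,23,13,7,20],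
  [10,15,20,14,7,17,16,4,18,23,0,12,11,19,3,1,6,5,8,13,2,22,21,9],
  [10,20,15,8,7,11,16,13,3,0,23,5,17,19,18,1,21,12,14,4,2,22,6,9],
  [9,15,20,8,19,11,22,4,3,23,0,5,17,7,18,2,6,12,14,13,1,16,21,10],
  [2,23,0,17,22,14,7,6,12,20,15,18,8,16,5,10,13,3,11,21,9,19,4,1],
  [16,13,4,17,1,14,9,15,12,21,6,18,8,2,5,19,23,3,11,20,7,10,0,22],
  [19,6,21,17,9,14,1,23,12,4,13,18,8,10,5,16,15,3,11,0,22,2,20,7],
  [22,4,13,17,2,14,10,20,12,6,21,18,8,1,5,7,0,3,11,15,19,9,23,16],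
  [23,1,2,12,13,18,6,19,17,10,9,14,3,4,11,15,16,8,5,7,20,21,22,0],
  [15,9,10,12,6,18,13,16,17,2,1,14,3,21,11,23,19,8,5,22,0,4,7,20],
  [7,21,6,17,10,14,2,0,12,13,4,18,8,9,5,22,20,3,11,23,16,1,15,19],
  [10,15,20,17,7,14,22,13,12,0,23,18,8,19,5,2,6,3,11,4,1,16,21,9],
  [20,10,9,12,21,18,4,22,17,1,2,14,3,6,11,0,7,8,5,16,23,13,19,15],
  [9,20,15,17,19,14,16,4,12,23,0,18,8,7,5,1,21,3,11,13,2,22,6,10],
  [9,15,20,11,19,8,16,13,5,0,23,3,14,7,12,1,6,18,17,4,2,22,21,10],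
  [10,20,15,11,7,8,22,4,5,23,0,3,14,19,12,2,21,18,17,13,1,16,6,9],
  [10,20,15,18,19,12,22,4,14,0,23,17,5,7,8,1,6,11,3,13,2,16,21,9],
  [9,15,20,18,7,12,16,13,14,23,0,17,5,19,8,2,21,11,3,4,1,22,6,10],
  [9,15,20,12,7,18,22,4,17,0,23,14,3,19,11,1,21,8,5,13,2,16,6,10],
  [10,20,15,12,19,18,16,13,17,23,0,14,3,7,11,2,6,8,5,4,1,22,21,9]]

/-- Generators of an elementary abelian subgroup. -/
def egens : List (List ℕ) := [
  [23,2,1,3,13,5,21,19,8,10,9,11,12,4,14,20,22,17,18,7,15,6,16,0],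
  [0,1,2,5,4,3,21,19,11,10,9,8,18,13,17,20,16,14,12,7,15,6,22,23],
  [0,1,2,14,13,17,21,19,18,9,10,12,11,4,3,15,22,5,8,7,20,6,16,23],
  [0,2,1,8,13,11,21,7,3,10,9,5,17,4,18,15,16,12,14,19,20,6,22,23]]

/-- An elementary abelian subgroup. -/
def elist : List (List ℕ) := [
  [0,1,2,3,4,5,6,7,8,9,10,11,12,13,14,15,16,17,18,19,20,21,22,23],
  [23,2,1,3,13,5,21,19,8,10,9,11,12,4,14,20,22,17,18,7,15,6,16,0],
  [0,1,2,5,4,3,21,19,11,10,9,8,18,13,17,20,16,14,12,7,15,6,22,23],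
  [0,1,2,14,13,17,21,19,18,9,10,12,11,4,3,15,22,5,8,7,20,6,16,23],
  [0,2,1,8,13,11,21,7,3,10,9,5,17,4,18,15,16,12,14,19,20,6,22,23],
  [23,2,1,5,13,3,6,7,11,9,10,8,18,4,17,15,22,14,12,19,20,21,16,0],
  [23,2,1,14,4,17,6,7,18,10,9,12,11,13,3,20,16,5,8,19,15,21,22,0],
  [23,1,2,8,4,11,6,19,3,9,10,5,17,13,18,20,22,12,14,7,15,21,16,0],
  [0,1,2,17,13,14,6,7,12,10,9,18,8,4,5,20,22,3,11,19,15,21,16,23],
  [0,2,1,11,13,8,6,19,5,9,10,3,14,4,12,20,16,18,17,7,15,21,22,23],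
  [0,2,1,18,4,12,6,19,14,10,9,17,5,13,8,15,22,11,3,7,20,21,16,23],
  [23,2,1,17,4,14,21,19,12,9,10,18,8,13,5,15,16,3,11,7,20,6,22,0],
  [23,1,2,11,4,8,21,7,5,10,9,3,14,13,12,15,22,18,17,19,20,6,16,0],
  [23,1,2,18,13,12,21,7,14,9,10,17,5,4,8,20,16,11,3,19,15,6,22,0],
  [0,2,1,12,4,18,21,7,17,9,10,14,3,13,11,20,22,8,5,19,15,6,16,23],
  [23,1,2,12,13,18,6,19,17,10,9,14,3,4,11,15,16,8,5,7,20,21,22,0]]

/-- Matrix codes and generators. -/
def codeA : ℕ := 84
/-- Matrix codes and generators. -/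
def codeB : ℕ := 174

/-- Image of the first generator. -/
def genA : List ℕ := [0,1,2,12,7,8,16,4,5,9,10,14,3,19,11,15,6,18,17,13,20,22,21,23]

/-- Image of the second generator. -/
def genB : List ℕ := [13,1,2,8,20,5,6,10,17,22,16,18,12,15,11,0,7,3,14,9,23,21,19,4]

/-- The complement, by matrix codes, with words in the generators. -/
def klist : List (ℕ × List ℕ × List Bool) := [
  (84, [0,1,2,12,7,8,16,4,5,9,10,14,3,19,11,15,6,18,17,13,20,22,21,23], [false]),
  (85, [0,1,2,14,20,3,16,4,11,21,6,12,8,15,5,19,10,17,18,13,7,22,9,23], [true,false,true,false,true,true,false,true,false,true,false]),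
  (86, [0,1,2,8,6,12,16,4,17,15,20,3,14,21,18,9,7,11,5,13,10,22,19,23], [true,false,true,true,false]),
  (87, [0,1,2,3,10,14,16,4,18,19,7,8,12,9,17,21,20,5,11,13,6,22,15,23], [true,true,false,true,true,false,true,false,true,false]),
  (92, [22,1,2,17,7,11,23,4,3,21,6,18,5,19,8,15,10,14,12,13,20,0,9,16], [true,true,false,true,false]),
  (93, [22,1,2,18,20,5,23,4,8,9,10,17,11,15,3,19,6,12,14,13,7,0,21,16], [true,false,true,false,true,true,false,true,true,false]),
  (94, [22,1,2,11,10,17,23,4,12,15,20,5,18,9,14,21,7,8,3,13,6,0,19,16], [false,true,false,true,false,true,false,true]),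
  (95, [22,1,2,5,6,18,23,4,14,19,7,11,17,21,12,9,20,3,8,13,10,0,15,16], [true,false,true,false,true,false]),
  (98, [19,1,2,8,23,12,20,4,18,9,10,11,17,0,14,22,6,5,3,13,16,15,21,7], [false,true,false,true,true,false,true,false,true,false,true,true,false,true,false]),
  (99, [15,1,2,3,23,14,7,4,17,21,6,5,18,0,12,22,10,11,8,13,16,19,9,20], [false,true,false,true,true,false,true,false,true]),
  (102, [21,1,2,12,23,8,10,4,11,15,20,18,5,0,3,22,7,17,14,13,16,9,19,6], [false,true,true,false,true,false,true,false,true,true,false]),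
  (103, [9,1,2,14,23,3,6,4,5,19,7,17,11,0,8,22,20,18,12,13,16,21,15,10], [false,true,false,true,true,false,true,true]),
  (106, [19,1,2,11,16,17,20,4,14,21,6,8,12,22,18,0,10,3,5,13,23,15,9,7], [false,true,true,false,true,true,false,true,false,true,true]),
  (107, [15,1,2,5,16,18,7,4,12,9,10,3,14,22,17,0,6,8,11,13,23,19,21,20], [true,true,false,true,false,true,false,true,true,false,true,false,true]),
  (110, [9,1,2,17,16,11,6,4,8,15,20,14,3,22,5,0,7,12,18,13,23,21,19,10], [false,true,true,false,true,true,false,true,false,true,false,true]),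
  (111, [21,1,2,18,16,5,10,4,3,19,7,12,8,22,11,0,20,14,17,13,23,9,15,6], [true,true,false,true,false,true,false,true,true,false,true,true]),
  (114, [19,1,2,12,6,8,20,4,3,22,16,17,11,21,5,9,23,14,18,13,10,15,0,7], [true,false,true,true,false,true,true,false,true]),
  (115, [15,1,2,14,10,3,7,4,8,22,16,18,5,9,11,21,23,12,17,13,6,19,0,20], [false,true,false,true,false,true,true,false,true,true,false,true,false]),
  (116, [21,1,2,8,7,12,10,4,14,22,16,5,18,19,17,15,23,3,11,13,20,9,0,6], [false,true,true,false,true]),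
  (117, [9,1,2,3,20,14,6,4,12,22,16,11,17,15,18,19,23,8,5,13,7,21,0,10], [false,true,false,true,false,true,false,true,true,false,true,false,true,true]),
  (122, [19,1,2,17,10,11,20,4,5,0,23,12,8,9,3,21,16,18,14,13,6,15,22,7], [false,true,false,true,false,true,true]),
  (123, [15,1,2,18,6,5,7,4,11,0,23,14,3,21,8,9,16,17,12,13,10,19,22,20], [true,false,true,false,true,false,true,true,false,true]),
  (124, [9,1,2,11,7,17,6,4,18,0,23,3,14,19,12,15,16,5,8,13,20,21,22,10], [true,true,false,true,false,true,true,false,true]),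
  (125, [21,1,2,5,20,18,10,4,17,0,23,8,12,15,14,19,16,11,3,13,7,9,22,6], [true,false,true,true,false,true,false,true,false,true,true]),
  (140, [13,1,2,18,7,17,16,23,3,9,10,11,5,19,14,21,20,12,8,0,6,22,15,4], [true,false,true,true,false,true,false,true,false,true,true,false,true]),
  (141, [13,1,2,11,6,5,16,23,14,15,20,18,17,21,3,19,10,8,12,0,7,22,9,4], [false,true,false,true,false,true,true,false,true]),
  (142, [13,1,2,17,20,18,16,23,8,21,6,5,11,15,12,9,7,14,3,0,10,22,19,4], [false,true,true,false,true,false,true,true,false,true,true]),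
  (143, [13,1,2,5,10,11,16,23,12,19,7,17,18,9,8,15,6,3,14,0,20,22,21,4], [true,false,true,false,true,false,true,true,false,true,false,true]),
  (156, [13,1,2,14,7,12,23,16,5,21,6,8,3,19,18,9,20,17,11,22,10,0,15,4], [false,true,false,true,true,false,true,true,false,true,false]),
  (157, [13,1,2,8,10,3,23,16,18,15,20,14,12,9,5,19,6,11,17,22,7,0,21,4], [true,false,true,true,false,true,true,false,true,false,true]),
  (158, [13,1,2,12,20,14,23,16,11,9,10,3,8,15,17,21,7,18,5,22,6,0,19,4], [false,true,true,false,true,false,true]),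
  (159, [13,1,2,3,6,8,23,16,17,19,7,12,14,21,11,15,10,5,18,22,20,0,9,4], [false,true,false,true,true,false,true,false,true,false,true,false]),
  (161, [13,1,2,5,23,3,20,7,17,9,10,14,18,0,11,21,16,8,12,19,6,15,22,4], [true,false,true,true,false,true,false,true,false,true,true,false,true,false]),
  (163, [13,1,2,11,23,8,7,20,18,21,6,12,17,0,5,9,16,3,14,15,10,19,22,4], [false,true,true,false,true,false,true,true,false,true,true,false]),
  (165, [13,1,2,17,23,14,10,6,5,15,20,3,11,0,18,19,16,12,8,21,7,9,22,4], [false,true,false,true,false,true,true,false,true,false]),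
  (167, [13,1,2,18,23,12,6,10,11,19,7,8,5,0,17,15,16,14,3,9,20,21,22,4], [true,false,true,false,true,false,true,true,false,true,false,true,false]),
  (169, [13,1,2,14,6,18,20,7,11,22,16,5,3,21,17,0,10,12,8,19,23,15,9,4], [true,true,false,true,true,false,true,false,true,true]),
  (171, [13,1,2,12,10,17,7,20,5,22,16,11,8,9,18,0,6,14,3,15,23,19,21,4], [true,false]),
  (172, [13,1,2,3,7,11,10,6,18,22,16,17,14,19,5,0,20,8,12,21,23,9,15,4], [true,false,true,false,true,true,false,true,false,true,true]),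
  (174, [13,1,2,8,20,5,6,10,17,22,16,18,12,15,11,0,7,3,14,9,23,21,19,4], [true]),
  (177, [13,1,2,3,16,5,20,7,12,21,6,18,14,22,8,9,23,11,17,19,10,15,0,4], [false,true,false,true,true,false,true,true,false,true]),
  (179, [13,1,2,8,16,11,7,20,14,9,10,17,12,22,3,21,23,5,18,15,6,19,0,4], [false,true,true,false,true,false,true,false]),
  (181, [13,1,2,12,16,18,6,10,3,15,20,5,8,22,14,19,23,17,11,9,7,21,0,4], [true,false,true,true,false,true,true,false,true,false,true,false]),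
  (183, [13,1,2,14,16,17,10,6,8,19,7,11,3,22,12,15,23,18,5,21,20,9,0,4], [false,true,false,true,true,false,true,false,true,false,true]),
  (185, [13,1,2,18,10,14,20,7,8,0,23,3,5,9,12,22,6,17,11,19,16,15,21,4], [true,false,true,false,true,true]),
  (187, [13,1,2,17,6,12,7,20,3,0,23,8,11,21,14,22,10,18,5,15,16,19,9,4], [true,true,false,true,true,false]),
  (188, [13,1,2,5,7,8,6,10,14,0,23,12,18,19,3,22,20,11,17,9,16,21,15,4], [true,false,true,false,true,true,false]),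
  (190, [13,1,2,11,20,3,10,6,12,0,23,14,17,15,8,22,7,5,18,21,16,9,19,4], [true,true,false,true,true]),
  (204, [22,1,2,8,7,14,4,23,5,15,20,12,3,19,17,21,10,11,18,0,6,13,9,16], [true,true,false,true,false,true,false,true,true]),
  (205, [22,1,2,12,6,3,4,23,17,9,10,8,14,21,5,19,20,18,11,0,7,13,15,16], [false,true,true,false,true,true,false,true]),
  (206, [22,1,2,14,10,8,4,23,18,21,6,3,12,9,11,15,7,17,5,0,20,13,19,16], [false,true,false,true,false,true,false,true,true,false,true,true]),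
  (207, [22,1,2,3,20,12,4,23,11,19,7,14,8,15,18,9,6,5,17,0,10,13,21,16], [false,true,true,false,true,true,false,true,false,true,false,true,true,false]),
  (212, [0,1,2,11,7,18,4,16,3,15,20,17,5,19,12,9,6,8,14,22,10,13,21,23], [false,true,false,true,true]),
  (213, [0,1,2,17,10,5,4,16,12,21,6,11,18,9,3,19,20,14,8,22,7,13,15,23], [true,true,false,true,false,true,true,false,true,true,false,true]),
  (214, [0,1,2,18,6,11,4,16,14,9,10,5,17,21,8,15,7,12,3,22,20,13,19,23], [true,false,true,true,false,true,false,true,true]),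
  (215, [0,1,2,5,20,17,4,16,8,19,7,18,11,15,14,21,10,3,12,22,6,13,9,23], [false,true,true,false,true,false,true,false,true,true,false,true,false]),
  (225, [15,1,2,12,23,11,4,7,18,22,16,8,17,0,3,21,10,14,5,19,6,13,9,20], [true,false,true,true,false,true,false,true]),
  (226, [19,1,2,14,23,5,4,20,17,22,16,3,18,0,8,9,6,12,11,15,10,13,21,7], [true,true,false,true,false,true,true,false,true,true,false]),
  (229, [9,1,2,8,23,18,4,6,11,22,16,12,5,0,14,19,20,3,17,21,7,13,15,10], [false,true,false,true]),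
  (230, [21,1,2,3,23,17,4,10,5,22,16,14,11,0,12,15,7,8,18,9,20,13,19,6], [true,false,true,false,true,false,true,true,false,true,true,false]),
  (233, [15,1,2,8,6,17,4,7,3,9,10,12,11,21,18,0,16,5,14,19,23,13,22,20], [true,false,true,false,true,true,false,true,false,true,false,true,false]),
  (234, [19,1,2,3,10,18,4,20,8,21,6,14,5,9,17,0,16,11,12,15,23,13,22,7], [false,true,false]),
  (236, [9,1,2,12,7,5,4,6,14,15,20,8,18,19,11,0,16,17,3,21,23,13,22,10], [true,true,false,true,true,false,true,false,true,false,true,false]),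
  (239, [21,1,2,14,20,11,4,10,12,19,7,3,17,15,5,0,16,18,8,9,23,13,22,6], [true,false,true,true,false,true,false]),
  (241, [15,1,2,11,10,12,4,7,5,21,6,17,8,9,14,22,23,3,18,19,16,13,0,20], [true,false,true,false,true,true,false,true,true,false,true,false]),
  (242, [19,1,2,5,6,14,4,20,11,9,10,18,3,21,12,22,23,8,17,15,16,13,0,7], [true,true,false,true,false,true,false]),
  (244, [21,1,2,17,7,3,4,10,18,15,20,11,14,19,8,22,23,12,5,9,16,13,0,6], [true,false,true,false,true,false,true,false]),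
  (247, [9,1,2,18,20,8,4,6,17,19,7,5,12,15,3,22,23,14,11,21,16,13,0,10], [false,true,false,true,false,true,false,true,true,false]),
  (249, [15,1,2,17,16,8,4,7,14,0,23,11,12,22,5,9,6,18,3,19,10,13,21,20], [false,true,false,true,false,true,false,true,true,false,true]),
  (250, [19,1,2,18,16,3,4,20,12,0,23,5,14,22,11,21,10,17,8,15,6,13,9,7], [false,true,true,false,true,true,false]),
  (253, [21,1,2,11,16,14,4,10,8,0,23,17,3,22,18,19,20,5,12,9,7,13,15,6], [true,true,false,true,false,true,false,true]),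
  (254, [9,1,2,5,16,12,4,6,3,0,23,18,8,22,17,15,7,11,14,21,20,13,19,10], [true,false,true,false,true,true,false,true,true,false,true,false,true]),
  (266, [19,1,2,17,4,18,6,23,12,9,10,14,8,13,11,22,20,3,5,0,16,21,15,7], [false,true,false,true,true,false,true,false,true,false,true,true,false,true]),
  (267, [21,1,2,5,4,11,7,23,8,15,20,3,12,13,18,22,10,14,17,0,16,19,9,6], [false,true,true,false,true,false,true,false,true,true]),
  (270, [15,1,2,18,4,17,10,23,14,21,6,12,3,13,5,22,7,8,11,0,16,9,19,20], [false,true,false,true,true,false,true,false,true,false]),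
  (271, [9,1,2,11,4,5,20,23,3,19,7,8,14,13,17,22,6,12,18,0,16,15,21,10], [false,true,false,true,true,false,true,true,false]),
  (273, [0,1,2,3,4,5,6,7,8,9,10,11,12,13,14,15,16,17,18,19,20,21,22,23], []),
  (275, [0,1,2,14,4,17,7,6,12,15,20,18,8,13,3,9,16,5,11,21,10,19,22,23], [true,false,true,true]),
  (277, [0,1,2,8,4,11,10,20,3,21,6,5,14,13,12,19,16,18,17,15,7,9,22,23], [true,false,true,false,true,true,false,true,false,true]),
  (279, [0,1,2,12,4,18,20,10,14,19,7,17,3,13,8,21,16,11,5,9,6,15,22,23], [true,true,false,true,true,false,true,false,true]),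
  (281, [21,1,2,18,4,14,23,7,12,22,16,17,8,13,5,15,10,11,3,19,20,0,9,6], [false,true,true,false,true,false]),
  (282, [19,1,2,11,4,3,23,6,8,22,16,5,12,13,17,9,20,18,14,21,10,0,15,7], [true,false,true,true,false,true,true,false,true,false]),
  (285, [9,1,2,17,4,12,23,20,14,22,16,18,3,13,11,19,6,5,8,15,7,0,21,10], [false,true,false,true,true,false,true,true,false,true,false,true,true]),
  (286, [15,1,2,5,4,8,23,10,3,22,16,11,14,13,18,21,7,17,12,9,6,0,19,20], [false,true,false,true,false,true,true,false,true,true,false,true]),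
  (298, [19,1,2,12,4,14,10,16,17,21,6,18,11,13,8,0,20,5,3,22,23,9,15,7], [false,true,false,true,false,true,true,false,true,false,true,true]),
  (299, [9,1,2,3,4,8,7,16,11,15,20,5,17,13,14,0,6,18,12,22,23,19,21,10], [false,true,true,false,true,true,false,true,false,true,false,true,false]),
  (302, [15,1,2,14,4,12,6,16,18,9,10,17,5,13,3,0,7,11,8,22,23,21,19,20], [false,true,false,true,false,true,true,false,true,false,true,false,true]),
  (303, [21,1,2,8,4,3,20,16,5,19,7,11,18,13,12,0,10,17,14,22,23,15,9,6], [true,true,false,true,false,true,false,true,true,false,true,true,false]),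
  (305, [22,1,2,5,4,3,10,7,11,21,6,8,17,13,18,15,23,12,14,19,20,9,0,16], [true,true,false,true]),
  (307, [22,1,2,18,4,12,7,10,17,15,20,14,11,13,5,21,23,3,8,9,6,19,0,16], [true,true,false,true,true,false,true,true]),
  (309, [22,1,2,11,4,8,6,20,5,9,10,3,18,13,17,19,23,14,12,15,7,21,0,16], [true,false,true,false,true,true,false,true,true]),
  (311, [22,1,2,17,4,14,20,6,18,19,7,12,5,13,11,9,23,8,3,21,10,15,0,16], [true,false,true,false,true]),
  (313, [9,1,2,14,4,18,16,7,17,0,23,12,11,13,3,15,6,8,5,19,20,22,21,10], [false,true,true,false,true,false,true,true,false,true]),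
  (314, [19,1,2,8,4,5,16,10,11,0,23,3,17,13,12,21,20,14,18,9,6,22,15,7], [false,true,false,true,false,true,true,false]),
  (317, [21,1,2,12,4,17,16,20,18,0,23,14,5,13,8,19,10,3,11,15,7,22,9,6], [true,false,true,true,false,true,false,true,false,true,true,false]),
  (318, [15,1,2,3,4,11,16,6,5,0,23,8,18,13,14,9,7,12,17,21,10,22,19,20], [true,false,true,false,true,false,true,true,false,true,false]),
  (330, [19,1,2,14,16,8,6,23,11,15,20,17,18,22,12,13,10,5,3,0,4,21,9,7], [true,false,true,false,true,true,false,true]),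
  (331, [21,1,2,3,16,12,7,23,18,9,10,5,11,22,8,13,20,17,14,0,4,19,15,6], [true,true,false,true,true,false,true]),
  (334, [9,1,2,8,16,14,20,23,17,21,6,11,5,22,3,13,7,18,12,0,4,15,19,10], [true,false,true,false]),
  (335, [15,1,2,12,16,3,10,23,5,19,7,18,17,22,14,13,6,11,8,0,4,9,21,20], [true,true,false]),
  (337, [0,1,2,11,20,12,6,7,14,22,16,3,5,15,8,13,10,18,17,19,4,21,9,23], [false,true,false,true,false,true,true,false,true,false,true,false]),
  (339, [0,1,2,18,10,8,7,6,3,22,16,14,17,9,12,13,20,11,5,21,4,19,15,23], [false,true,true,false,true,false,true,true,false,true,true,false,true]),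
  (340, [0,1,2,5,7,14,10,20,12,22,16,8,11,19,3,13,6,17,18,15,4,9,21,23], [false,true,false,true,false,true,true,false,true,false,true]),
  (342, [0,1,2,17,6,3,20,10,8,22,16,12,18,21,14,13,7,5,11,9,4,15,19,23], [false,true,true,false,true,false,true,true,false,true,true,false,true,false]),
  (345, [21,1,2,17,20,8,23,7,5,9,10,18,14,15,12,13,16,3,11,19,4,0,22,6], [false,true,false,true,false,true,true,false,true,true,false]),
  (346, [19,1,2,5,10,12,23,6,17,15,20,11,3,9,8,13,16,14,18,21,4,0,22,7], [false,true,false,true,true,false,true,true,false,true,false,true]),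
  (348, [9,1,2,18,7,3,23,20,11,21,6,17,12,19,14,13,16,8,5,15,4,0,22,10], [true,false,true,true,false,true,true,false,true,false,true,true]),
  (351, [15,1,2,11,6,14,23,10,18,19,7,5,8,21,3,13,16,12,17,9,4,0,22,20], [false,true,true,false,true,false,true,true]),
  (354, [19,1,2,18,23,11,10,16,8,15,20,12,14,0,17,13,6,3,5,22,4,9,21,7], [true,false,true,false,true,true,false,true,false]),
  (355, [9,1,2,5,23,17,7,16,14,21,6,3,8,0,11,13,20,12,18,22,4,19,15,10], [true,false,true]),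
  (358, [21,1,2,11,23,18,20,16,12,9,10,8,3,0,5,13,7,14,17,22,4,15,19,6], [true,true,false,true,true,false,true,false]),
  (359, [15,1,2,17,23,5,6,16,3,19,7,14,12,0,18,13,10,8,11,22,4,21,9,20], [true,true]),
  (369, [9,1,2,12,20,11,16,7,3,21,6,14,18,15,17,13,23,5,8,19,4,22,0,10], [true,false,true,false,true,false,true,true,false,true,false,true,true]),
  (370, [19,1,2,3,6,17,16,10,12,15,20,8,5,21,11,13,23,18,14,9,4,22,0,7], [false,true,false,true,true,false,true,true,false,true,false,true,false]),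
  (372, [21,1,2,14,7,5,16,20,8,9,10,12,17,19,18,13,23,11,3,15,4,22,0,6], [false,true,false,true,false,true,true,false,true,true]),
  (375, [15,1,2,8,10,18,16,6,14,19,7,3,11,9,5,13,23,17,12,21,4,22,0,20], [false,true,true,false,true,false,true,true,false]),
  (377, [22,1,2,8,20,17,10,7,18,0,23,5,3,15,11,13,6,14,12,19,4,9,21,16], [false,true,false,true,true,false,true,false,true,false,true,true]),
  (379, [22,1,2,14,6,11,7,10,5,0,23,18,12,21,17,13,20,8,3,9,4,19,15,16], [false,true,true,false,true,false,true,false,true]),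
  (380, [22,1,2,3,7,18,6,20,17,0,23,11,8,19,5,13,10,12,14,15,4,21,9,16], [false,true,false,true,true,false,true,false,true,false,true,true,false]),
  (382, [22,1,2,12,10,5,20,6,11,0,23,17,14,9,18,13,7,3,8,21,4,15,19,16], [false,true,true,false,true,false,true,false,true,false]),
  (394, [19,1,2,18,20,17,6,23,5,22,16,8,14,15,3,9,4,11,12,0,10,21,13,7], [true,true,false,true,false,true,true,false,true,true]),
  (395, [21,1,2,11,10,5,7,23,17,22,16,12,3,9,14,15,4,18,8,0,20,19,13,6], [true,false,true,false,true,false,true,true,false,true,true]),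
  (396, [15,1,2,17,7,18,10,23,11,22,16,3,12,19,8,21,4,5,14,0,6,9,13,20], [true,false,true,true,false,true,false,true,false]),
  (397, [9,1,2,5,6,11,20,23,18,22,16,14,8,21,12,19,4,17,3,0,7,15,13,10], [false,true,false,true,false]),
  (401, [0,1,2,5,16,3,6,7,18,15,20,12,11,22,17,9,4,14,8,19,10,21,13,23], [false,true,false,true,true,false]),
  (403, [0,1,2,17,16,14,7,6,11,9,10,8,18,22,5,15,4,3,12,21,20,19,13,23], [false,true,false,true,true,false,true,false,true,true]),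
  (405, [0,1,2,18,16,12,20,10,5,21,6,3,17,22,11,19,4,8,14,9,7,15,13,23], [true,true,false,true,false,true,true,false,true,true,false,true,false]),
  (407, [0,1,2,11,16,8,10,20,17,19,7,14,5,22,18,21,4,12,3,15,6,9,13,23], [false,true,true,false,true,false,true,false,true,true,false,true]),
  (409, [21,1,2,14,10,18,23,7,3,15,20,8,17,9,11,22,4,5,12,19,16,0,13,6], [true,false,true,false,true,false,true]),
  (410, [19,1,2,3,20,11,23,6,14,9,10,12,5,15,18,22,4,17,8,21,16,0,13,7], [true,true,false,true,false,true]),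
  (412, [15,1,2,8,7,5,23,10,12,21,6,14,11,19,17,22,4,18,3,9,16,0,13,20], [true,false,true,false,true,true,false,true,true,false,true]),
  (415, [9,1,2,12,6,17,23,20,8,19,7,3,18,21,5,22,4,11,14,15,16,0,13,10], [false,true,false,true,false,true,false,true,true]),
  (417, [22,1,2,3,23,5,10,7,14,15,20,17,8,0,12,21,4,18,11,19,6,9,13,16], [true,true,false,true,false,true,false,true,true,false]),
  (419, [22,1,2,12,23,18,7,10,8,21,6,11,14,0,3,15,4,5,17,9,20,19,13,16], [false,true,false,true,false,true,false,true,true,false,true,true,false]),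
  (421, [22,1,2,14,23,17,20,6,3,9,10,5,12,0,8,19,4,11,18,21,7,15,13,16], [false,true,true,false,true,true,false,true,false]),
  (423, [22,1,2,8,23,11,6,20,12,19,7,18,3,0,14,9,4,17,5,15,10,21,13,16], [false,true,true,false,true,true,false,true,false,true,false,true,true]),
  (425, [9,1,2,18,6,14,16,7,5,15,20,11,12,21,8,0,4,3,17,19,23,22,13,10], [true,true,false,true,true,false,true,false,true,false,true]),
  (426, [19,1,2,5,20,8,16,10,18,21,6,17,3,15,14,0,4,12,11,9,23,22,13,7], [false,true]),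
  (428, [15,1,2,11,7,3,16,6,17,9,10,18,8,19,12,0,4,14,5,21,23,22,13,20], [true,false,true,false,true,true,false,true,false,true,false,true]),
  (431, [21,1,2,17,10,12,16,20,11,19,7,5,14,9,3,0,4,8,18,15,23,22,13,6], [true,false,true,true,false,true]),
  (442, [19,1,2,14,20,12,10,16,3,0,23,11,18,15,5,21,4,8,17,22,6,9,13,7], [false,true,true,false,true,true]),
  (443, [9,1,2,8,6,3,7,16,12,0,23,17,5,21,18,15,4,14,11,22,20,19,13,10], [false,true,false,true,false,true,true,false,true,true,false,true,false,true]),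
  (444, [15,1,2,12,7,14,6,16,8,0,23,5,17,19,11,9,4,3,18,22,10,21,13,20], [false,true,false,true,false,true,false,true,true,false,true,false]),
  (445, [21,1,2,3,10,8,20,16,14,0,23,18,11,9,17,19,4,12,5,22,7,15,13,6], [true,true,false,true,false,true,false,true,false]),
  (458, [19,1,2,8,10,14,6,23,3,13,4,18,17,9,5,15,16,12,11,0,20,21,22,7], [false,true,false,true,false,true,false,true,true,false,true,false,true]),
  (459, [21,1,2,12,20,3,7,23,14,13,4,11,5,15,17,9,16,8,18,0,10,19,22,6], [true,true,false,true,true,false,true,false,true,false,true,true,false]),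
  (460, [9,1,2,14,7,8,20,23,12,13,4,5,11,19,18,21,16,3,17,0,6,15,22,10], [true,false,true,true,false,true,true,false]),
  (461, [15,1,2,3,6,12,10,23,8,13,4,17,18,21,11,19,16,14,5,0,7,9,22,20], [false,true,true,false]),
  (465, [0,1,2,12,10,11,6,7,17,13,4,5,3,9,18,22,20,8,14,19,16,21,15,23], [false,true,true,false,true,true,false,true,false,true,false]),
  (467, [0,1,2,8,20,18,7,6,5,13,4,17,14,15,11,22,10,12,3,21,16,19,9,23], [true,true,false,true,false,true,false,true,true,false,true,false]),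
  (468, [0,1,2,3,7,17,20,10,11,13,4,18,12,19,5,22,6,14,8,9,16,15,21,23], [false,true,true,false,true,true,false,true,false,true]),
  (470, [0,1,2,14,6,5,10,20,18,13,4,11,8,21,17,22,7,3,12,15,16,9,19,23], [true,true,false,true,false,true,false,true,true,false,true]),
  (473, [21,1,2,8,16,17,23,7,11,13,4,14,18,22,3,9,20,12,5,19,10,0,15,6], [false,true,false,true,false,true,false]),
  (474, [19,1,2,12,16,5,23,6,18,13,4,3,11,22,14,15,10,8,17,21,20,0,9,7], [true,false,true,true,false,true,false,true,false,true,false]),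
  (477, [15,1,2,14,16,11,23,10,17,13,4,8,5,22,12,19,6,3,18,9,7,0,21,20], [true,true,false,true,false,true,true]),
  (478, [9,1,2,3,16,18,23,20,5,13,4,12,17,22,8,21,7,14,11,15,6,0,19,10], [true,false,true,false,true,false,true,true]),
  (481, [9,1,2,11,23,12,16,7,8,13,4,18,14,0,5,21,20,17,3,19,6,22,15,10], [true,false,true,true,false,true,true]),
  (482, [19,1,2,17,23,3,16,10,14,13,4,5,8,0,18,15,6,11,12,9,20,22,21,7], [true,false,true,false,true,true,false,true,false,true,false,true,true]),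
  (485, [15,1,2,18,23,8,16,6,12,13,4,11,3,0,17,19,10,5,14,21,7,22,9,20], [false,true,true]),
  (486, [21,1,2,5,23,14,16,20,3,13,4,17,12,0,11,9,7,18,8,15,10,22,19,6], [true,true,false,true,true,false,true,false,true,false,true,true]),
  (489, [22,1,2,17,6,8,10,7,12,13,4,3,5,21,14,0,20,11,18,19,23,9,15,16], [false,true,true,false,true,false,true,false,true,true,false,true,true]),
  (491, [22,1,2,11,20,14,7,10,3,13,4,12,18,15,8,0,6,17,5,9,23,19,21,16], [false,true,false,true,true,false,true,false]),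
  (492, [22,1,2,5,7,12,20,6,8,13,4,14,17,19,3,0,10,18,11,21,23,15,9,16], [false,true,true,false,true,false,true,false,true,true,false,true,true,false]),
  (494, [22,1,2,18,10,3,6,20,14,13,4,8,11,9,12,0,7,5,17,15,23,21,19,16], [false,true,false,true,true,false,true]),
  (498, [19,1,2,11,6,18,10,16,5,13,4,14,12,21,3,15,23,17,8,22,20,9,0,7], [true,false,true,true,false,true,false,true,false,true]),
  (499, [9,1,2,17,20,5,7,16,18,13,4,8,3,15,12,21,23,11,14,22,6,19,0,10], [true,false,true,false,true,false,true,true,false]),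
  (500, [21,1,2,18,7,11,20,16,17,13,4,3,8,19,14,9,23,5,12,22,10,15,0,6], [false,true,false,true,false,true]),
  (501, [15,1,2,5,10,17,6,16,11,13,4,12,14,9,8,19,23,18,3,22,7,21,0,20], [true,true,false,true,false,true,true,false])]

/-- Coset representatives in the stabiliser of the fixed octad. -/
def cosetReps : List (List ℕ) := [
  [0,1,2,3,4,5,6,7,8,9,10,11,12,13,14,15,16,17,18,19,20,21,22,23],
  [21,7,0,12,15,5,19,2,3,22,20,14,8,16,18,9,13,17,11,6,4,23,10,1],
  [15,13,0,8,19,3,4,6,11,10,7,18,14,9,5,1,22,17,12,20,16,23,2,21],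
  [15,16,0,8,23,11,2,9,5,1,13,3,12,22,18,10,20,17,14,6,21,4,19,7],
  [16,19,0,17,9,5,4,2,12,7,23,14,11,13,3,15,6,18,8,21,22,10,1,20],
  [19,23,21,14,20,17,6,7,5,15,4,18,8,13,11,9,10,12,3,2,16,0,22,1],
  [22,9,7,17,10,14,4,21,11,23,13,8,5,19,12,15,2,3,18,20,6,0,16,1],
  [16,22,4,18,20,12,19,21,5,2,23,17,3,9,8,0,10,11,14,7,1,6,15,13],
  [19,2,9,8,13,5,23,4,12,7,16,18,14,21,3,10,0,17,11,6,1,20,15,22],
  [9,2,10,14,4,8,16,22,12,20,0,11,17,21,18,15,13,3,5,7,23,19,6,1],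
  [21,0,2,5,4,12,9,13,8,6,7,17,14,16,3,1,10,11,18,22,23,15,20,19],
  [19,2,20,8,22,12,21,10,5,1,15,11,14,6,18,13,23,3,17,0,7,16,9,4],
  [1,16,6,5,10,14,15,22,3,19,13,18,11,23,12,0,4,17,8,21,9,2,7,20],
  [4,9,22,11,2,14,7,21,18,10,16,12,5,19,3,15,23,8,17,0,13,1,6,20],
  [20,15,19,8,2,11,23,22,17,6,10,12,14,13,3,9,4,5,18,0,21,16,1,7]]

/-- An element carrying the involution into the 2-core. -/
def moveElt : List ℕ := [1,13,21,17,15,8,4,9,5,23,20,3,12,0,18,19,16,11,14,2,22,6,7,10]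

end Cfsg.Agent.Lib.Golay.InvCentData
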