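import Mathlib
import Cfsg.Agent.Lib.Golay.ClassFacts
import Cfsg.Agent.Lib.Golay.InvCentData
import Cfsg.Agent.Lib.Golay.OctadStab
import Cfsg.Agent.Lib.LargeES.Basic
import Cfsg.Agent.Lib.LargeES.Heisenberg
import Cfsg.Agent.Lib.PSolvable.Core

/-!
The centraliser of an involution with eight fixed points in the Mathieu group of degree 24.
Written by helper88.
-/

set_option autoImplicit false
set_option maxRecDepth 1000000
set_option Elab.async false

namespace Cfsg.Agent.Lib.Golay.InvCent

open Cfsg
open Cfsg.Agent.Lib.Golay.Classes Cfsg.Agent.Lib.Golay.StabCert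
open InvCentData

abbrev Mat3 := Matrix.SpecialLinearGroup (Fin 3) (ZMod 2)

/-- The code of a matrix. -/
def code (M : Mat3) : ℕ :=
  (List.range 9).foldl (fun acc i => acc +
    (if (M : Matrix (Fin 3) (Fin 3) (ZMod 2)) ⟨i / 3 % 3, Nat.mod_lt _ (by norm_num)⟩
      ⟨i % 3, Nat.mod_lt _ (by norm_num)⟩ = 1 then 2 ^ i else 0)) 0

/-- The image list of a matrix. -/
def look (M : Mat3) : List ℕ := ((klist.lookup (code M)).getD ([], [])).1

/-- The word of a matrix. -/
def wordOf (M : Mat3) : List Bool := ((klist.lookup (code M)).getD ([], [])).2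

/-- The generating matrices. -/
def matOf (c : ℕ) : Matrix (Fin 3) (Fin 3) (ZMod 2) :=
  Matrix.of fun i j => if c.testBit (3 * i.val + j.val) then 1 else 0

/-- The first generating matrix. -/
def matA : Mat3 := ⟨matOf codeA, by decide +kernel⟩
/-- The second generating matrix. -/
def matB : Mat3 := ⟨matOf codeB, by decide +kernel⟩

/-- The identity list. -/
def idl : List ℕ := List.range 24

/-- Same permutation, by packed codes. -/
def same (l m : List ℕ) : Bool := pack l == pack m

/-- Membership up to packing. -/
def memP (L : List (List ℕ)) (x : List ℕ) : Bool := L.any fun q => same q x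

/-- Equality of two products of two lists. -/
def eq22 (a b c d : List ℕ) : Bool := same (compList a b) (compList c d)

/-- Commutation up to the involution. -/
def nearComm (a b : List ℕ) : Bool :=
  eq22 a b b a || same (compList a b) (compList (compList b a) ClassData.rep2f8)

theorem lists_valid : (idl :: ClassData.rep2f8 :: genA :: genB :: moveElt ::
    (qgens ++ qlist ++ egens ++ elist ++ cosetReps)).all inM24 = true := by decide +kernel

theorem reps_facts : (cosetReps.all (fun g => (List.range 24).all fun i =>
      !(applyNum ClassData.rep2f8 i == i) ||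
        applyNum ClassData.rep2f8 (applyNum g i) == applyNum g i) &&
    cosetReps.length == 15) = true := by decide +kernel

theorem reps_distinct : ((List.range 15).all fun i => (List.range 15).all fun j => i == j ||
    ((List.range 24).any fun x =>
      let g := cosetReps.getD i []
      let h := cosetReps.getD j []
      (List.range 24).any fun y => applyNum h y == applyNum g x &&
        applyNum g (applyNum ClassData.rep2f8 x) != applyNum h (applyNum ClassData.rep2f8 y))) = true := by
  decide +kernel

theorem k_valid : klist.all (fun e => inM24 e.2.1) = true := by decide +kernel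

theorem q_closed : (same idl (compList idl idl) && memP qlist idl && qgens.all (memP qlist) &&
    qlist.all (fun q => qgens.all fun g => memP qlist (compList q g))) = true := by decide +kernel

theorem e_closed : (memP elist idl && egens.all (memP elist) &&
    elist.all (fun q => egens.all fun g => memP elist (compList q g)) &&
    elist.all (memP qlist) && egens.all (fun g => same (compList g g) idl &&
      egens.all (fun h => eq22 g h h g))) = true := by decide +kernel

/-- Each entry is the identity or an earlier entry times a generator. -/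
def grown (L G : List (List ℕ)) : Bool :=
  (List.range L.length).all fun i => same (L.getD i []) idl ||
    (List.range i).any fun j => G.any fun g => same (L.getD i []) (compList (L.getD j []) g)

theorem q_grown : grown qlist qgens = true := by decide +kernel

theorem e_grown : grown elist egens = true := by decide +kernel

theorem q_nodup : (qlist.map pack).Nodup ∧ qlist.length = 128 := by decide +kernel

theorem e_nodup : (elist.map pack).Nodup ∧ elist.length = 16 := by decide +kernel

theorem gens_comm : ([genA, genB] ++ qgens).all (fun a =>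
    eq22 a ClassData.rep2f8 ClassData.rep2f8 a) = true := by decide +kernel

theorem q_norm : [genA, genB].all (fun a => qgens.all fun g => qlist.any fun q =>
    eq22 a g q a) = true := by decide +kernel

theorem q_facts : (memP qlist ClassData.rep2f8 && qlist.all fun q =>
    (same (compList q q) idl || same (compList q q) ClassData.rep2f8) &&
    (qgens.all fun g => nearComm q g) &&
    (same q idl || same q ClassData.rep2f8 || qgens.any fun g => !eq22 q g g q)) = true := by
  decide +kernel

theorem k_outer : klist.all (fun e => same e.2.1 idl || qgens.any fun g => !nearComm e.2.1 g) = true := by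
  decide +kernel

theorem k_hom : ∀ M : Mat3, eq22 (look (M * matA)) idl (look M) genA = true ∧
    eq22 (look (M * matB)) idl (look M) genB = true := by decide +kernel

theorem k_word : ∀ M : Mat3,
    ((wordOf M).map fun b => if b then matB else matA).prod = M ∧
    (klist.lookup (code M)).isSome = true ∧ (M = 1 → same (look M) idl = true) ∧
    (M ≠ 1 → same (look M) idl = false ∧ memP qlist (look M) = false) := by decide +kernel

theorem move_facts : (qlist.any (fun q => eq22 moveElt ClassData.rep2f8 q moveElt) &&
    qlist.any (fun q => eq22 ClassData.rep2f8 moveElt moveElt q) &&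
    !eq22 moveElt ClassData.rep2f8 ClassData.rep2f8 moveElt) = true := by decide +kernel

/-- The element given by a list, moved by conjugation with `k`. -/
noncomputable def el (k : ↥M24) (l : List ℕ) : ↥M24 := k * rho l * k⁻¹

theorem val_apply {l : List ℕ} (hl : inM24 l = true) :
    ((rho l : ↥M24) : Equiv.Perm GolayPt) = toPerm l := rho_val hl

theorem applyNum_eq_of_same {l m : List ℕ} (h : same l m = true) {i : ℕ} (hi : i < 24) :
    pimg (pack l) i = pimg (pack m) i := by
  have := beq_iff_eq.mp h
  rw [this]

/-- The list `l` is a permutation list in `M24`. -/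
abbrev OK (l : List ℕ) : Prop := inM24 l = true

theorem toPerm_eq_of {a b : List ℕ} {σ : Equiv.Perm GolayPt} (ha : validList a = true)
    (hab : ∀ i < 24, applyNum a i = applyNum b i) (hσ : ∀ i : Fin 24, (idx (σ (pt i))).val = applyNum b i.val) :
    toPerm a = σ :=
  (toPerm_eq_iff ha σ).mpr fun i => by rw [hσ i, hab i.val i.isLt]

theorem applyNum_of_same {l m : List ℕ} (h : same l m = true) {i : ℕ} (hi : i < 24)
    (hl : l.length = 24) (hm : m.length = 24) : applyNum l i = applyNum m i := by
  rw [← pimg_pack l i, ← pimg_pack m i, beq_iff_eq.mp h]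

theorem compList_length (a b : List ℕ) : (compList a b).length = 24 := by simp [compList]

theorem two_apply {a b : List ℕ} (ha : OK a) (hb : OK b) (i : Fin 24) :
    (idx ((toPerm a * toPerm b) (pt i))).val = applyNum (compList a b) i.val := by
  rw [Equiv.Perm.mul_apply, idx_toPerm (inM24.valid ha), idx_toPerm (inM24.valid hb), idx_pt,
    applyNum_compList _ _ i.isLt]

variable (k : ↥M24)

theorem el_mul (a b : List ℕ) : el k a * el k b = k * (rho a * rho b) * k⁻¹ := by
  simp [el, mul_assoc]

theorem pimg_eq {a b : List ℕ} (h : same a b = true) (i : ℕ) : applyNum a i = applyNum b i := by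
  rw [← pimg_pack a i, ← pimg_pack b i, beq_iff_eq.mp h]

theorem el_eq22 {a b c d : List ℕ} (ha : OK a) (hb : OK b) (hc : OK c) (hd : OK d) :
    eq22 a b c d = true ↔ el k a * el k b = el k c * el k d := by
  rw [el_mul, el_mul, mul_left_inj, mul_right_inj]
  constructor
  · intro h
    apply Subtype.ext
    simp only [Subgroup.coe_mul, val_apply ha, val_apply hb, val_apply hc, val_apply hd]
    refine Equiv.ext fun p => ptEquiv.injective (Fin.ext ?_)
    show (idx _).val = (idx _).val
    rw [← pt_idx p, two_apply ha hb, two_apply hc hd]
    exact pimg_eq h _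
  · intro h
    refine beq_iff_eq.mpr (pack_congr (compList_length _ _) (compList_length _ _) fun i hi => ?_)
    have h' := congrArg (fun x : ↥M24 => (idx ((x : Equiv.Perm GolayPt) (pt ⟨i, hi⟩))).val) h
    simp only [Subgroup.coe_mul, val_apply ha, val_apply hb, val_apply hc, val_apply hd,
      two_apply ha hb, two_apply hc hd] at h'
    exact h'

theorem el_same_comp {a b q : List ℕ} (ha : OK a) (hb : OK b) (hq : OK q)
    (h : same q (compList a b) = true) : el k a * el k b = el k q := by
  rw [el_mul, el, mul_left_inj, mul_right_inj]
  apply Subtype.ext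
  simp only [Subgroup.coe_mul, val_apply ha, val_apply hb, val_apply hq]
  refine Equiv.ext fun p => ptEquiv.injective (Fin.ext ?_)
  show (idx _).val = (idx _).val
  rw [← pt_idx p, two_apply ha hb, idx_toPerm (inM24.valid hq), idx_pt]
  exact (pimg_eq h _).symm

theorem el_eq_of_same {a b : List ℕ} (ha : OK a) (hb : OK b) (h : same a b = true) :
    el k a = el k b := by
  rw [el, el, mul_left_inj, mul_right_inj]
  apply Subtype.ext
  rw [val_apply ha, val_apply hb, toPerm_eq_iff (inM24.valid ha)]
  intro i
  rw [idx_toPerm (inM24.valid hb), idx_pt, pimg_eq h]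

theorem el_inj {a b : List ℕ} (ha : OK a) (hb : OK b) (hla : a.length = 24) (hlb : b.length = 24)
    (h : el k a = el k b) : same a b = true := by
  rw [el, el, mul_left_inj, mul_right_inj] at h
  refine beq_iff_eq.mpr (pack_congr hla hlb fun i hi => ?_)
  have h' := congrArg (fun x : ↥M24 => (idx ((x : Equiv.Perm GolayPt) (pt ⟨i, hi⟩))).val) h
  simp only [val_apply ha, val_apply hb, idx_toPerm (inM24.valid ha),
    idx_toPerm (inM24.valid hb), idx_pt] at h'
  exact h'

theorem ok_idl : OK idl := List.all_eq_true.mp lists_valid _ (by simp)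
theorem ok_rep : OK ClassData.rep2f8 := List.all_eq_true.mp lists_valid _ (by simp)
theorem ok_genA : OK genA := List.all_eq_true.mp lists_valid _ (by simp)
theorem ok_genB : OK genB := List.all_eq_true.mp lists_valid _ (by simp)
theorem ok_move : OK moveElt := List.all_eq_true.mp lists_valid _ (by simp)
theorem ok_q {q : List ℕ} (h : q ∈ qlist) : OK q := List.all_eq_true.mp lists_valid _ (by simp [h])
theorem ok_qg {q : List ℕ} (h : q ∈ qgens) : OK q := List.all_eq_true.mp lists_valid _ (by simp [h])
theorem ok_e {q : List ℕ} (h : q ∈ elist) : OK q := List.all_eq_true.mp lists_valid _ (by simp [h])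
theorem ok_eg {q : List ℕ} (h : q ∈ egens) : OK q := List.all_eq_true.mp lists_valid _ (by simp [h])

theorem ok_c {q : List ℕ} (h : q ∈ cosetReps) : OK q := List.all_eq_true.mp lists_valid _ (by simp [h])

theorem el_idl : el k idl = 1 := by
  have h := el_same_comp k ok_idl ok_idl ok_idl
    (by have := q_closed; simp only [Bool.and_eq_true] at this; exact this.1.1.1)
  exact mul_left_cancel (h.trans (mul_one _).symm)

theorem len24 : (idl :: ClassData.rep2f8 :: (qgens ++ qlist ++ egens ++ elist)).all
    (fun l => l.length == 24) = true ∧ klist.all (fun e => e.2.1.length == 24) = true := by decide +kernel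

/-- A list of elements closed under right multiplication by generators exhausts their closure. -/
theorem closure_eq {L G : List (List ℕ)} (hL : ∀ q ∈ L, OK q) (hG : ∀ g ∈ G, OK g)
    (h1 : memP L idl = true) (hG' : G.all (memP L) = true)
    (hstep : L.all (fun q => G.all fun g => memP L (compList q g)) = true) :
    ∀ x, x ∈ Subgroup.closure {x | ∃ g ∈ G, el k g = x} → ∃ q ∈ L, el k q = x := by
  have hS : ∀ x ∈ {x | ∃ g ∈ G, el k g = x}, ∀ q ∈ L, ∃ q' ∈ L, el k q' = el k q * x := by
    rintro _ ⟨g, hg, rfl⟩ q hq
    obtain ⟨q', hq', h⟩ := List.any_eq_true.mp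
      (List.all_eq_true.mp (List.all_eq_true.mp hstep q hq) g hg)
    exact ⟨q', hq', (el_same_comp k (hL q hq) (hG g hg) (hL q' hq') h).symm⟩
  intro x hx
  induction hx using Subgroup.closure_induction_right with
  | one =>
    obtain ⟨q, hq, h⟩ := List.any_eq_true.mp h1
    exact ⟨q, hq, (el_eq_of_same k (hL q hq) ok_idl h).trans (el_idl k)⟩
  | mul_right x _ y hy ih =>
    obtain ⟨q, hq, rfl⟩ := ih
    exact hS y hy q hq
  | mul_inv_cancel x _ y hy ih =>
    -- right multiplication by `y` permutes the finite set
    obtain ⟨q, hq, rfl⟩ := ih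
    set T : Set ↥M24 := {x | ∃ q ∈ L, el k q = x}
    have hmaps : Set.MapsTo (fun t => t * y) T T := by
      rintro _ ⟨p, hp, rfl⟩
      exact hS y hy p hp
    have hfin : T.Finite := Set.toFinite _
    obtain ⟨t, ⟨p, hp, rfl⟩, e⟩ := ((hfin.injOn_iff_bijOn_of_mapsTo hmaps).mp
      (fun a _ b _ h => mul_right_cancel h)).surjOn (show el k q ∈ T from ⟨q, hq, rfl⟩)
    exact ⟨p, hp, eq_mul_inv_of_mul_eq e⟩

/-- The entries of a grown list lie in the closure. -/
theorem mem_closure_of_grown {L G : List (List ℕ)} (hL : ∀ q ∈ L, OK q) (hG : ∀ g ∈ G, OK g)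
    (h : grown L G = true) :
    ∀ q ∈ L, el k q ∈ Subgroup.closure {x | ∃ g ∈ G, el k g = x} := by
  have hget : ∀ i < L.length, L.getD i [] ∈ L := fun i hi => by
    rw [List.getD_eq_getElem _ _ hi]; exact List.getElem_mem hi
  suffices key : ∀ i < L.length, el k (L.getD i []) ∈ Subgroup.closure {x | ∃ g ∈ G, el k g = x} by
    intro q hq
    obtain ⟨i, hi, rfl⟩ := List.getElem_of_mem hq
    rw [← List.getD_eq_getElem L [] hi]
    exact key i hi
  intro i
  induction i using Nat.strong_induction_on with
  | _ i ih =>
    intro hi
    have h' := List.all_eq_true.mp h i (List.mem_range.mpr hi)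
    simp only [Bool.or_eq_true, List.any_eq_true, List.mem_range] at h'
    rcases h' with h' | ⟨j, hj, g, hg, h'⟩
    · rw [el_eq_of_same k (hL _ (hget i hi)) ok_idl h', el_idl]; exact one_mem _
    · rw [← el_same_comp k (hL _ (hget j (hj.trans hi))) (hG g hg) (hL _ (hget i hi)) h']
      exact mul_mem (ih j hj (hj.trans hi)) (Subgroup.subset_closure ⟨g, hg, rfl⟩)

/-- The 2-core. -/
noncomputable def Q0 : Subgroup ↥M24 := Subgroup.closure {x | ∃ g ∈ qgens, el k g = x}

theorem exists_q {x : ↥M24} (hx : x ∈ Q0 k) : ∃ q ∈ qlist, el k q = x := by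
  have h := q_closed
  simp only [Bool.and_eq_true] at h
  exact closure_eq k (fun q hq => ok_q hq) (fun g hg => ok_qg hg) h.1.1.2 h.1.2 h.2 x hx

end Cfsg.Agent.Lib.Golay.InvCent
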