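/-
A Sylow count excluding subgroups of index 56 and 210 in groups of order 443520 with small
normalisers of elements of order 11 and 5.
-/
import Mathlib

set_option autoImplicit false

namespace Cfsg.Agent.Lib.Golay.SylowElevenCount

open scoped Pointwise

variable {G : Type*} [Group G] [Finite G]

/-- The order of the normaliser, inside `H`, of a cyclic Sylow subgroup of `H`. -/
theorem sylow_count {p : ℕ} [Fact p.Prime] {a : G} (ha : orderOf a = p) (H : Subgroup G)
    (haH : a ∈ H) (hp2 : ¬ p ^ 2 ∣ Nat.card ↥H) :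
    ∃ n, Nat.ModEq p n 1 ∧
      Nat.card ↥(Subgroup.normalizer (Subgroup.zpowers a : Set G) ⊓ H : Subgroup G) * n = Nat.card ↥H ∧
      p ∣ Nat.card ↥(Subgroup.normalizer (Subgroup.zpowers a : Set G) ⊓ H : Subgroup G) := by
  have hle : Subgroup.zpowers a ≤ H := Subgroup.zpowers_le.2 haH
  have hpp : Nat.card ↥(Subgroup.zpowers a) = p := by rw [Nat.card_zpowers, ha]
  have hdvd : p ∣ Nat.card ↥H := hpp ▸ Subgroup.card_dvd_of_le hle
  have hfac : (Nat.card ↥H).factorization p = 1 := by
    have hp : p.Prime := Fact.out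
    have a1 := (hp.pow_dvd_iff_le_factorization Nat.card_pos.ne').1
      (by rwa [pow_one] : p ^ 1 ∣ Nat.card ↥H)
    have b1 : ¬ 2 ≤ (Nat.card ↥H).factorization p := fun h =>
      hp2 ((hp.pow_dvd_iff_le_factorization Nat.card_pos.ne').2 h)
    omega
  let P : Sylow p ↥H := Sylow.ofCard ((Subgroup.zpowers a).subgroupOf H)
    (by rw [Nat.card_congr (Subgroup.subgroupOfEquivOfLe hle).toEquiv, hpp, hfac, pow_one])
  have hN : Subgroup.normalizer (P : Set ↥H) =
      (Subgroup.normalizer (Subgroup.zpowers a : Set G)).subgroupOf H := by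
    ext g
    show g ∈ Subgroup.normalizer (((Subgroup.zpowers a).subgroupOf H : Subgroup ↥H) : Set ↥H) ↔ _
    rw [Subgroup.mem_subgroupOf, Subgroup.mem_normalizer_iff,
      Subgroup.mem_normalizer_iff]
    constructor
    · intro h y
      constructor
      · intro hy
        exact (h ⟨y, hle hy⟩).1 hy
      · intro hy
        have hmem : y ∈ H := by
          have := H.mul_mem (H.mul_mem (H.inv_mem g.2) (hle hy)) g.2
          simpa [mul_assoc] using this
        exact (h ⟨y, hmem⟩).2 hy
    · intro h y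
      exact h y.1
  refine ⟨Nat.card (Sylow p ↥H), card_sylow_modEq_one p ↥H, ?_, ?_⟩
  · rw [P.card_eq_index_normalizer, hN,
      ← Subgroup.inf_subgroupOf_right, ← Nat.card_congr
      (Subgroup.subgroupOfEquivOfLe (inf_le_right :
        Subgroup.normalizer (Subgroup.zpowers a : Set G) ⊓ H ≤ H)).toEquiv]
    exact Subgroup.card_mul_index _
  · rw [← hpp]
    exact Subgroup.card_dvd_of_le (le_inf Subgroup.le_normalizer hle)

/-- The exclusion. -/
theorem index_ne (hG : Nat.card G = 443520) (a x y : G) (ha : orderOf a = 11) (hx : orderOf x = 5)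
    (hy : orderOf y = 4) (hxN : x ∈ Subgroup.normalizer (Subgroup.zpowers a : Set G))
    (hyN : y ∈ Subgroup.normalizer (Subgroup.zpowers x : Set G))
    (hNa : Nat.card ↥(Subgroup.normalizer (Subgroup.zpowers a : Set G)) ≤ 55)
    (hNx : Nat.card ↥(Subgroup.normalizer (Subgroup.zpowers x : Set G)) ≤ 20)
    (hgen : ∀ L : Subgroup G, a ∈ L → x ∈ L → y ∈ L → L = ⊤) (H : Subgroup G) :
    H.index ≠ 56 ∧ H.index ≠ 210 := by
  haveI : Fact (Nat.Prime 11) := ⟨by norm_num⟩
  haveI : Fact (Nat.Prime 5) := ⟨by norm_num⟩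
  suffices key : ∀ m : ℕ, H.index = m → m = 56 ∨ m = 210 → False from
    ⟨fun h => key _ h (Or.inl rfl), fun h => key _ h (Or.inr rfl)⟩
  intro m hm hcases
  -- move a Sylow subgroup to `a`
  obtain ⟨H', hidx, haH⟩ : ∃ H' : Subgroup G, H'.index = m ∧ a ∈ H' := by
    have hH : Nat.card ↥H * m = 443520 := by rw [← hm, Subgroup.card_mul_index, hG]
    have hd : 11 ∣ Nat.card ↥H := by rcases hcases with rfl | rfl <;> omega
    obtain ⟨b, hb⟩ := exists_prime_orderOf_dvd_card' 11 hd
    have hfac : (Nat.card G).factorization 11 = 1 := by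
      rw [hG, show 443520 = 40320 * 11 by norm_num,
        Nat.factorization_mul (by norm_num) (by norm_num)]
      simp [Nat.factorization_eq_zero_of_not_dvd (show ¬ 11 ∣ 40320 by norm_num),
        Nat.Prime.factorization_self (show Nat.Prime 11 by norm_num)]
    let S1 : Sylow 11 G := Sylow.ofCard (Subgroup.zpowers (b : G))
      (by rw [Nat.card_zpowers, Subgroup.orderOf_coe, hb, hfac, pow_one])
    let S2 : Sylow 11 G := Sylow.ofCard (Subgroup.zpowers a)
      (by rw [Nat.card_zpowers, ha, hfac, pow_one])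
    obtain ⟨g, hg⟩ := MulAction.exists_smul_eq G S1 S2
    have hg' : MulAut.conj g • Subgroup.zpowers (b : G) = Subgroup.zpowers a :=
      congrArg (fun S : Sylow 11 G => (S : Subgroup G)) hg
    refine ⟨H.map (MulAut.conj g).toMonoidHom, ?_, ?_⟩
    · rw [← hm]
      exact Subgroup.index_map_of_bijective (MulAut.conj g).bijective H
    · have : a ∈ MulAut.conj g • Subgroup.zpowers (b : G) := by
        rw [hg']; exact Subgroup.mem_zpowers a
      obtain ⟨c, hc, rfl⟩ := this
      exact Subgroup.mem_map_of_mem _ (Subgroup.zpowers_le.2 b.2 hc)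
  have hH : Nat.card ↥H' * m = 443520 := by rw [← hidx, Subgroup.card_mul_index, hG]
  obtain ⟨n, hn, hcard, h11⟩ := sylow_count ha H' haH (by
    intro h; rcases hcases with rfl | rfl <;> omega)
  set NH := Subgroup.normalizer (Subgroup.zpowers a : Set G) ⊓ H'
  have haN : a ∈ Subgroup.normalizer (Subgroup.zpowers a : Set G) :=
    Subgroup.le_normalizer (Subgroup.mem_zpowers a)
  have h55 : Nat.card ↥(Subgroup.normalizer (Subgroup.zpowers a : Set G)) = 55 := by
    have h1 : 11 ∣ Nat.card ↥(Subgroup.normalizer (Subgroup.zpowers a : Set G)) :=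
      ha ▸ Subgroup.orderOf_dvd_natCard _ haN
    have h2 : 5 ∣ Nat.card ↥(Subgroup.normalizer (Subgroup.zpowers a : Set G)) :=
      hx ▸ Subgroup.orderOf_dvd_natCard _ hxN
    have := Nat.card_pos (α := ↥(Subgroup.normalizer (Subgroup.zpowers a : Set G)))
    omega
  have hdvd : Nat.card ↥NH ∣ 55 := h55 ▸ Subgroup.card_dvd_of_le inf_le_left
  have hk : Nat.card ↥NH = 11 ∨ Nat.card ↥NH = 55 := by
    have := Nat.le_of_dvd (by norm_num) hdvd
    obtain ⟨c, hc⟩ := h11
    obtain ⟨c', hc'⟩ := hdvd
    have hc5 : c ≤ 5 := by omega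
    rw [hc] at hc'
    interval_cases c <;> omega
  rcases hcases with rfl | rfl
  · have hH' : Nat.card ↥H' = 7920 := by omega
    have hxH : x ∈ H' := by
      rcases hk with hk | hk <;> rw [hk, hH'] at hcard
      · exfalso
        rw [Nat.ModEq] at hn
        omega
      · exact (Subgroup.mem_inf.mp ((Subgroup.eq_of_le_of_card_ge (inf_le_left : NH ≤ _)
          (by rw [hk, h55])).ge hxN : x ∈ NH)).2
    obtain ⟨n', hn', hcard', h5⟩ := sylow_count hx H' hxH (by omega)
    set NX := Subgroup.normalizer (Subgroup.zpowers x : Set G) ⊓ H'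
    have h20 : Nat.card ↥(Subgroup.normalizer (Subgroup.zpowers x : Set G)) = 20 := by
      have h1 : 5 ∣ Nat.card ↥(Subgroup.normalizer (Subgroup.zpowers x : Set G)) :=
        hx ▸ Subgroup.orderOf_dvd_natCard _ (Subgroup.le_normalizer (Subgroup.mem_zpowers x))
      have h2 : 4 ∣ Nat.card ↥(Subgroup.normalizer (Subgroup.zpowers x : Set G)) :=
        hy ▸ Subgroup.orderOf_dvd_natCard _ hyN
      have := Nat.card_pos (α := ↥(Subgroup.normalizer (Subgroup.zpowers x : Set G)))
      omega
    have hdvd' : Nat.card ↥NX ∣ 20 := h20 ▸ Subgroup.card_dvd_of_le inf_le_left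
    have hk' : Nat.card ↥NX = 20 := by
      have := Nat.le_of_dvd (by norm_num) hdvd'
      rw [hH'] at hcard'
      rw [Nat.ModEq] at hn'
      obtain ⟨c, hc⟩ := h5
      obtain ⟨c', hc'⟩ := hdvd'
      have hc4 : c ≤ 4 := by omega
      rw [hc] at hc' hcard'
      interval_cases c <;> omega
    have hyH : y ∈ H' := (Subgroup.mem_inf.mp ((Subgroup.eq_of_le_of_card_ge
      (inf_le_left : NX ≤ _) (by rw [hk', h20])).ge hyN : y ∈ NX)).2
    rw [hgen H' haH hxH hyH, Subgroup.index_top] at hidx
    omega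
  · have hH' : Nat.card ↥H' = 2112 := by omega
    rw [Nat.ModEq] at hn
    rcases hk with hk | hk <;> rw [hk, hH'] at hcard <;> omega

end Cfsg.Agent.Lib.Golay.SylowElevenCount
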