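/-
Normalisers of elements of order 11 and 5 in the stabiliser of two points.
-/
import Cfsg.Agent.Lib.Golay.Simple
import Cfsg.Agent.Lib.Compute.Twin
import Cfsg.Agent.Lib.Golay.M22SubData
import Cfsg.Agent.Lib.Golay.SylowElevenCount

set_option autoImplicit false
set_option maxHeartbeats 150000

namespace Cfsg.Agent.Lib.Golay.M22Sub

open Cfsg
open Cfsg.Agent.Lib.Compute Cfsg.Agent.Lib.Compute.Mathieu

/-- Left iterates of a code. -/
noncomputable def powC (c : ℕ) : ℕ → ℕ
  | 0 => (permOps 8 24).one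
  | k + 1 => (permOps 8 24).mul c (powC c k)

theorem powC_eq {g : Equiv.Perm GolayPt} {c : ℕ} (h : ptCoding.enc g = c) (k : ℕ) :
    powC c k = ptCoding.enc (g ^ k) := by
  induction k with
  | zero => rw [powC, pow_zero, ptCoding.one_enc]
  | succ k ih => rw [powC, ih, ← h, ptCoding.mul_enc, ← pow_succ']

/-- The candidates for elements normalising the cyclic group of `a`. -/
noncomputable def normCands (p a : ℕ) (L : List Lvl) : List ℕ :=
  (List.range' 1 (p - 1)).flatMap fun k => twins (permOps 8 24) a (powC a k) L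

theorem norm_checks :
    chainCheck (permOps 8 24) m22Gens M22SubData.chainA = true ∧
    chainCheck (permOps 8 24) m22Gens M22SubData.chainX = true ∧
    (normCands 11 M22SubData.elA.1 M22SubData.chainA).length ≤ 55 ∧
    (normCands 5 M22SubData.elX.1 M22SubData.chainX).length ≤ 20 := by
  refine ⟨?_, ?_, ?_, ?_⟩ <;> decide +kernel

theorem elem_checks :
    [M22SubData.elA, M22SubData.elX, M22SubData.elY].all
      (pairCheck 8 24 M22SubData.chainA) = true ∧
    (powC M22SubData.elA.1 11 = (permOps 8 24).one ∧ M22SubData.elA.1 ≠ (permOps 8 24).one) ∧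
    (powC M22SubData.elX.1 5 = (permOps 8 24).one ∧ M22SubData.elX.1 ≠ (permOps 8 24).one) ∧
    (powC M22SubData.elY.1 4 = (permOps 8 24).one ∧
      powC M22SubData.elY.1 2 ≠ (permOps 8 24).one) ∧
    ((List.range' 1 10).any fun k => (permOps 8 24).mul M22SubData.elX.1 M22SubData.elA.1 ==
      (permOps 8 24).mul (powC M22SubData.elA.1 k) M22SubData.elX.1) = true ∧
    ((List.range' 1 4).any fun k => (permOps 8 24).mul M22SubData.elY.1 M22SubData.elX.1 ==
      (permOps 8 24).mul (powC M22SubData.elX.1 k) M22SubData.elY.1) = true ∧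
    chainCheck (permOps 8 24) [M22SubData.elA, M22SubData.elX, M22SubData.elY]
      M22SubData.genChain = true ∧
    chainSize M22SubData.genChain = 443520 := by
  refine ⟨?_, ?_, ?_, ?_, ?_, ?_, ?_, ?_⟩ <;> decide +kernel

theorem mem_normalizer_zpowers {G : Type*} [Group G] [Finite G] {a g : G} {k : ℕ}
    (h : g * a = a ^ k * g) : g ∈ Subgroup.normalizer (Subgroup.zpowers a : Set G) := by
  have hmap : (Subgroup.zpowers a).map (MulAut.conj g).toMonoidHom = Subgroup.zpowers a := by
    refine Subgroup.eq_of_le_of_card_ge ?_ (by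
      rw [Subgroup.card_map_of_injective (MulAut.conj g).injective])
    rw [MonoidHom.map_zpowers, Subgroup.zpowers_le]
    show g * a * g⁻¹ ∈ Subgroup.zpowers a
    rw [h, mul_inv_cancel_right]
    exact Subgroup.pow_mem _ (Subgroup.mem_zpowers a) k
  rw [Subgroup.mem_normalizer_iff]
  intro y
  constructor
  · intro hy
    rw [← hmap]
    exact Subgroup.mem_map_of_mem _ hy
  · intro hy
    rw [← hmap] at hy
    obtain ⟨z, hz, e⟩ := hy
    rwa [← (MulAut.conj g).injective (show MulAut.conj g z = MulAut.conj g y from e)]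

theorem card_le_of_forall_mem {α : Type*} [Finite α] (f : α → ℕ) (hf : Function.Injective f)
    {l : List ℕ} (h : ∀ x, f x ∈ l.toFinset) : Nat.card α ≤ l.length := by
  refine le_trans ?_ l.toFinset_card_le
  rw [← Nat.card_eq_finsetCard]
  exact Nat.card_le_card_of_injective (fun x => (⟨f x, h x⟩ : {y // y ∈ l.toFinset}))
    fun x y e => hf (congrArg Subtype.val e)

/-- The bound for the normaliser. -/
theorem card_normalizer_le {p : ℕ} (hp : 0 < p) {L : List Lvl}
    (hL : chainCheck (permOps 8 24) m22Gens L = true)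
    (a : ↥(genGroup ptCoding m22Gens)) {c : ℕ} (hc : ptCoding.enc a.1 = c) (ha : orderOf a = p)
    (ha1 : a ≠ 1) :
    Nat.card ↥(Subgroup.normalizer (Subgroup.zpowers a : Set ↥(genGroup ptCoding m22Gens))) ≤
      (normCands p c L).length := by
  classical
  have hmem : ∀ g : ↥(Subgroup.normalizer (Subgroup.zpowers a : Set ↥(genGroup ptCoding m22Gens))),
      ptCoding.enc g.1.1 ∈ (normCands p c L).toFinset := by
    intro g
    have hconj : g.1 * a * g.1⁻¹ ∈ Subgroup.zpowers a :=
      (Subgroup.mem_normalizer_iff.mp g.2 a).mp (Subgroup.mem_zpowers a)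
    obtain ⟨k, hk, e⟩ : ∃ k < p, a ^ k = g.1 * a * g.1⁻¹ := by
      have := (mem_powers_iff_mem_zpowers).mpr hconj
      obtain ⟨k, hk⟩ := this
      exact ⟨k % p, Nat.mod_lt _ hp, by rw [← ha, pow_mod_orderOf]; exact hk⟩
    have hk0 : k ≠ 0 := by
      rintro rfl
      rw [pow_zero, eq_comm, mul_inv_eq_one, mul_eq_left] at e
      exact ha1 e
    rw [List.mem_toFinset, normCands, List.mem_flatMap]
    refine ⟨k, List.mem_range'_1.mpr ⟨Nat.one_le_iff_ne_zero.mpr hk0, by omega⟩, ?_⟩
    rw [powC_eq hc k, ← hc]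
    refine enc_mem_twins ptCoding gensOK_m22 hL g.1.2 ?_
    have : g.1 * a = a ^ k * g.1 := by rw [e, inv_mul_cancel_right]
    exact congrArg Subtype.val this
  have hinj : Function.Injective (fun g : ↥(Subgroup.normalizer
      (Subgroup.zpowers a : Set ↥(genGroup ptCoding m22Gens))) => ptCoding.enc g.1.1) :=
    fun g h e => Subtype.ext (Subtype.ext (ptCoding.inj e))
  exact card_le_of_forall_mem _ hinj hmem

theorem index_ne_gen (H : Subgroup ↥(genGroup ptCoding m22Gens)) :
    H.index ≠ 56 ∧ H.index ≠ 210 := by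
  obtain ⟨hA, hX, lA, lX⟩ := norm_checks
  obtain ⟨hel, ⟨pA, nA⟩, ⟨pX, nX⟩, ⟨pY, nY⟩, cXA, cYX, hgen, hsize⟩ := elem_checks
  obtain ⟨hS, hle⟩ := gensOK_of_pairCheck Mathieu.ptEquiv (w := 8) (by decide) gensOK_m22 hA hel
  have get : ∀ q : ℕ × ℕ, q ∈ [M22SubData.elA, M22SubData.elX, M22SubData.elY] →
      ∃ g : ↥(genGroup ptCoding m22Gens), ptCoding.enc g.1 = q.1 := fun q hq => by
    obtain ⟨g, -, e, -⟩ := hS q hq
    exact ⟨⟨g, hle (mem_genGroup_of_enc ptCoding hq e)⟩, e⟩
  obtain ⟨a, ea⟩ := get M22SubData.elA (by simp)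
  obtain ⟨x, ex⟩ := get M22SubData.elX (by simp)
  obtain ⟨y, ey⟩ := get M22SubData.elY (by simp)
  have toG : ∀ {g : ↥(genGroup ptCoding m22Gens)} {c k : ℕ}, ptCoding.enc g.1 = c →
      (powC c k = (permOps 8 24).one ↔ g ^ k = 1) := fun {g c k} e => by
    rw [powC_eq e, ← ptCoding.one_enc]
    exact ⟨fun h => Subtype.ext (ptCoding.inj h), fun h => by
      rw [← Subgroup.coe_pow, h, Subgroup.coe_one]⟩
  have ne1 : ∀ {g : ↥(genGroup ptCoding m22Gens)} {c : ℕ}, ptCoding.enc g.1 = c →
      c ≠ (permOps 8 24).one → g ≠ 1 := fun {g c} e h hg => h (by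
    rw [← e, hg, Subgroup.coe_one, ptCoding.one_enc])
  have oa : orderOf a = 11 := by
    haveI : Fact (Nat.Prime 11) := ⟨by norm_num⟩
    exact orderOf_eq_prime ((toG ea).1 pA) (ne1 ea nA)
  have ox : orderOf x = 5 := by
    haveI : Fact (Nat.Prime 5) := ⟨by norm_num⟩
    exact orderOf_eq_prime ((toG ex).1 pX) (ne1 ex nX)
  have oy : orderOf y = 4 := by
    haveI : Fact (Nat.Prime 2) := ⟨Nat.prime_two⟩
    exact orderOf_eq_prime_pow (p := 2) (n := 1)
      (fun h => nY ((toG ey).2 (by simpa using h))) (by simpa using (toG ey).1 pY)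
  have conj : ∀ {g h : ↥(genGroup ptCoding m22Gens)} {c d n : ℕ}, ptCoding.enc g.1 = c →
      ptCoding.enc h.1 = d → ((List.range' 1 n).any fun k => (permOps 8 24).mul c d ==
        (permOps 8 24).mul (powC d k) c) = true →
      g ∈ Subgroup.normalizer (Subgroup.zpowers h : Set ↥(genGroup ptCoding m22Gens)) := by
    intro g h c d n ec ed hany
    obtain ⟨k, -, hk⟩ := List.any_eq_true.mp hany
    rw [powC_eq ed, ← ec, ← ed, beq_iff_eq, ptCoding.mul_enc, ptCoding.mul_enc] at hk
    exact mem_normalizer_zpowers (k := k) (Subtype.ext (ptCoding.inj hk))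
  refine SylowElevenCount.index_ne
    (by rw [card_genGroup ptCoding gensOK_m22 m22Chain_ok, m22Chain_size]) a x y oa ox oy
    (conj ex ea cXA) (conj ey ex cYX)
    ((card_normalizer_le (by norm_num) hA a ea oa (ne1 ea nA)).trans lA)
    ((card_normalizer_le (by norm_num) hX x ex ox (ne1 ex nX)).trans lX) ?_ H
  intro L la lx ly
  have htop : genGroup ptCoding [M22SubData.elA, M22SubData.elX, M22SubData.elY] ≤
      L.map (Subgroup.subtype _) := by
    refine (Subgroup.closure_le _).2 ?_
    rintro g ⟨q, hq, hg⟩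
    simp only [List.mem_cons, List.not_mem_nil, or_false] at hq
    rcases hq with rfl | rfl | rfl
    · exact ⟨a, la, ptCoding.inj (ea.trans hg.symm)⟩
    · exact ⟨x, lx, ptCoding.inj (ex.trans hg.symm)⟩
    · exact ⟨y, ly, ptCoding.inj (ey.trans hg.symm)⟩
  refine Subgroup.eq_top_of_card_eq L (le_antisymm (Subgroup.card_le_card_group L) ?_)
  have := Subgroup.card_le_of_le htop
  rw [card_genGroup ptCoding hS hgen, hsize,
    Subgroup.card_map_of_injective (Subgroup.subtype_injective _)] at this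
  rw [card_genGroup ptCoding gensOK_m22 m22Chain_ok, m22Chain_size]
  exact this

theorem index_ne {p q : GolayPt} (hpq : p ≠ q)
    (H : Subgroup ↥(MulAction.stabilizer M24 p ⊓ MulAction.stabilizer M24 q)) :
    H.index ≠ 56 ∧ H.index ≠ 210 := by
  obtain ⟨e⟩ := stab2_iso p q hpq
  let e' : ↥(genGroup ptCoding m22Gens) ≃*
      ↥(MulAction.stabilizer M24 p ⊓ MulAction.stabilizer M24 q) :=
    (MulEquiv.subgroupCongr m22_eq).trans e
  have h := index_ne_gen (H.comap e'.toMonoidHom)
  rwa [Subgroup.index_comap_of_surjective (f := e'.toMonoidHom) H e'.surjective] at h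

end Cfsg.Agent.Lib.Golay.M22Sub
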