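/-
The affine group of order 253 is maximal in the stabiliser of a point, the projective group of
order 6072 in the whole group.
-/
import Cfsg.Agent.Lib.Golay.Simple
import Cfsg.Agent.Lib.Compute.Twin
import Cfsg.Agent.Lib.Golay.M22Sub
import Cfsg.Agent.Lib.Golay.M23SubData

set_option autoImplicit false

namespace Cfsg.Agent.Lib.Golay.M23Sub

open Cfsg
open scoped Pointwise
open Cfsg.Agent.Lib.Compute Cfsg.Agent.Lib.Compute.Mathieu
open Cfsg.Agent.Lib.Golay.M22Sub (normCands card_le_of_forall_mem powC powC_eq mem_normalizer_zpowers)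
open Cfsg.Agent.Lib.Golay.SylowElevenCount (sylow_count)

/-! ### The arithmetic -/

theorem divisor_checks : ∀ k ∈ [11, 55], ∀ n ∈ [1, 24, 70, 576, 1680, 40320],
    (253 * n) % k = 0 → (253 * n / k) % 11 = 1 → n = 1 ∨ n = 40320 := by decide +kernel

theorem divisors_one_mod : ∀ n : ℕ, n ∣ 40320 → n % 23 = 1 →
    n ∈ [1, 24, 70, 576, 1680, 40320] := by
  intro n hn h1
  have hle := Nat.le_of_dvd (by norm_num) hn
  obtain ⟨c, hc⟩ := hn
  by_cases hs : n ≤ 201
  · have : ∀ m ≤ 201, 40320 % m = 0 → m % 23 = 1 → m ∈ [1, 24, 70, 576, 1680, 40320] := by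
      decide +kernel
    exact this n hs (by rw [hc, Nat.mul_mod_right]) h1
  · have hcb : c ≤ 201 := by
      by_contra h
      have : 202 * 202 ≤ n * c := Nat.mul_le_mul (by omega) (by omega)
      omega
    have : ∀ m ≤ 201, 40320 % m = 0 → (40320 / m) % 23 = 1 →
        40320 / m ∈ [1, 24, 70, 576, 1680, 40320] := by decide +kernel
    have hc0 : 0 < c := by rcases Nat.eq_zero_or_pos c with rfl | h <;> omega
    have e : 40320 / c = n := by rw [hc, Nat.mul_div_cancel n hc0]
    rw [← e]
    exact this c hcb (by rw [hc, Nat.mul_mod_left]) (by rw [e]; exact h1)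

/-- Overgroups of a Frobenius group of order 253. -/
theorem overgroup {G : Type*} [Group G] [Finite G] (hG : Nat.card G = 10200960) (a b : G)
    (ha : orderOf a = 23) (hb : orderOf b = 11)
    (hba : b ∈ Subgroup.normalizer (Subgroup.zpowers a : Set G))
    (hNa : Nat.card ↥(Subgroup.normalizer (Subgroup.zpowers a : Set G)) ≤ 253)
    (hNb : Nat.card ↥(Subgroup.normalizer (Subgroup.zpowers b : Set G)) ≤ 55)
    (M : Subgroup G) (haM : a ∈ M) (hbM : b ∈ M) : Nat.card ↥M = 253 ∨ M = ⊤ := by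
  haveI : Fact (Nat.Prime 23) := ⟨by norm_num⟩
  haveI : Fact (Nat.Prime 11) := ⟨by norm_num⟩
  have htop : Nat.card ↥(⊤ : Subgroup G) = 10200960 := by rw [Subgroup.card_top, hG]
  -- the normaliser of `b` in the whole group
  have hkb : Nat.card ↥(Subgroup.normalizer (Subgroup.zpowers b : Set G)) = 55 := by
    obtain ⟨n, hn, hcard, hdvd⟩ := sylow_count hb ⊤ trivial (by rw [htop]; norm_num)
    rw [inf_top_eq] at hcard hdvd
    rw [htop] at hcard
    obtain ⟨c, hc⟩ := hdvd
    rw [hc] at hcard hNb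
    rw [hc]
    have hc5 : c ≤ 5 := by omega
    rw [Nat.ModEq] at hn
    interval_cases c <;> omega
  have h253 : Nat.card ↥(Subgroup.normalizer (Subgroup.zpowers a : Set G)) = 253 := by
    have h1 : 23 ∣ Nat.card ↥(Subgroup.normalizer (Subgroup.zpowers a : Set G)) :=
      ha ▸ Subgroup.orderOf_dvd_natCard _ (Subgroup.le_normalizer (Subgroup.mem_zpowers a))
    have h2 : 11 ∣ Nat.card ↥(Subgroup.normalizer (Subgroup.zpowers a : Set G)) :=
      hb ▸ Subgroup.orderOf_dvd_natCard _ hba
    have := Nat.card_pos (α := ↥(Subgroup.normalizer (Subgroup.zpowers a : Set G)))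
    omega
  have hMd : Nat.card ↥M ∣ 10200960 := hG ▸ Subgroup.card_subgroup_dvd_card M
  have no2 : ∀ p, p = 23 ∨ p = 11 → ¬ p ^ 2 ∣ Nat.card ↥M := by
    rintro p (rfl | rfl) h <;> have := h.trans hMd <;> norm_num at this
  obtain ⟨n, hn, hcard, h23⟩ := sylow_count ha M haM (no2 23 (Or.inl rfl))
  have hNM : Nat.card ↥(Subgroup.normalizer (Subgroup.zpowers a : Set G) ⊓ M : Subgroup G) = 253 := by
    have hd := Subgroup.card_dvd_of_le
      (inf_le_left : Subgroup.normalizer (Subgroup.zpowers a : Set G) ⊓ M ≤ _)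
    rw [h253] at hd
    have h2 : 11 ∣ Nat.card ↥(Subgroup.normalizer (Subgroup.zpowers a : Set G) ⊓ M : Subgroup G) :=
      hb ▸ Subgroup.orderOf_dvd_natCard _ (Subgroup.mem_inf.mpr ⟨hba, hbM⟩)
    have := Nat.le_of_dvd (by norm_num) hd
    have := Nat.card_pos
      (α := ↥(Subgroup.normalizer (Subgroup.zpowers a : Set G) ⊓ M : Subgroup G))
    omega
  rw [hNM] at hcard
  have hn23 : n % 23 = 1 := hn
  have hnd : n ∣ 40320 := by
    rw [← hcard] at hMd
    have h : 253 * n ∣ 253 * 40320 := by norm_num; exact hMd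
    exact Nat.dvd_of_mul_dvd_mul_left (by norm_num) h
  obtain ⟨m, hm, hcard', h11⟩ := sylow_count hb M hbM (no2 11 (Or.inr rfl))
  have hd := Subgroup.card_dvd_of_le
    (inf_le_left : Subgroup.normalizer (Subgroup.zpowers b : Set G) ⊓ M ≤ _)
  rw [hkb] at hd
  set k := Nat.card ↥(Subgroup.normalizer (Subgroup.zpowers b : Set G) ⊓ M : Subgroup G)
  have hk : k ∈ [11, 55] := by
    have := Nat.le_of_dvd (by norm_num) hd
    obtain ⟨c, hc⟩ := h11
    obtain ⟨c', hc'⟩ := hd
    have hc5 : c ≤ 5 := by omega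
    rw [hc] at hc'
    simp only [List.mem_cons, List.not_mem_nil, or_false]
    interval_cases c <;> omega
  have hkm : k * m = 253 * n := by rw [hcard', hcard]
  have hk0 : 0 < k := Nat.card_pos
  rcases divisor_checks k hk n (divisors_one_mod n hnd hn23)
    (by rw [← hkm, Nat.mul_mod_right])
    (by rw [← hkm, Nat.mul_div_cancel_left m hk0]; exact hm) with h | h
  · left; rw [← hcard, h]
  · right
    refine Subgroup.eq_top_of_card_eq M ?_
    rw [← hcard, h, hG]

/-! ### The certified groups -/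

/-- The generators are in `M24`. -/
theorem data_checks :
    (M23SubData.lineGens.all (pairCheck 8 24 m24Chain) = true ∧
      M23SubData.affGens.all (pairCheck 8 24 m24Chain) = true ∧
      chainCheck (permOps 8 24) M23SubData.lineGens M23SubData.lineChain = true ∧
      chainSize M23SubData.lineChain = 6072 ∧
      chainCheck (permOps 8 24) M23SubData.affGens M23SubData.affChain = true ∧
      chainSize M23SubData.affChain = 253 ∧
      (∀ q ∈ M23SubData.affGens, (permOps 8 24).act q.1 23 = 23)) ∧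
    (chainCheck (permOps 8 24) m23Gens M23SubData.chainP = true ∧
      chainCheck (permOps 8 24) m23Gens M23SubData.chainQ = true ∧
      (normCands 23 (M23SubData.affGens.getD 0 (0, 0)).1 M23SubData.chainP).length ≤ 253 ∧
      (normCands 11 (M23SubData.affGens.getD 1 (0, 0)).1 M23SubData.chainQ).length ≤ 55) := by
  refine ⟨⟨?_, ?_, ?_, ?_, ?_, ?_, ?_⟩, ?_, ?_, ?_, ?_⟩ <;> decide +kernel

/-- The multiplier by a unit on the projective line. -/
def mult (u : (ZMod 23)ˣ) : Equiv.Perm GolayPt := Equiv.optionCongr (Units.mulLeft u)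

theorem code_checks :
    encP 8 Mathieu.ptEquiv transl = (M23SubData.affGens.getD 0 (0, 0)).1 ∧
    encP 8 Mathieu.ptEquiv transl = (M23SubData.lineGens.getD 0 (0, 0)).1 ∧
    encP 8 Mathieu.ptEquiv Cfsg.projInv = (M23SubData.lineGens.getD 2 (0, 0)).1 ∧
    (∃ u : (ZMod 23)ˣ, IsSquare u ∧
      encP 8 Mathieu.ptEquiv (mult u) = (M23SubData.affGens.getD 1 (0, 0)).1 ∧
      encP 8 Mathieu.ptEquiv (mult u) = (M23SubData.lineGens.getD 1 (0, 0)).1) ∧
    (∀ u : (ZMod 23)ˣ, IsSquare u →
      sift (permOps 8 24) M23SubData.affChain (encP 8 Mathieu.ptEquiv (mult u)) = true ∧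
      sift (permOps 8 24) M23SubData.lineChain (encP 8 Mathieu.ptEquiv (mult u)) = true) ∧
    M23SubData.affGens.length = 2 ∧ M23SubData.lineGens.length = 3 := by
  refine ⟨?_, ?_, ?_, ?_, ?_, ?_, ?_⟩ <;> decide +kernel

theorem enc_eq (g : Equiv.Perm GolayPt) : ptCoding.enc g = encP 8 Mathieu.ptEquiv g := by
  rw [ptCoding, permCoding_enc]

theorem genGroup_le_of {S : List (ℕ × ℕ)} {K : Subgroup (Equiv.Perm GolayPt)}
    (gs : List (Equiv.Perm GolayPt))
    (henc : ∀ i < S.length, ∃ g ∈ gs, ptCoding.enc g = (S.getD i (0, 0)).1) (hK : ∀ g ∈ gs, g ∈ K) :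
    genGroup ptCoding S ≤ K := by
  refine (Subgroup.closure_le _).2 ?_
  rintro g ⟨q, hq, hg⟩
  obtain ⟨i, hi, rfl⟩ := List.mem_iff_getElem.mp hq
  obtain ⟨g', hg', e⟩ := henc i hi
  rw [List.getD_eq_getElem _ _ hi] at e
  exact (ptCoding.inj (hg.trans e.symm)) ▸ hK g' hg'

theorem mem_of_code {S : List (ℕ × ℕ)} {g : Equiv.Perm GolayPt} {i : ℕ} (hi : i < S.length)
    (h : encP 8 Mathieu.ptEquiv g = (S.getD i (0, 0)).1) : g ∈ genGroup ptCoding S := by
  rw [List.getD_eq_getElem _ _ hi] at h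
  exact mem_genGroup_of_enc ptCoding (List.getElem_mem hi) ((enc_eq g).trans h)

theorem aff_eq : genGroup ptCoding M23SubData.affGens =
    Subgroup.closure ({transl} ∪ {g | ∃ u : (ZMod 23)ˣ, IsSquare u ∧ g = mult u}) := by
  obtain ⟨⟨-, h2, -, -, h5, -, -⟩, -⟩ := data_checks
  obtain ⟨c0, -, -, ⟨u, hu, c1, -⟩, hs, hlen, -⟩ := code_checks
  refine le_antisymm (genGroup_le_of [transl, mult u] (fun i hi => ?_) ?_)
    ((Subgroup.closure_le _).2 ?_)
  · rw [hlen] at hi
    interval_cases i
    exacts [⟨transl, by simp, (enc_eq _).trans c0⟩, ⟨mult u, by simp, (enc_eq _).trans c1⟩]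
  · intro g hg
    simp only [List.mem_cons, List.not_mem_nil, or_false] at hg
    rcases hg with rfl | rfl
    exacts [Subgroup.subset_closure (Or.inl rfl), Subgroup.subset_closure (Or.inr ⟨u, hu, rfl⟩)]
  · rintro g (rfl | ⟨v, hv, rfl⟩)
    · exact mem_of_code (i := 0) (by omega) c0
    · exact good_of_sift ptCoding (gensOK_of_check h2).1 h5 (by rw [enc_eq]; exact (hs v hv).1)

theorem line_eq : genGroup ptCoding M23SubData.lineGens =
    Subgroup.closure ({transl, Cfsg.projInv} ∪ {g | ∃ u : (ZMod 23)ˣ, IsSquare u ∧ g = mult u}) := by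
  obtain ⟨⟨h1, -, h3, -, -, -, -⟩, -⟩ := data_checks
  obtain ⟨-, c0, c2, ⟨u, hu, -, c1⟩, hs, -, hlen⟩ := code_checks
  refine le_antisymm (genGroup_le_of [transl, mult u, Cfsg.projInv] (fun i hi => ?_) ?_)
    ((Subgroup.closure_le _).2 ?_)
  · rw [hlen] at hi
    interval_cases i
    exacts [⟨transl, by simp, (enc_eq _).trans c0⟩, ⟨mult u, by simp, (enc_eq _).trans c1⟩,
      ⟨Cfsg.projInv, by simp, (enc_eq _).trans c2⟩]
  · intro g hg
    simp only [List.mem_cons, List.not_mem_nil, or_false] at hg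
    rcases hg with rfl | rfl | rfl
    exacts [Subgroup.subset_closure (Or.inl (Or.inl rfl)),
      Subgroup.subset_closure (Or.inr ⟨u, hu, rfl⟩),
      Subgroup.subset_closure (Or.inl (Or.inr rfl))]
  · rintro g ((rfl | rfl) | ⟨v, hv, rfl⟩)
    · exact mem_of_code (i := 0) (by omega) c0
    · exact mem_of_code (i := 2) (by omega) c2
    · exact good_of_sift ptCoding (gensOK_of_check h1).1 h3 (by rw [enc_eq]; exact (hs v hv).2)

theorem card_aff : Nat.card ↥(genGroup ptCoding M23SubData.affGens) = 253 := by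
  obtain ⟨⟨-, h2, -, -, h5, h6, -⟩, -⟩ := data_checks
  rw [card_genGroup ptCoding (gensOK_of_check h2).1 h5, h6]

theorem card_line : Nat.card ↥(genGroup ptCoding M23SubData.lineGens) = 6072 := by
  obtain ⟨⟨h1, -, h3, h4, -, -, -⟩, -⟩ := data_checks
  rw [card_genGroup ptCoding (gensOK_of_check h1).1 h3, h4]

theorem aff_le : genGroup ptCoding M23SubData.affGens ≤
    M24 ⊓ MulAction.stabilizer (Equiv.Perm GolayPt) (none : GolayPt) := by
  obtain ⟨⟨-, h2, -, -, -, -, h7⟩, -⟩ := data_checks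
  refine (Subgroup.closure_le _).2 ?_
  rintro g ⟨q, hq, hg⟩
  refine Subgroup.mem_inf.mpr ⟨genM24_eq_M24 ▸ (genM24_eq ▸ (gensOK_of_check h2).2
    (mem_genGroup_of_enc ptCoding hq hg) : g ∈ genM24), ?_⟩
  rw [MulAction.mem_stabilizer_iff, Equiv.Perm.smul_def, ← act_eq_iff g none, hg,
    show ((Mathieu.ptEquiv none : Fin 24) : ℕ) = 23 by decide +kernel]
  exact h7 q hq

theorem line_le : genGroup ptCoding M23SubData.lineGens ≤ M24 := by
  obtain ⟨⟨h1, -, -, -, -, -, -⟩, -⟩ := data_checks
  exact genM24_eq_M24 ▸ genM24_eq ▸ (gensOK_of_check h1).2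

/-- The stabiliser of the last point as a certified group. -/
theorem stab_none_map : (MulAction.stabilizer M24 (none : GolayPt)).map M24.subtype =
    genGroup ptCoding m23Gens := by
  rw [m23_eq, fixNums_one, ptN_23]
  ext g
  simp only [Subgroup.mem_map, Subgroup.mem_inf, MulAction.mem_stabilizer_iff]
  exact ⟨fun ⟨h, hh, e⟩ => e ▸ ⟨h.2, hh⟩, fun ⟨h1, h2⟩ => ⟨⟨g, h1⟩, h2, rfl⟩⟩

/-- The bound for a normaliser in the point stabiliser. -/
theorem card_normalizer_le {p : ℕ} (hp : 0 < p) {L : List Lvl}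
    (hL : chainCheck (permOps 8 24) m23Gens L = true)
    (a : ↥(genGroup ptCoding m23Gens)) {c : ℕ} (hc : ptCoding.enc a.1 = c) (ha : orderOf a = p)
    (ha1 : a ≠ 1) :
    Nat.card ↥(Subgroup.normalizer (Subgroup.zpowers a : Set ↥(genGroup ptCoding m23Gens))) ≤
      (normCands p c L).length := by
  classical
  have hmem : ∀ g : ↥(Subgroup.normalizer (Subgroup.zpowers a : Set ↥(genGroup ptCoding m23Gens))),
      ptCoding.enc g.1.1 ∈ (normCands p c L).toFinset := by
    intro g
    have hconj : g.1 * a * g.1⁻¹ ∈ Subgroup.zpowers a :=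
      (Subgroup.mem_normalizer_iff.mp g.2 a).mp (Subgroup.mem_zpowers a)
    obtain ⟨k, hk, e⟩ : ∃ k < p, a ^ k = g.1 * a * g.1⁻¹ := by
      obtain ⟨k, hk⟩ := (mem_powers_iff_mem_zpowers).mpr hconj
      exact ⟨k % p, Nat.mod_lt _ hp, by rw [← ha, pow_mod_orderOf]; exact hk⟩
    have hk0 : k ≠ 0 := by
      rintro rfl
      rw [pow_zero, eq_comm, mul_inv_eq_one, mul_eq_left] at e
      exact ha1 e
    rw [List.mem_toFinset, normCands, List.mem_flatMap]
    refine ⟨k, List.mem_range'_1.mpr ⟨Nat.one_le_iff_ne_zero.mpr hk0, by omega⟩, ?_⟩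
    rw [powC_eq hc k, ← hc]
    refine enc_mem_twins ptCoding gensOK_m23 hL g.1.2 ?_
    have : g.1 * a = a ^ k * g.1 := by rw [e, inv_mul_cancel_right]
    exact congrArg Subtype.val this
  have hinj : Function.Injective (fun g : ↥(Subgroup.normalizer
      (Subgroup.zpowers a : Set ↥(genGroup ptCoding m23Gens))) => ptCoding.enc g.1.1) :=
    fun g h e => Subtype.ext (Subtype.ext (ptCoding.inj e))
  exact card_le_of_forall_mem _ hinj hmem

theorem pow_checks :
    powC (M23SubData.affGens.getD 0 (0, 0)).1 23 = (permOps 8 24).one ∧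
    powC (M23SubData.affGens.getD 1 (0, 0)).1 11 = (permOps 8 24).one ∧
    (M23SubData.affGens.getD 0 (0, 0)).1 ≠ (permOps 8 24).one ∧
    (M23SubData.affGens.getD 1 (0, 0)).1 ≠ (permOps 8 24).one ∧
    ((List.range' 1 22).any fun k =>
      (permOps 8 24).mul (M23SubData.affGens.getD 1 (0, 0)).1 (M23SubData.affGens.getD 0 (0, 0)).1 ==
        (permOps 8 24).mul (powC (M23SubData.affGens.getD 0 (0, 0)).1 k)
          (M23SubData.affGens.getD 1 (0, 0)).1) = true := by
  refine ⟨?_, ?_, ?_, ?_, ?_⟩ <;> decide +kernel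

/-- Subgroups of the point stabiliser above the affine group. -/
theorem aff_overgroup (M : Subgroup ↥(genGroup ptCoding m23Gens))
    (hM : genGroup ptCoding M23SubData.affGens ≤ M.map (Subgroup.subtype _)) :
    Nat.card ↥M = 253 ∨ M = ⊤ := by
  obtain ⟨⟨-, -, -, -, -, -, -⟩, hP, hQ, lP, lQ⟩ := data_checks
  obtain ⟨p23, p11, n23, n11, hconj⟩ := pow_checks
  obtain ⟨c0, -, -, ⟨u, -, c1, -⟩, -, hlen, -⟩ := code_checks
  have get : ∀ g : Equiv.Perm GolayPt, g ∈ genGroup ptCoding M23SubData.affGens →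
      ∃ a ∈ M, a.1 = g := fun g hg => by
    obtain ⟨a, ha, e⟩ := hM hg
    exact ⟨a, ha, e⟩
  obtain ⟨a, haM, ea⟩ := get transl (mem_of_code (i := 0) (by omega) c0)
  obtain ⟨b, hbM, eb⟩ := get (mult u) (mem_of_code (i := 1) (by omega) c1)
  have ca : ptCoding.enc a.1 = (M23SubData.affGens.getD 0 (0, 0)).1 := by rw [ea, enc_eq]; exact c0
  have cb : ptCoding.enc b.1 = (M23SubData.affGens.getD 1 (0, 0)).1 := by rw [eb, enc_eq]; exact c1
  have toG : ∀ {g : ↥(genGroup ptCoding m23Gens)} {c k : ℕ}, ptCoding.enc g.1 = c →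
      powC c k = (permOps 8 24).one → g ^ k = 1 := fun {g c k} e h => by
    rw [powC_eq e, ← ptCoding.one_enc] at h
    exact Subtype.ext (ptCoding.inj h)
  have ne1 : ∀ {g : ↥(genGroup ptCoding m23Gens)} {c : ℕ}, ptCoding.enc g.1 = c →
      c ≠ (permOps 8 24).one → g ≠ 1 := fun {g c} e h hg => h (by
    rw [← e, hg, Subgroup.coe_one, ptCoding.one_enc])
  have oa : orderOf a = 23 := by
    haveI : Fact (Nat.Prime 23) := ⟨by norm_num⟩
    exact orderOf_eq_prime (toG ca p23) (ne1 ca n23)
  have ob : orderOf b = 11 := by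
    haveI : Fact (Nat.Prime 11) := ⟨by norm_num⟩
    exact orderOf_eq_prime (toG cb p11) (ne1 cb n11)
  have hba : b ∈ Subgroup.normalizer (Subgroup.zpowers a : Set ↥(genGroup ptCoding m23Gens)) := by
    obtain ⟨k, -, hk⟩ := List.any_eq_true.mp hconj
    rw [powC_eq ca, ← ca, ← cb, beq_iff_eq, ptCoding.mul_enc, ptCoding.mul_enc] at hk
    exact mem_normalizer_zpowers (k := k) (Subtype.ext (ptCoding.inj hk))
  exact overgroup (by rw [card_m23]) a b oa ob hba
    ((card_normalizer_le (by norm_num) hP a ca oa (ne1 ca n23)).trans lP)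
    ((card_normalizer_le (by norm_num) hQ b cb ob (ne1 cb n11)).trans lQ) M haM hbM

/-- The affine group is maximal in the point stabiliser. -/
theorem aff_coatom : IsCoatom (((genGroup ptCoding M23SubData.affGens).subgroupOf M24).subgroupOf
    (MulAction.stabilizer M24 (none : GolayPt))) := by
  set S := MulAction.stabilizer M24 (none : GolayPt)
  let e : ↥S ≃* ↥(genGroup ptCoding m23Gens) :=
    (Subgroup.equivMapOfInjective S M24.subtype (Subgroup.subtype_injective _)).trans
      (MulEquiv.subgroupCongr stab_none_map)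
  have he : ∀ y : ↥S, (e y).1 = (y.1 : Equiv.Perm GolayPt) := fun y => rfl
  have hcard : Nat.card ↥(((genGroup ptCoding M23SubData.affGens).subgroupOf M24).subgroupOf S)
      = 253 := by
    rw [Nat.card_congr (Subgroup.subgroupOfEquivOfLe ?_).toEquiv,
      Nat.card_congr (Subgroup.subgroupOfEquivOfLe (aff_le.trans inf_le_left)).toEquiv, card_aff]
    intro x hx
    exact (Subgroup.mem_inf.mp (aff_le hx)).2
  constructor
  · intro h
    rw [h, Subgroup.card_top, Nat.card_congr e.toEquiv, card_m23] at hcard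
    norm_num at hcard
  · intro M hlt
    have hsub : genGroup ptCoding M23SubData.affGens ≤ (M.map e.toMonoidHom).map
        (genGroup ptCoding m23Gens).subtype := by
      intro g hg
      have hg' := Subgroup.mem_inf.mp (aff_le hg)
      let y : ↥S := ⟨⟨g, hg'.1⟩, hg'.2⟩
      exact ⟨e y, Subgroup.mem_map_of_mem _ (hlt.le (show y ∈ _ from hg)), he y⟩
    rcases aff_overgroup (M.map e.toMonoidHom) hsub with h | h
    · exfalso
      rw [Subgroup.card_map_of_injective (f := e.toMonoidHom) e.injective] at h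
      exact hlt.ne (Subgroup.eq_of_le_of_card_ge hlt.le (by rw [hcard, h]))
    · exact Subgroup.map_injective (f := e.toMonoidHom) e.injective
        (h.trans (Subgroup.map_top_of_surjective e.toMonoidHom e.surjective).symm)

theorem transl_checks : (∀ i : Fin 23, ∃ k : Fin 23,
      (some ((i.val : ℕ) : ZMod 23) : GolayPt) = (transl ^ k.val) (some 0)) ∧
    Cfsg.projInv (none : GolayPt) = some 0 := by
  refine ⟨?_, ?_⟩ <;> decide +kernel

/-- The projective group is maximal. -/
theorem line_coatom : IsCoatom ((genGroup ptCoding M23SubData.lineGens).subgroupOf M24) := by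
  set L := (genGroup ptCoding M23SubData.lineGens).subgroupOf M24
  have hLc : Nat.card ↥L = 6072 := by
    rw [Nat.card_congr (Subgroup.subgroupOfEquivOfLe line_le).toEquiv, card_line]
  have htr : ∀ p : GolayPt, ∃ g : ↥M24, g ∈ L ∧ g • (none : GolayPt) = p := by
    obtain ⟨-, c0, c2, -, -, -, hlen⟩ := code_checks
    have m0 : transl ∈ genGroup ptCoding M23SubData.lineGens := mem_of_code (i := 0) (by omega) c0
    have m2 : Cfsg.projInv ∈ genGroup ptCoding M23SubData.lineGens :=
      mem_of_code (i := 2) (by omega) c2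
    rintro (_ | i)
    · exact ⟨1, one_mem _, one_smul _ _⟩
    · obtain ⟨k, hk⟩ := transl_checks.1 ⟨i.val, ZMod.val_lt i⟩
      have hmem := Subgroup.mul_mem _ (Subgroup.pow_mem _ m0 k.val) m2
      refine ⟨⟨_, line_le hmem⟩, hmem, ?_⟩
      show (transl ^ k.val * Cfsg.projInv) none = some i
      rw [Equiv.Perm.mul_apply, transl_checks.2, ← hk, ZMod.natCast_zmod_val]
  constructor
  · intro h
    rw [h, Subgroup.card_top, card_M24] at hLc
    norm_num at hLc
  · intro M hlt
    have hor : MulAction.orbit ↥M (none : GolayPt) = Set.univ := by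
      refine Set.eq_univ_of_forall fun p => ?_
      obtain ⟨g, hg, e⟩ := htr p
      exact ⟨⟨g, hlt.le hg⟩, e⟩
    have hidx := MulAction.index_stabilizer ↥M (none : GolayPt)
    rw [hor, Set.ncard_univ, Nat.card_eq_fintype_card, card_golayPt] at hidx
    have hmul := Subgroup.card_mul_index (MulAction.stabilizer ↥M (none : GolayPt))
    rw [hidx] at hmul
    set S := MulAction.stabilizer M24 (none : GolayPt)
    have hiso : Nat.card ↥(MulAction.stabilizer ↥M (none : GolayPt)) =
        Nat.card ↥(M.subgroupOf S) := Nat.card_congr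
      { toFun := fun g => ⟨⟨g.1.1, g.2⟩, g.1.2⟩
        invFun := fun g => ⟨⟨g.1.1, g.2⟩, g.1.2⟩
        left_inv := fun g => rfl
        right_inv := fun g => rfl }
    have hle : ((genGroup ptCoding M23SubData.affGens).subgroupOf M24).subgroupOf S ≤
        M.subgroupOf S := by
      intro g hg
      refine hlt.le ?_
      show g.1.1 ∈ genGroup ptCoding M23SubData.lineGens
      have : (g.1.1 : Equiv.Perm GolayPt) ∈ genGroup ptCoding M23SubData.affGens := hg
      rw [aff_eq] at this
      rw [line_eq]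
      refine Subgroup.closure_mono ?_ this
      rintro x (rfl | hx)
      · exact Or.inl (Or.inl rfl)
      · exact Or.inr hx
    rcases aff_coatom.le_iff.mp hle with h | h
    · -- the whole point stabiliser lies inside
      refine Subgroup.eq_top_of_card_eq M ?_
      rw [← hmul, hiso, h, Subgroup.card_top, card_M24]
      show Nat.card ↥S * 24 = _
      have e1 : Nat.card ↥S = Nat.card ↥(S.map M24.subtype) :=
        Nat.card_congr (Subgroup.equivMapOfInjective S M24.subtype (Subgroup.subtype_injective _)).toEquiv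
      rw [e1, stab_none_map, card_m23]
    · exfalso
      have hM : Nat.card ↥M = 6072 := by
        rw [← hmul, hiso, h,
          Nat.card_congr (Subgroup.subgroupOfEquivOfLe ?_).toEquiv,
          Nat.card_congr (Subgroup.subgroupOfEquivOfLe (aff_le.trans inf_le_left)).toEquiv,
          card_aff]
        intro x hx
        exact (Subgroup.mem_inf.mp (aff_le hx)).2
      exact hlt.ne (Subgroup.eq_of_le_of_card_ge hlt.le (by rw [hLc, hM]))

end Cfsg.Agent.Lib.Golay.M23Sub
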