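/-
The subgroups of index 253 in the stabiliser of a point: stabilisers of a duad or of an octad.
-/
import Cfsg.Agent.Lib.Golay.M23Sub
import Cfsg.Agent.Lib.Golay.OctadStab

set_option autoImplicit false

namespace Cfsg.Agent.Lib.Golay.M23Index

open Cfsg
open scoped Pointwise
open Cfsg.Agent.Lib.Compute Cfsg.Agent.Lib.Compute.Mathieu
open Cfsg.Agent.Lib.Golay.M22Sub (powC powC_eq)
open Cfsg.Agent.Lib.Golay.M23Sub (enc_eq)
open Cfsg.Agent.Lib.Golay.OctadStab (stabG card_stabG range_restrict mem_iff_of_stab stab_of_mem_iff)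

/-- The base point. -/
abbrev p0 : GolayPt := ptN 0

/-- Representatives of the blocks of the two-group. -/
def rep (j : ℕ) : ℕ :=
  if j = 21 then 21 else if j = 9 ∨ j = 20 then 9 else
    if j = 8 ∨ j = 10 ∨ j = 13 ∨ j = 14 then 8 else if j = 0 then 0 else 1

/-- Unions of blocks. -/
def blockMask (a b c d : Bool) : ℕ :=
  (bif a then 2 ^ 21 else 0) ||| (bif b then 2 ^ 9 + 2 ^ 20 else 0) |||
    (bif c then 2 ^ 8 + 2 ^ 10 + 2 ^ 13 + 2 ^ 14 else 0) |||
    (bif d then 2 ^ 24 - 1 - (2 ^ 0 + 2 ^ 21 + 2 ^ 9 + 2 ^ 20 + 2 ^ 8 + 2 ^ 10 + 2 ^ 13 + 2 ^ 14)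
      else 0)

/-- The duad kept by the two-group. -/
abbrev duad0 : Finset GolayPt := ptsOf (2 ^ 9 + 2 ^ 20)

/-- The code word of weight eight kept by the two-group. -/
abbrev oct0 : Finset GolayPt :=
  ptsOf (2 ^ 0 + 2 ^ 21 + 2 ^ 9 + 2 ^ 20 + 2 ^ 8 + 2 ^ 10 + 2 ^ 13 + 2 ^ 14)

theorem two_checks :
    M23SubData.twoGens.all (pairCheck 8 24 m24Chain) = true ∧
    chainCheck (permOps 8 24) M23SubData.twoGens M23SubData.twoChain = true ∧
    chainSize M23SubData.twoChain = 128 ∧
    (M23SubData.twoGens.all fun q => (permOps 8 24).act q.1 0 == 0) = true ∧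
    ((List.range 24).all fun j =>
      (elems (permOps 8 24) M23SubData.twoChain).any fun c =>
        (permOps 8 24).act c (rep j) == j) = true := by
  refine ⟨?_, ?_, ?_, ?_, ?_⟩ <;> decide +kernel

theorem seven_checks :
    [M23SubData.elSeven].all (pairCheck 8 24 m24Chain) = true ∧
    (permOps 8 24).act M23SubData.elSeven.1 0 = 0 ∧
    powC M23SubData.elSeven.1 7 = (permOps 8 24).one ∧
    M23SubData.elSeven.1 ≠ (permOps 8 24).one ∧
    ((List.range 24).all fun j =>
      !((permOps 8 24).act M23SubData.elSeven.1 j == j) || [0, 5, 18].contains j) = true := by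
  refine ⟨?_, ?_, ?_, ?_, ?_⟩ <;> decide +kernel

theorem mask_checks :
    (∀ j : Fin 24, ∀ a b c d : Bool, (blockMask a b c d).testBit j.val =
      (if rep j.val = 21 then a else if rep j.val = 9 then b else if rep j.val = 8 then c
        else if rep j.val = 0 then false else d)) ∧
    (∀ b c d : Bool, 40320 % popCount (blockMask true b c d) = 0 →
      popCount (blockMask true b c d) % 7 ≤ 2 →
      (b, c, d) = (false, false, false) ∨ (b, c, d) = (true, true, false) ∨
        (b, c, d) = (false, true, true)) ∧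
    (∀ b c : Bool, 40320 % popCount (blockMask false b c true) = 0 →
      ¬ popCount (blockMask false b c true) % 7 ≤ 1) ∧
    ((isCodeMask (2 ^ 0 + 2 ^ 21 + 2 ^ 9 + 2 ^ 20 + 2 ^ 8 + 2 ^ 10 + 2 ^ 13 + 2 ^ 14) &&
      popCount (2 ^ 0 + 2 ^ 21 + 2 ^ 9 + 2 ^ 20 + 2 ^ 8 + 2 ^ 10 + 2 ^ 13 + 2 ^ 14) == 8) = true) := by
  refine ⟨?_, ?_, ?_, ?_⟩ <;> decide +kernel

theorem oct0_mem : oct0 ∈ octads := mem_octads_of_mask mask_checks.2.2.2

theorem point_checks : duad0 = {ptN 9, ptN 20} ∧ [p0, ptN 9, ptN 20].Nodup ∧ p0 ∈ oct0 ∧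
    p0 ≠ ptN 21 ∧ ptN 1 ≠ ptN 21 ∧ ptN 1 ≠ p0 ∧
    ptsOf (blockMask true false false false) = {ptN 21} ∧
    insert p0 (ptsOf (blockMask true true true false)) = oct0 ∧
    insert p0 (ptsOf (blockMask true false true true)) = duad0ᶜ := by
  refine ⟨?_, ?_, ?_, ?_, ?_, ?_, ?_, ?_, ?_⟩ <;> decide +kernel

theorem code_idx (p : GolayPt) : ((Mathieu.ptEquiv p : Fin 24) : ℕ) = (idx p).val :=
  idx_eq_ptEquiv p

theorem ptN_idx (p : GolayPt) : ptN (idx p).val = p := by
  rw [ptN]
  have : (⟨(idx p).val % 24, Nat.mod_lt _ (by norm_num)⟩ : Fin 24) = idx p :=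
    Fin.ext (Nat.mod_eq_of_lt (idx p).isLt)
  rw [this]
  exact Golay.ptEquiv.symm_apply_apply p

theorem act_ptN {g : Equiv.Perm GolayPt} {c : ℕ} (hc : ptCoding.enc g = c) {i : ℕ} (hi : i < 24) :
    (permOps 8 24).act c i = (idx (g (ptN i))).val := by
  rw [← hc, ← code_idx, ptCoding, ← permCoding_act, code_idx, idx_ptN hi]

theorem two_le : genGroup ptCoding M23SubData.twoGens ≤
    M24 ⊓ MulAction.stabilizer (Equiv.Perm GolayPt) p0 := by
  obtain ⟨h2, -, -, h4, -⟩ := two_checks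
  refine (Subgroup.closure_le _).2 ?_
  rintro g ⟨q, hq, hg⟩
  refine Subgroup.mem_inf.mpr ⟨genM24_eq_M24 ▸ (genM24_eq ▸ (gensOK_of_check h2).2
    (mem_genGroup_of_enc ptCoding hq hg) : g ∈ genM24), ?_⟩
  have h := beq_iff_eq.mp (List.all_eq_true.mp h4 q hq)
  rw [act_ptN hg (by norm_num)] at h
  rw [MulAction.mem_stabilizer_iff, Equiv.Perm.smul_def, ← ptN_idx (g p0), h]

theorem card_two : Nat.card ↥(genGroup ptCoding M23SubData.twoGens) = 128 := by
  obtain ⟨h2, h5, h6, -, -⟩ := two_checks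
  rw [card_genGroup ptCoding (gensOK_of_check h2).1 h5, h6]

theorem two_transitive {j : ℕ} (hj : j < 24) :
    ∃ t ∈ genGroup ptCoding M23SubData.twoGens, t (ptN (rep j)) = ptN j := by
  obtain ⟨h2, h5, -, -, h7⟩ := two_checks
  obtain ⟨c, hc, he⟩ := List.any_eq_true.mp (List.all_eq_true.mp h7 j (List.mem_range.mpr hj))
  obtain ⟨t, ht, htc⟩ := exists_of_mem_elems ptCoding (gensOK_of_check h2).1 h5 hc
  have hr : rep j < 24 := by unfold rep; split_ifs <;> omega
  rw [act_ptN htc hr, beq_iff_eq] at he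
  exact ⟨t, ht, by rw [← ptN_idx (t _), he]⟩

/-- A set kept by the two-group is a union of blocks. -/
theorem eq_blockMask (S : Finset GolayPt) (h0 : p0 ∉ S)
    (hinv : ∀ g ∈ genGroup ptCoding M23SubData.twoGens, ∀ q, g q ∈ S ↔ q ∈ S) :
    S = ptsOf (blockMask (decide (ptN 21 ∈ S)) (decide (ptN 9 ∈ S)) (decide (ptN 8 ∈ S))
      (decide (ptN 1 ∈ S))) := by
  ext q
  obtain ⟨t, ht, e⟩ := two_transitive (idx q).isLt
  rw [mem_ptsOf, mask_checks.1 (idx q)]
  have h : q ∈ S ↔ ptN (rep (idx q).val) ∈ S := by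
    rw [← hinv t ht (ptN _), e, ptN_idx]
  rw [h]
  unfold rep
  split_ifs <;> simp_all

/-- The point stabiliser. -/
abbrev G0 : Subgroup (Equiv.Perm GolayPt) := M24 ⊓ MulAction.stabilizer (Equiv.Perm GolayPt) p0

theorem card_G0 : Nat.card ↥G0 = 10200960 := by
  have h := ncard_orbit_mul_card M24 p0
  have he : MulAction.orbit M24 p0 = Set.univ := by
    refine Set.eq_univ_of_forall fun q => ?_
    obtain ⟨g, hg, e⟩ := exists_map_list [p0] [q] rfl (by simp) (by simp) (by simp)
    simp only [List.map_cons, List.map_nil, List.cons.injEq, and_true] at e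
    exact ⟨⟨g, hg⟩, e⟩
  rw [he, Set.ncard_univ, Nat.card_eq_fintype_card, card_golayPt, card_M24] at h
  show Nat.card ↥(M24 ⊓ MulAction.stabilizer (Equiv.Perm GolayPt) p0) = _
  omega

theorem factor_card {p n : ℕ} (hp : p.Prime) (h1 : p ^ n ∣ 10200960)
    (h2 : ¬ p ^ (n + 1) ∣ 10200960) : (Nat.card ↥G0).factorization p = n := by
  rw [card_G0]
  have a1 := (hp.pow_dvd_iff_le_factorization (by norm_num)).1 h1
  have b1 : ¬ n + 1 ≤ (10200960).factorization p := fun h =>
    h2 ((hp.pow_dvd_iff_le_factorization (by norm_num)).2 h)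
  omega

/-- An element of order seven fixes at most two further points. -/
theorem fixed_card_le {y : Equiv.Perm GolayPt} (hy : y ∈ G0) (h7 : orderOf y = 7)
    (S : Finset GolayPt) (h0 : p0 ∉ S) : (S.filter fun q => y q = q).card ≤ 2 := by
  haveI : Fact (Nat.Prime 7) := ⟨by norm_num⟩
  obtain ⟨h1, hfix, hpow, hne, hset⟩ := seven_checks
  obtain ⟨e, heM, ec, -⟩ : PairOK ptCoding genM24 M23SubData.elSeven := by
    obtain ⟨e, -, ec, ei⟩ := (gensOK_of_check h1).1 _ List.mem_cons_self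
    exact ⟨e, (gensOK_of_check h1).2
      (mem_genGroup_of_enc ptCoding List.mem_cons_self ec), ec, ei⟩
  have he0 : e p0 = p0 := by
    rw [act_ptN ec (by norm_num)] at hfix
    rw [← ptN_idx (e p0), hfix]
  have he : e ∈ G0 := Subgroup.mem_inf.mpr
    ⟨genM24_eq_M24 ▸ heM, MulAction.mem_stabilizer_iff.mpr he0⟩
  have e7 : orderOf e = 7 := by
    refine orderOf_eq_prime ?_ ?_
    · rw [powC_eq ec, ← ptCoding.one_enc] at hpow
      exact ptCoding.inj hpow
    · intro h
      exact hne (by rw [← ec, h, ptCoding.one_enc])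
  have hcard : ∀ z : ↥G0, orderOf (z : Equiv.Perm GolayPt) = 7 →
      Nat.card ↥(Subgroup.zpowers z) = 7 ^ (Nat.card ↥G0).factorization 7 := by
    intro z hz
    rw [factor_card (n := 1) (by norm_num) (by norm_num) (by norm_num), Nat.card_zpowers,
      ← Subgroup.orderOf_coe, hz, pow_one]
  let P : Sylow 7 ↥G0 := Sylow.ofCard _ (hcard ⟨y, hy⟩ h7)
  let Q : Sylow 7 ↥G0 := Sylow.ofCard _ (hcard ⟨e, he⟩ e7)
  obtain ⟨g, hg⟩ := MulAction.exists_smul_eq ↥G0 P Q
  have hmem : g⁻¹ * ⟨e, he⟩ * g ∈ Subgroup.zpowers (⟨y, hy⟩ : ↥G0) := by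
    have : (⟨e, he⟩ : ↥G0) ∈ (Q : Subgroup ↥G0) := Subgroup.mem_zpowers _
    rw [← hg, Sylow.coe_subgroup_smul, Subgroup.mem_pointwise_smul_iff_inv_smul_mem] at this
    rw [MulAut.smul_def, MulAut.inv_apply] at this
    simpa [P] using this
  obtain ⟨k, hk⟩ := Subgroup.mem_zpowers_iff.mp hmem
  have hk' : y ^ k = g.1⁻¹ * e * g.1 := congrArg Subtype.val hk
  have hmove : ∀ q, y q = q → g.1 q = p0 ∨ g.1 q = ptN 5 ∨ g.1 q = ptN 18 := by
    intro q hq
    have h := congrArg (fun f : Equiv.Perm GolayPt => f q) hk'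
    simp only [Equiv.Perm.mul_apply] at h
    rw [Equiv.Perm.zpow_apply_eq_self_of_apply_eq_self hq, eq_comm,
      Equiv.Perm.inv_eq_iff_eq] at h
    have := List.all_eq_true.mp hset (idx (g.1 q)).val (List.mem_range.mpr (idx _).isLt)
    rw [act_ptN ec (idx _).isLt, ptN_idx, h] at this
    simp only [beq_self_eq_true, Bool.not_true, Bool.false_or, List.contains_iff_mem,
      List.mem_cons, List.not_mem_nil, or_false] at this
    rcases this with a | a | a <;> rw [← ptN_idx (g.1 q), a] <;> simp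
  have hg0 : g.1 p0 = p0 := (Subgroup.mem_inf.mp g.2).2
  refine (Finset.card_le_card_of_injOn g.1 (fun q hq => ?_) g.1.injective.injOn).trans
    (Finset.card_le_two (a := ptN 5) (b := ptN 18))
  rw [Finset.mem_coe, Finset.mem_filter] at hq
  rcases hmove q hq.2 with a | a | a
  · exact absurd (g.1.injective (a.trans hg0.symm) ▸ hq.1) h0
  · simp [a]
  · simp [a]

/-- The congruence for the fixed points of an element of order seven. -/
theorem card_mod_seven {y : Equiv.Perm GolayPt} (h7 : orderOf y = 7) (S : Finset GolayPt)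
    (hS : ∀ q, y q ∈ S ↔ q ∈ S) : S.card % 7 ≤ (S.filter fun q => y q = q).card := by
  haveI : Fact (Nat.Prime 7) := ⟨by norm_num⟩
  have hy : (y.subtypePerm hS) ^ (7 ^ 1) = 1 := by
    rw [pow_one, Equiv.Perm.subtypePerm_pow]
    ext q
    simp [Equiv.Perm.subtypePerm_apply, h7 ▸ pow_orderOf_eq_one y]
  have h := Equiv.Perm.card_compl_support_modEq hy
  rw [Fintype.card_coe] at h
  have hle : (y.subtypePerm hS).supportᶜ.card ≤ (S.filter fun q => y q = q).card := by
    refine Finset.card_le_card_of_injOn Subtype.val (fun q hq => ?_) Subtype.val_injective.injOn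
    simp only [Finset.coe_compl, Set.mem_compl_iff, Finset.mem_coe, Equiv.Perm.mem_support,
      not_not] at hq
    simp only [Finset.mem_coe, Finset.mem_filter, q.2, true_and]
    exact congrArg Subtype.val hq
  rw [← h]
  exact (Nat.mod_le _ _).trans hle

/-- The orbit of a point. -/
noncomputable def orb (K : Subgroup (Equiv.Perm GolayPt)) (p : GolayPt) : Finset GolayPt :=
  (MulAction.orbit K p).toFinite.toFinset

theorem mem_orb {K : Subgroup (Equiv.Perm GolayPt)} {p q : GolayPt} :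
    q ∈ orb K p ↔ ∃ g ∈ K, g p = q := by
  rw [orb, Set.Finite.mem_toFinset]
  exact ⟨fun ⟨g, e⟩ => ⟨g.1, g.2, e⟩, fun ⟨g, hg, e⟩ => ⟨⟨g, hg⟩, e⟩⟩

theorem orb_invariant {K : Subgroup (Equiv.Perm GolayPt)} {p : GolayPt} {g : Equiv.Perm GolayPt}
    (hg : g ∈ K) (q : GolayPt) : g q ∈ orb K p ↔ q ∈ orb K p := by
  rw [mem_orb, mem_orb]
  exact ⟨fun ⟨h, hh, e⟩ => ⟨g⁻¹ * h, mul_mem (inv_mem hg) hh, by simp [e]⟩,
    fun ⟨h, hh, e⟩ => ⟨g * h, mul_mem hg hh, by simp [e]⟩⟩

theorem card_orb_dvd (K : Subgroup (Equiv.Perm GolayPt)) (p : GolayPt) :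
    (orb K p).card ∣ Nat.card ↥K := by
  rw [orb, ← Set.ncard_eq_toFinset_card]
  exact ⟨_, (ncard_orbit_mul_card K p).symm⟩

/-- An overgroup of the two-group keeps the duad or the octad. -/
theorem duad_or_octad {K : Subgroup (Equiv.Perm GolayPt)} (hle : K ≤ G0)
    (hc : Nat.card ↥K = 40320) (hT : genGroup ptCoding M23SubData.twoGens ≤ K) :
    (∀ g ∈ K, g • duad0 = duad0) ∨ (∀ g ∈ K, g • oct0 = oct0) := by
  haveI : Fact (Nat.Prime 7) := ⟨by norm_num⟩
  obtain ⟨-, -, -, n21, n1, n1', hone, hoct, hduad⟩ := point_checks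
  obtain ⟨y, hy⟩ := exists_prime_orderOf_dvd_card' (G := ↥K) 7 (by rw [hc]; norm_num)
  rw [← Subgroup.orderOf_coe] at hy
  have hK0 : ∀ g ∈ K, g p0 = p0 := fun g hg => (Subgroup.mem_inf.mp (hle hg)).2
  have h0 : ∀ p, p ≠ p0 → p0 ∉ orb K p := by
    intro p hp h
    obtain ⟨g, hg, e⟩ := mem_orb.mp h
    exact hp (g.injective (e.trans (hK0 g hg).symm))
  set S := orb K (ptN 21) with hSdef
  have h21 : ptN 21 ∈ S := mem_orb.mpr ⟨1, one_mem _, rfl⟩
  have hS := eq_blockMask S (h0 _ (Ne.symm n21)) fun g hg q => orb_invariant (hT hg) q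
  rw [decide_eq_true h21] at hS
  set b := decide (ptN 9 ∈ S)
  set c := decide (ptN 8 ∈ S)
  set d := decide (ptN 1 ∈ S)
  have hd := card_orb_dvd K (ptN 21)
  rw [hc, ← hSdef, hS, card_ptsOf] at hd
  have hm := (card_mod_seven hy S fun q => orb_invariant y.2 q).trans
    (fixed_card_le (hle y.2) hy S (h0 _ (Ne.symm n21)))
  rw [hS, card_ptsOf] at hm
  have keep : ∀ {t : Finset GolayPt}, insert p0 S = t → ∀ g ∈ K, g • t = t := by
    rintro t rfl g hg
    refine stab_of_mem_iff fun q => ?_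
    rw [Finset.mem_insert, Finset.mem_insert, orb_invariant hg]
    conv_lhs => rw [← hK0 g hg, g.injective.eq_iff]
  rcases mask_checks.2.1 b c d (Nat.mod_eq_zero_of_dvd hd) hm with e | e | e <;>
    simp only [Prod.mk.injEq] at e <;> obtain ⟨eb, ec, ed⟩ := e <;> rw [eb, ec, ed] at hS
  · exfalso
    rw [hone] at hS
    have hfix : ∀ g ∈ K, g (ptN 21) = ptN 21 := fun g hg =>
      Finset.mem_singleton.mp (hS ▸ mem_orb.mpr ⟨g, hg, rfl⟩)
    set R := orb K (ptN 1) with hRdef
    have n21R : ptN 21 ∉ R := by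
      intro h
      obtain ⟨g, hg, e⟩ := mem_orb.mp h
      exact n1 (g.injective (e.trans (hfix g hg).symm))
    have h1 : ptN 1 ∈ R := mem_orb.mpr ⟨1, one_mem _, rfl⟩
    have hR := eq_blockMask R (h0 _ n1') fun g hg q => orb_invariant (hT hg) q
    rw [decide_eq_true h1, decide_eq_false n21R] at hR
    have hd' := card_orb_dvd K (ptN 1)
    rw [hc, ← hRdef, hR, card_ptsOf] at hd'
    have hf := fixed_card_le (hle y.2) hy (insert (ptN 21) R)
      (by rw [Finset.mem_insert, not_or]; exact ⟨n21, h0 _ n1'⟩)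
    rw [Finset.filter_insert, if_pos (hfix _ y.2),
      Finset.card_insert_of_notMem (fun h => n21R (Finset.mem_of_mem_filter _ h))] at hf
    have hm' := (card_mod_seven hy R fun q => orb_invariant y.2 q).trans (Nat.le_of_succ_le_succ hf)
    rw [hR, card_ptsOf] at hm'
    exact mask_checks.2.2.1 _ _ (Nat.mod_eq_zero_of_dvd hd') hm'
  · exact Or.inr (keep (by rw [hS]; exact hoct))
  · refine Or.inl fun g hg => ?_
    have := keep (t := duad0ᶜ) (by rw [hS]; exact hduad) g hg
    refine stab_of_mem_iff fun q => ?_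
    have h := mem_iff_of_stab this q
    simpa [Finset.mem_compl, not_iff_not] using h

theorem card_duad_stab :
    Nat.card ↥(G0 ⊓ MulAction.stabilizer (Equiv.Perm GolayPt) duad0) ≤ 40320 := by
  have h := ncard_orbit_mul_card G0 duad0
  rw [card_G0] at h
  have hsub : (((Finset.univ.erase p0).powersetCard 2 : Finset (Finset GolayPt)) :
      Set (Finset GolayPt)) ⊆ MulAction.orbit ↥G0 duad0 := by
    intro t ht
    rw [Finset.mem_coe, Finset.mem_powersetCard] at ht
    obtain ⟨a, b, hab, rfl⟩ := Finset.card_eq_two.mp ht.2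
    have ha : a ≠ p0 := (Finset.mem_erase.mp (ht.1 (by simp))).1
    have hb : b ≠ p0 := (Finset.mem_erase.mp (ht.1 (by simp))).1
    obtain ⟨g, hg, e⟩ := exists_map_list [p0, ptN 9, ptN 20] [p0, a, b] rfl (by simp)
      point_checks.2.1 (by simp [hab, Ne.symm ha, Ne.symm hb])
    simp only [List.map_cons, List.map_nil, List.cons.injEq, and_true] at e
    refine ⟨⟨g, Subgroup.mem_inf.mpr ⟨hg, MulAction.mem_stabilizer_iff.mpr e.1⟩⟩, ?_⟩
    show g • duad0 = _
    rw [point_checks.1, Finset.smul_finset_insert, Finset.smul_finset_singleton,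
      Equiv.Perm.smul_def, Equiv.Perm.smul_def, e.2.1, e.2.2]
  have hn := Set.ncard_le_ncard hsub (Set.toFinite _)
  rw [Set.ncard_coe_finset, Finset.card_powersetCard, Finset.card_erase_of_mem (Finset.mem_univ _),
    Finset.card_univ, card_golayPt, show Nat.choose (24 - 1) 2 = 253 by decide] at hn
  by_contra hlt
  have := Nat.mul_le_mul hn (Nat.succ_le_of_lt (not_le.mp hlt))
  omega

theorem card_oct_stab :
    Nat.card ↥(G0 ⊓ MulAction.stabilizer (Equiv.Perm GolayPt) oct0) ≤ 40320 := by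
  have h := ncard_orbit_mul_card (stabG oct0) p0
  rw [card_stabG oct0_mem] at h
  have h8 : Fintype.card ↥oct0 = 8 := by rw [Fintype.card_coe, octad_card oct0_mem]
  have hsub : (oct0 : Set GolayPt) ⊆ MulAction.orbit ↥(stabG oct0) p0 := by
    intro q hq
    have := alternatingGroup.isPretransitive_of_three_le_card ↥oct0
      (by rw [Nat.card_eq_fintype_card, h8]; norm_num)
    obtain ⟨s, hs⟩ := MulAction.exists_smul_eq (alternatingGroup ↥oct0)
      (⟨p0, point_checks.2.2.1⟩ : ↥oct0) ⟨q, hq⟩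
    obtain ⟨g, hg⟩ := (range_restrict oct0_mem).ge s.2
    refine ⟨g, ?_⟩
    show g.1 p0 = q
    exact congrArg Subtype.val ((Equiv.congr_fun hg ⟨p0, point_checks.2.2.1⟩).trans hs)
  have hn := Set.ncard_le_ncard hsub (Set.toFinite _)
  rw [Set.ncard_coe_finset, octad_card oct0_mem] at hn
  have he : stabG oct0 ⊓ MulAction.stabilizer (Equiv.Perm GolayPt) p0 =
      G0 ⊓ MulAction.stabilizer (Equiv.Perm GolayPt) oct0 := by
    exact inf_right_comm _ _ _
  rw [he] at h
  by_contra hlt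
  have := Nat.mul_le_mul hn (Nat.succ_le_of_lt (not_le.mp hlt))
  omega

/-- The subgroups of order 40320 in the standard point stabiliser. -/
theorem exists_standard {K : Subgroup (Equiv.Perm GolayPt)} (hle : K ≤ G0)
    (hc : Nat.card ↥K = 40320) :
    ∃ c ∈ G0, ∃ s ∈ [duad0, oct0],
      K = (G0 ⊓ MulAction.stabilizer (Equiv.Perm GolayPt) s).map (MulAut.conj c).toMonoidHom := by
  haveI : Fact (Nat.Prime 2) := ⟨by norm_num⟩
  have hf := factor_card (p := 2) (n := 7) (by norm_num) (by norm_num) (by norm_num)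
  let T : Sylow 2 ↥G0 := Sylow.ofCard ((genGroup ptCoding M23SubData.twoGens).subgroupOf G0)
    (by rw [Nat.card_congr (Subgroup.subgroupOfEquivOfLe two_le).toEquiv, card_two, hf]; norm_num)
  have hcK : Nat.card ↥(K.subgroupOf G0) = 40320 := by
    rw [Nat.card_congr (Subgroup.subgroupOfEquivOfLe hle).toEquiv, hc]
  obtain ⟨P, hP⟩ := Sylow.exists_subgroup_card_pow_prime 2 (n := 7) (G := ↥(K.subgroupOf G0))
    (by rw [hcK]; norm_num)
  let P' : Sylow 2 ↥G0 := Sylow.ofCard (P.map (K.subgroupOf G0).subtype)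
    (by rw [Subgroup.card_map_of_injective (Subgroup.subtype_injective _), hP, hf])
  obtain ⟨g, hg⟩ := MulAction.exists_smul_eq ↥G0 T P'
  set K' := K.map (MulAut.conj g.1⁻¹).toMonoidHom with hK'
  have hcK' : Nat.card ↥K' = 40320 := by
    rw [hK', Subgroup.card_map_of_injective (MulAut.conj g.1⁻¹).injective, hc]
  have hle' : K' ≤ G0 := by
    rintro _ ⟨k, hk, rfl⟩
    exact mul_mem (mul_mem (inv_mem g.2) (hle hk)) (inv_mem (inv_mem g.2))
  have hTK : genGroup ptCoding M23SubData.twoGens ≤ K' := by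
    intro t ht
    refine ⟨g.1 * t * g.1⁻¹, ?_, by simp [mul_assoc]⟩
    have hmT : (⟨t, two_le ht⟩ : ↥G0) ∈ (T : Subgroup ↥G0) := ht
    have h := Subgroup.smul_mem_pointwise_smul _ (MulAut.conj g) _ hmT
    rw [← Sylow.coe_subgroup_smul, hg] at h
    obtain ⟨k, -, e⟩ := h
    have hk : ((k : ↥G0) : Equiv.Perm GolayPt) ∈ K := k.2
    rw [show (k : ↥G0) = _ from e] at hk
    exact hk
  have hfin : ∀ s : Finset GolayPt, (∀ k ∈ K', k • s = s) →
      Nat.card ↥(G0 ⊓ MulAction.stabilizer (Equiv.Perm GolayPt) s) ≤ 40320 →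
      K = (G0 ⊓ MulAction.stabilizer (Equiv.Perm GolayPt) s).map (MulAut.conj g.1).toMonoidHom := by
    intro s hs hle40
    have e : K' = G0 ⊓ MulAction.stabilizer (Equiv.Perm GolayPt) s :=
      Subgroup.eq_of_le_of_card_ge (le_inf hle' fun k hk => MulAction.mem_stabilizer_iff.mpr (hs k hk))
        (by rw [hcK']; exact hle40)
    rw [← e, hK', Subgroup.map_map]
    convert (Subgroup.map_id K).symm using 2
    ext k
    simp [mul_assoc]
  rcases duad_or_octad hle' hcK' hTK with h | h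
  · exact ⟨g.1, g.2, duad0, by simp, hfin _ h card_duad_stab⟩
  · exact ⟨g.1, g.2, oct0, by simp, hfin _ h card_oct_stab⟩

theorem subgroup_cases (x : GolayPt) (H : Subgroup ↥(MulAction.stabilizer M24 x))
    (hH : H.index = 253) :
    (∃ s : Finset GolayPt, s.card = 2 ∧ x ∉ s ∧
      H = (MulAction.stabilizer M24 s).subgroupOf (MulAction.stabilizer M24 x)) ∨
    ∃ o ∈ octads, x ∈ o ∧
      H = (MulAction.stabilizer M24 o).subgroupOf (MulAction.stabilizer M24 x) := by
  obtain ⟨g, hg, e⟩ := exists_map_list [p0] [x] rfl (by simp) (by simp) (by simp)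
  simp only [List.map_cons, List.map_nil, List.cons.injEq, and_true] at e
  let f : ↥(MulAction.stabilizer M24 x) →* Equiv.Perm GolayPt :=
    M24.subtype.comp (MulAction.stabilizer M24 x).subtype
  have hf : Function.Injective f := Subtype.val_injective.comp Subtype.val_injective
  have hx : Nat.card ↥(MulAction.stabilizer M24 x) = 10200960 := by
    obtain ⟨i⟩ := stab1_iso x
    rw [← Nat.card_congr i.toEquiv, card_fix1]
  have hc : Nat.card ↥(H.map f) = 40320 := by
    rw [Subgroup.card_map_of_injective hf]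
    have := H.card_mul_index
    rw [hx, hH] at this
    omega
  have hle : (H.map f).map (MulAut.conj g⁻¹).toMonoidHom ≤ G0 := by
    rintro _ ⟨_, ⟨k, -, rfl⟩, rfl⟩
    refine Subgroup.mem_inf.mpr ⟨mul_mem (mul_mem (inv_mem hg) k.1.2) (inv_mem (inv_mem hg)), ?_⟩
    rw [MulAction.mem_stabilizer_iff]
    have hk : (k.1.1 : Equiv.Perm GolayPt) x = x := k.2
    simp [f, e, hk, Equiv.symm_apply_eq]
  obtain ⟨c, hc0, s, hs, heq⟩ := exists_standard hle
    (by rw [Subgroup.card_map_of_injective (MulAut.conj g⁻¹).injective, hc])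
  have hc' := Subgroup.mem_inf.mp hc0
  have hgc : g * c ∈ M24 := mul_mem hg hc'.1
  have hx0 : (g * c) • p0 = x := by
    rw [mul_smul, MulAction.mem_stabilizer_iff.mp hc'.2, Equiv.Perm.smul_def, e]
  have hH' : H = (MulAction.stabilizer M24 ((g * c) • s)).subgroupOf (MulAction.stabilizer M24 x) := by
    refine Subgroup.map_injective hf ?_
    have h1 : H.map f = M24 ⊓ MulAction.stabilizer (Equiv.Perm GolayPt) x ⊓
        MulAction.stabilizer (Equiv.Perm GolayPt) ((g * c) • s) := by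
      have h2 := congrArg (Subgroup.map (MulAut.conj g).toMonoidHom) heq
      rw [Subgroup.map_map] at h2
      rw [show ((MulAut.conj g).toMonoidHom.comp (MulAut.conj g⁻¹).toMonoidHom) =
        MonoidHom.id _ by ext k; simp [mul_assoc], Subgroup.map_id, Subgroup.map_map,
        show ((MulAut.conj g).toMonoidHom.comp (MulAut.conj c).toMonoidHom) =
          (MulAut.conj (g * c)).toMonoidHom by ext k; simp [mul_assoc],
        map_conj_inf_stab hgc] at h2
      rw [h2]
      have h3 := map_conj_inf_stab hgc M24 p0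
      rw [map_conj_M24 hgc, hx0] at h3
      rw [← h3]
    rw [h1]
    ext k
    simp only [Subgroup.mem_inf, MulAction.mem_stabilizer_iff, Subgroup.mem_map,
      Subgroup.mem_subgroupOf]
    constructor
    · rintro ⟨⟨h1, h2⟩, h3⟩
      exact ⟨⟨⟨k, h1⟩, h2⟩, h3, rfl⟩
    · rintro ⟨k, hk, rfl⟩
      exact ⟨⟨k.1.2, k.2⟩, hk⟩
  simp only [List.mem_cons, List.not_mem_nil, or_false] at hs
  rcases hs with rfl | rfl
  · refine Or.inl ⟨_, ?_, ?_, hH'⟩
    · rw [Finset.card_smul_finset, point_checks.1]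
      exact Finset.card_pair (by decide +kernel)
    · rw [← hx0, Finset.smul_mem_smul_finset_iff, point_checks.1]
      decide +kernel
  · refine Or.inr ⟨_, M24_octad hgc oct0_mem, ?_, hH'⟩
    rw [← hx0, Finset.smul_mem_smul_finset_iff]
    exact point_checks.2.2.1

end Cfsg.Agent.Lib.Golay.M23Index
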