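import Cfsg.Agent.Lib.Golay.M23TripleData
import Cfsg.Agent.Lib.Golay.ClassFacts
import Cfsg.Agent.Lib.Perm.ScottCycles
import Cfsg.Agent.Lib.Compute.Mathieu.Outer

/-!
Which triples of prime orders generate the Mathieu group on 23 points.
-/

set_option autoImplicit false
set_option maxRecDepth 100000

namespace Cfsg.Agent.Lib.Golay.M23Triple

open Cfsg
open Cfsg.Agent.Lib.Compute (permOps pairCheck GensOK genGroup Good PairOK)
open Cfsg.Agent.Lib.Compute.Mathieu (ptCoding m23Gens m23Chain m23Chain_ok gensOK_m23 m23_eq_spor)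

/-- The operations on packed images of the 24 points. -/
noncomputable abbrev ops : Compute.Ops := permOps 8 24

/-- A product of coded letters. -/
noncomputable def evalLetters (L : List ℕ) : List ℕ → ℕ
  | [] => ops.one
  | j :: w => ops.mul (L.getD j ops.one) (evalLetters L w)

/-- A power of a code. -/
noncomputable def powCode (c : ℕ) : ℕ → ℕ
  | 0 => ops.one
  | n + 1 => ops.mul (powCode c n) c

/-- The test of one certificate. -/
noncomputable def tripleOK (t : (ℕ × ℕ × ℕ) × List ℕ × List ℕ × List ℕ) : Bool :=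
  match t with
  | ((p, q, r), [xc, xd, yc, yd], w0, w1) =>
    [(xc, xd), (yc, yd)].all (pairCheck 8 24 m23Chain) &&
    [evalLetters [xc, xd, yc, yd] w0, evalLetters [xc, xd, yc, yd] w1] == m23Gens.map Prod.fst &&
    powCode xc p == ops.one && !(xc == ops.one) &&
    powCode yc q == ops.one && !(yc == ops.one) &&
    powCode (ops.mul xc yc) r == ops.one && !(ops.mul xc yc == ops.one)
  | _ => false

theorem triples_ok : triples.all tripleOK = true := by decide +kernel

theorem powCode_eq (g : Equiv.Perm GolayPt) : ∀ n, powCode (ptCoding.enc g) n = ptCoding.enc (g ^ n)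
  | 0 => by rw [pow_zero, ptCoding.one_enc]; rfl
  | n + 1 => by
    show ops.mul (powCode (ptCoding.enc g) n) (ptCoding.enc g) = _
    rw [powCode_eq g n, ptCoding.mul_enc, pow_succ]

theorem orderOf_code {g : Equiv.Perm GolayPt} {n : ℕ} (hn : n.Prime)
    (h : powCode (ptCoding.enc g) n = ops.one) (h' : ptCoding.enc g ≠ ops.one) : orderOf g = n := by
  haveI : Fact n.Prime := ⟨hn⟩
  refine orderOf_eq_prime (ptCoding.inj ?_) fun e => h' (by rw [e, ptCoding.one_enc])
  rw [← powCode_eq, h, ptCoding.one_enc]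

theorem good_letters {H : Subgroup (Equiv.Perm GolayPt)} {L : List ℕ}
    (hL : ∀ c ∈ L, Good ptCoding H c) : ∀ w, Good ptCoding H (evalLetters L w)
  | [] => ⟨1, one_mem H, ptCoding.one_enc⟩
  | j :: w => by
    refine Compute.Good.mul _ ?_ (good_letters hL w)
    by_cases hj : j < L.length
    · rw [List.getD_eq_getElem L _ hj]; exact hL _ (List.getElem_mem hj)
    · rw [List.getD_eq_default L _ (Nat.le_of_not_lt hj)]
      exact ⟨1, one_mem H, ptCoding.one_enc⟩

/-- A certified triple gives generators. -/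
theorem exists_of_mem {p q r : ℕ} (hp : p.Prime) (hq : q.Prime) (hr : r.Prime)
    {t : (ℕ × ℕ × ℕ) × List ℕ × List ℕ × List ℕ} (ht : t ∈ triples) (he : t.1 = (p, q, r)) :
    ∃ x y z : Spor.M23, orderOf x = p ∧ orderOf y = q ∧ orderOf z = r ∧ x * y * z = 1 ∧
      Subgroup.closure {x, y} = ⊤ := by
  have hok := List.all_eq_true.1 triples_ok t ht
  obtain ⟨⟨p', q', r'⟩, L, w0, w1⟩ := t
  simp only [Prod.mk.injEq] at he
  obtain ⟨rfl, rfl, rfl⟩ := he
  match L, hok with
  | [xc, xd, yc, yd], hok =>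
    simp only [tripleOK, Bool.and_eq_true, beq_iff_eq, Bool.not_eq_true', beq_eq_false_iff_ne] at hok
    obtain ⟨⟨⟨⟨⟨⟨⟨h1, h2⟩, h3⟩, h4⟩, h5⟩, h6⟩, h7⟩, h8⟩ := hok
    obtain ⟨hT, hle⟩ := Compute.gensOK_of_pairCheck Compute.Mathieu.ptEquiv (by decide)
      gensOK_m23 m23Chain_ok h1
    obtain ⟨x, -, hx, hx'⟩ := hT (xc, xd) (by simp)
    obtain ⟨y, -, hy, hy'⟩ := hT (yc, yd) (by simp)
    change ptCoding.enc x = xc at hx
    change ptCoding.enc x⁻¹ = xd at hx'
    change ptCoding.enc y = yc at hy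
    change ptCoding.enc y⁻¹ = yd at hy'
    have hxM : x ∈ Spor.M23 := m23_eq_spor ▸ hle (Compute.mem_genGroup_of_enc _ (p := (xc, xd))
      (by simp) hx)
    have hyM : y ∈ Spor.M23 := m23_eq_spor ▸ hle (Compute.mem_genGroup_of_enc _ (p := (yc, yd))
      (by simp) hy)
    set H := Subgroup.closure ({x, y} : Set (Equiv.Perm GolayPt)) with hH
    have hxH : x ∈ H := Subgroup.subset_closure (by simp)
    have hyH : y ∈ H := Subgroup.subset_closure (by simp)
    have hgood : ∀ c ∈ [xc, xd, yc, yd], Good ptCoding H c := by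
      intro c hc
      simp only [List.mem_cons, List.not_mem_nil, or_false] at hc
      rcases hc with rfl | rfl | rfl | rfl
      · exact ⟨x, hxH, hx⟩
      · exact ⟨x⁻¹, inv_mem hxH, hx'⟩
      · exact ⟨y, hyH, hy⟩
      · exact ⟨y⁻¹, inv_mem hyH, hy'⟩
    have hge : Spor.M23 ≤ H := by
      rw [← m23_eq_spor]
      refine (Subgroup.closure_le _).2 ?_
      rintro g ⟨s, hs, hg⟩
      have hs' : s.1 ∈ [evalLetters [xc, xd, yc, yd] w0, evalLetters [xc, xd, yc, yd] w1] :=
        h2 ▸ List.mem_map_of_mem hs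
      have hgd : Good ptCoding H s.1 := by
        simp only [List.mem_cons, List.not_mem_nil, or_false] at hs'
        rcases hs' with e | e <;> rw [e] <;> exact good_letters hgood _
      obtain ⟨g', hg', he'⟩ := hgd
      exact ptCoding.inj (hg.trans he'.symm) ▸ hg'
    have oxy : orderOf (x * y) = r' := by
      refine orderOf_code hr ?_ ?_ <;> rw [← ptCoding.mul_enc, hx, hy]
      · exact h7
      · exact h8
    refine ⟨⟨x, hxM⟩, ⟨y, hyM⟩, (⟨x, hxM⟩ * ⟨y, hyM⟩)⁻¹, ?_, ?_, ?_, mul_inv_cancel _, ?_⟩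
    · rw [← Subgroup.orderOf_coe]
      exact orderOf_code hp (hx.symm ▸ h3) (hx.symm ▸ h4)
    · rw [← Subgroup.orderOf_coe]
      exact orderOf_code hq (hy.symm ▸ h5) (hy.symm ▸ h6)
    · rw [orderOf_inv, ← Subgroup.orderOf_coe]
      exact oxy
    · refine eq_top_iff.2 fun g _ => ?_
      have h9 := hge g.2
      rw [hH] at h9
      have hmap : (Subgroup.closure ({⟨x, hxM⟩, ⟨y, hyM⟩} : Set Spor.M23)).map Spor.M23.subtype
          = Subgroup.closure {x, y} := by
        rw [MonoidHom.map_closure, Set.image_pair]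
        rfl
      rw [← hmap] at h9
      obtain ⟨g', hg', e⟩ := h9
      exact Subtype.ext e ▸ hg'

theorem triples_cover : ∀ p ∈ [2, 3, 5, 7, 11, 23], ∀ q ∈ [2, 3, 5, 7, 11, 23],
    ∀ r ∈ [2, 3, 5, 7, 11, 23], p ≤ q → q ≤ r → ¬(p = 2 ∧ q = 2) →
    ¬((p = 2 ∧ q = 3) ∨ (p = 2 ∧ q = 5 ∧ r = 5) ∨ (p = 2 ∧ q = 5 ∧ r = 7) ∨
      (p = 3 ∧ q = 3 ∧ r ≤ 7)) → (p, q, r) ∈ triples.map Prod.fst := by
  decide +kernel

theorem prime_dvd_m23 {p : ℕ} (hp : p.Prime) (h : p ∣ 10200960) : p ∈ [2, 3, 5, 7, 11, 23] := by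
  have h' : p ∣ 2 ^ 7 * (3 ^ 2 * (5 * (7 * (11 * 23)))) := h
  rcases hp.dvd_mul.1 h' with h1 | h1
  · simp [(Nat.prime_dvd_prime_iff_eq hp Nat.prime_two).1 (hp.dvd_of_dvd_pow h1)]
  rcases hp.dvd_mul.1 h1 with h1 | h1
  · simp [(Nat.prime_dvd_prime_iff_eq hp Nat.prime_three).1 (hp.dvd_of_dvd_pow h1)]
  rcases hp.dvd_mul.1 h1 with h1 | h1
  · simp [(Nat.prime_dvd_prime_iff_eq hp (by norm_num)).1 h1]
  rcases hp.dvd_mul.1 h1 with h1 | h1
  · simp [(Nat.prime_dvd_prime_iff_eq hp (by norm_num)).1 h1]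
  rcases hp.dvd_mul.1 h1 with h1 | h1 <;>
    simp [(Nat.prime_dvd_prime_iff_eq hp (by norm_num)).1 h1]

/-! ### The excluded triples -/

/-- A lower bound for the number of cycles of an element of prime order. -/
theorem cyc_bound {g : Spor.M23} {p : ℕ} (hp : p.Prime) (hg : orderOf g = p) :
    (p = 2 → 16 ≤ ScottCycles.cyc g.1) ∧ (p = 3 → 12 ≤ ScottCycles.cyc g.1) ∧
    (p = 5 → 8 ≤ ScottCycles.cyc g.1) ∧ (p = 7 → 6 ≤ ScottCycles.cyc g.1) := by
  have ho : orderOf g.1 = p := (Subgroup.orderOf_coe g).trans hg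
  have hM : g.1 ∈ M24 := g.2.1
  have hnone : g.1 none = none := g.2.2
  have hpos : 0 < Classes.fixCount g.1 := Finset.card_pos.2 ⟨none, by simp [hnone]⟩
  have h24 : Fintype.card GolayPt = 24 := by simp
  have hge := ScottCycles.mul_cyc_ge hp ho
  have hmod := ScottCycles.fixed_mod hp ho
  rw [h24, show (Finset.univ.filter fun a => g.1 a = a).card = Classes.fixCount g.1 from rfl] at hge
  rw [h24, show (Finset.univ.filter fun a => g.1 a = a).card = Classes.fixCount g.1 from rfl] at hmod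
  have hval : ∀ l ∈ [ClassData.rep2f8, ClassData.rep2f0, ClassData.rep3f6,
      ClassData.rep3f0], validList l = true := by decide +kernel
  obtain ⟨f1, f2, f3, f4⟩ := Classes.fixNum_reps
  refine ⟨?_, ?_, ?_, ?_⟩ <;> rintro rfl
  · obtain ⟨l, hl, k, -, e⟩ := Classes.classify_two hM ho
    rw [← e, Classes.fixCount_conj, Classes.fixCount_toPerm (hval l (by
      simp only [List.mem_cons, List.not_mem_nil, or_false] at hl ⊢; tauto))] at hge hpos
    simp only [List.mem_cons, List.not_mem_nil, or_false] at hl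
    rcases hl with rfl | rfl <;> simp only [f1, f2, e] at hge hpos <;> omega
  · obtain ⟨l, hl, k, -, e⟩ := Classes.classify_three hM ho
    rw [← e, Classes.fixCount_conj, Classes.fixCount_toPerm (hval l (by
      simp only [List.mem_cons, List.not_mem_nil, or_false] at hl ⊢; tauto))] at hge hpos
    simp only [List.mem_cons, List.not_mem_nil, or_false] at hl
    rcases hl with rfl | rfl <;> simp only [f3, f4, e] at hge hpos <;> omega
  · omega
  · omega

/-- The excluded triples do not generate. -/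
theorem not_generate {p q r : ℕ} (hp : p.Prime) (hq : q.Prime) (hr : r.Prime) (hqr : q ≤ r)
    (hex : (p = 2 ∧ q = 3) ∨ (p = 2 ∧ q = 5 ∧ r = 5) ∨ (p = 2 ∧ q = 5 ∧ r = 7) ∨
      (p = 3 ∧ q = 3 ∧ r ≤ 7)) {x y z : Spor.M23} (hx : orderOf x = p) (hy : orderOf y = q)
    (hz : orderOf z = r) (hxyz : x * y * z = 1) : Subgroup.closure {x, y} ≠ ⊤ := by
  intro htop
  have hcl : Subgroup.closure ({x.1, y.1} : Set (Equiv.Perm GolayPt)) = Spor.M23 := by
    have h := congrArg (Subgroup.map Spor.M23.subtype) htop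
    rw [MonoidHom.map_closure, Set.image_pair, ← MonoidHom.range_eq_map, Subgroup.range_subtype] at h
    exact h
  have hcov : ∀ a : GolayPt, ∃ s ∈ ({none, some 0} : Finset GolayPt),
      ∃ g ∈ Subgroup.closure ({x.1, y.1} : Set (Equiv.Perm GolayPt)), g s = a := by
    intro a
    cases a with
    | none => exact ⟨none, by simp, 1, one_mem _, rfl⟩
    | some t =>
      obtain ⟨g, hg, hg0⟩ := exists_map_list [none, some 0] [none, some t] rfl (by simp)
        (by simp) (by simp)
      simp only [List.map_cons, List.map_nil, List.cons.injEq, and_true] at hg0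
      exact ⟨some 0, by simp, g, hcl.symm ▸ ⟨hg, hg0.1⟩, hg0.2⟩
  have hs := ScottCycles.scott (congrArg Subtype.val hxyz) _ hcov
  have h24 : Fintype.card GolayPt = 24 := by simp
  rw [h24, Finset.card_pair (by simp)] at hs
  obtain ⟨x2, x3, -, -⟩ := cyc_bound hp hx
  obtain ⟨-, y3, y5, -⟩ := cyc_bound hq hy
  obtain ⟨-, z3, z5, z7⟩ := cyc_bound hr hz
  have := ScottCycles.one_le_cyc z.1
  rcases hex with ⟨e1, e2⟩ | ⟨e1, e2, e3⟩ | ⟨e1, e2, e3⟩ | ⟨e1, e2, e3⟩
  · have := x2 e1; have := y3 e2; omega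
  · have := x2 e1; have := y5 e2; have := z5 e3; omega
  · have := x2 e1; have := y5 e2; have := z7 e3; omega
  · have := x3 e1; have := y3 e2
    have hr' := hr.two_le
    have h357 : r = 3 ∨ r = 5 ∨ r = 7 := by
      rcases (by omega : r = 3 ∨ r = 4 ∨ r = 5 ∨ r = 6 ∨ r = 7) with e | e | e | e | e <;>
        subst e <;> first | omega | (exfalso; revert hr; norm_num)
    rcases h357 with e | e | e
    · have := z3 e; omega
    · have := z5 e; omega
    · have := z7 e; omega

end Cfsg.Agent.Lib.Golay.M23Triple
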