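/-
Pairs of octads: the orbit sizes, joint stabilisers, and the triviality of elements fixing six
points of an octad and a suitable second set.
-/
import Cfsg.Agent.Lib.Golay.Suborbit.Octad
import Cfsg.Agent.Lib.Golay.Transitive
import Cfsg.Agent.Lib.Golay.OctadStab
import Cfsg.Agent.Lib.Golay.Simple

set_option autoImplicit false
set_option maxRecDepth 1000000

namespace Cfsg.Agent.Lib.Golay.OctadPairs

open Cfsg
open scoped Pointwise
open Cfsg.Agent.Lib.Orbit
open Cfsg.Agent.Lib.Golay.StabCert
open Cfsg.Agent.Lib.Golay.Orbits.Octad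

/-! ### Orbits and joint stabilisers -/

/-- Each pair of octads is equivalent to the base octad with one of the roots. -/
theorem exists_root {o o' : Finset GolayPt} (ho : o ∈ octads) (ho' : o' ∈ octads) :
    ∃ g : ↥M24, ∃ r ∈ orbits, g • ptsOf base = o ∧ g • ptsOf r.1 = o' ∧
      popCount (base &&& r.1) = (o ∩ o').card := by
  obtain ⟨g, rfl⟩ := Suborbit.Octad.transitive ho
  obtain ⟨r, hr, h, hh⟩ := Suborbit.Octad.decomp.exists_root (smul_octad g⁻¹ ho')
  have hb : (h : ↥M24) • ptsOf base = ptsOf base := h.2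
  have he : (g * h.1) • ptsOf r.1 = o' := by
    rw [mul_smul, show h.1 • ptsOf r.1 = g⁻¹ • o' from hh, smul_inv_smul]
  refine ⟨g * h.1, r, hr, by rw [mul_smul, hb], he, ?_⟩
  rw [← he, ← card_ptsOf, ptsOf_land]
  conv_rhs => rw [show g • ptsOf base = (g * h.1) • ptsOf base by rw [mul_smul, hb],
    ← Finset.smul_finset_inter, Finset.card_smul_finset]

theorem orbit_card {o o' : Finset GolayPt} (ho : o ∈ octads) (ho' : o' ∈ octads) (i n : ℕ)
    (hin : orbits.all (fun r => popCount (base &&& r.1) != i || (Coding.orbCodes r).length == n) = true)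
    (h : (o ∩ o').card = i) :
    (MulAction.orbit (MulAction.stabilizer ↥M24 o) o').ncard = n := by
  obtain ⟨g, r, hr, rfl, rfl, hc⟩ := exists_root ho ho'
  rw [ncard_orbit_stabilizer_smul]
  refine (Suborbit.Octad.decomp.ncard_orbit Suborbit.Octad.sig Suborbit.Octad.sig_smul
    Suborbit.Octad.sep hr).trans ?_
  have := List.all_eq_true.mp hin r hr
  rw [hc, h] at this
  simpa using this

theorem orbit_sizes {o o' : Finset GolayPt} (ho : o ∈ octads) (ho' : o' ∈ octads) :
    ((o ∩ o').card = 0 → (MulAction.orbit (MulAction.stabilizer ↥M24 o) o').ncard = 30) ∧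
    ((o ∩ o').card = 4 → (MulAction.orbit (MulAction.stabilizer ↥M24 o) o').ncard = 280) ∧
    ((o ∩ o').card = 2 → (MulAction.orbit (MulAction.stabilizer ↥M24 o) o').ncard = 448) :=
  ⟨orbit_card ho ho' 0 30 (by decide +kernel), orbit_card ho ho' 4 280 (by decide +kernel),
    orbit_card ho ho' 2 448 (by decide +kernel)⟩

/-- Orbit length times the joint stabiliser, inside a subgroup of `M24`. -/
theorem ncard_orbit_mul {G : Type*} [Group G] {X : Type*} [MulAction G X] (H : Subgroup G)
    (x : X) : (MulAction.orbit H x).ncard * Nat.card ↥(H ⊓ MulAction.stabilizer G x) =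
      Nat.card H := by
  rw [← MulAction.index_stabilizer H x, ← (MulAction.stabilizer H x).index_mul_card]
  congr 1
  exact Nat.card_congr
    { toFun := fun g => ⟨⟨g.1, (Subgroup.mem_inf.mp g.2).1⟩, (Subgroup.mem_inf.mp g.2).2⟩
      invFun := fun g => ⟨g.1.1, Subgroup.mem_inf.mpr ⟨g.1.2, g.2⟩⟩
      left_inv := fun _ => rfl
      right_inv := fun _ => rfl }

theorem card_stab_M24 {o : Finset GolayPt} (ho : o ∈ octads) :
    Nat.card (MulAction.stabilizer ↥M24 o) = 322560 := by
  rw [← OctadStab.card_stabG ho]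
  exact Nat.card_congr
    { toFun := fun g => ⟨g.1.1, Subgroup.mem_inf.mpr ⟨g.1.2, g.2⟩⟩
      invFun := fun g => ⟨⟨g.1, (Subgroup.mem_inf.mp g.2).1⟩, (Subgroup.mem_inf.mp g.2).2⟩
      left_inv := fun _ => rfl
      right_inv := fun _ => rfl }

theorem card_joint {o o' : Finset GolayPt} (ho : o ∈ octads) (ho' : o' ∈ octads) :
    ((o ∩ o').card = 0 →
      Nat.card ↥(MulAction.stabilizer ↥M24 o ⊓ MulAction.stabilizer ↥M24 o') = 10752) ∧
    ((o ∩ o').card = 4 →
      Nat.card ↥(MulAction.stabilizer ↥M24 o ⊓ MulAction.stabilizer ↥M24 o') = 1152) ∧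
    ((o ∩ o').card = 2 →
      Nat.card ↥(MulAction.stabilizer ↥M24 o ⊓ MulAction.stabilizer ↥M24 o') = 720) := by
  have key := ncard_orbit_mul (MulAction.stabilizer ↥M24 o) o'
  rw [card_stab_M24 ho] at key
  obtain ⟨h0, h4, h2⟩ := orbit_sizes ho ho'
  refine ⟨fun h => ?_, fun h => ?_, fun h => ?_⟩
  · rw [h0 h] at key; omega
  · rw [h4 h] at key; omega
  · rw [h2 h] at key; omega

/-! ### Six points of an octad -/

/-- The octad through the base points `23, 0, 1, 2, 3, 5`. -/
def stdOctad : ℕ := 8536111

theorem stdOctad_mem : ptsOf stdOctad ∈ octads := mem_octads_of_mask (by decide +kernel)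

theorem exists_std {o six : Finset GolayPt} (ho : o ∈ octads) (hs : six ⊆ o)
    (h6 : six.card = 6) :
    ∃ k ∈ M24, k • o = ptsOf stdOctad ∧ k • six = [5, 3, 2, 1, 0, 23].toFinset.image ptN := by
  obtain ⟨f, hf5, hf⟩ := Finset.exists_subset_card_eq (s := six) (n := 5) (by omega)
  obtain ⟨k, hk, hk'⟩ := move_five' f hf
  have hfo : f.image (k : Equiv.Perm GolayPt) ⊆ ptsOf stdOctad := by
    rw [hk']; decide +kernel
  have hko : k • o = ptsOf stdOctad := by
    refine octad_eq_of_five_le (M24_octad hk ho) stdOctad_mem ?_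
    rw [← hf, ← Finset.card_image_of_injective f k.injective]
    refine Finset.card_le_card (Finset.subset_inter ?_ hfo)
    rw [smul_finset_eq_image]
    exact Finset.image_subset_image (hf5.trans hs)
  obtain ⟨x, hx⟩ := Finset.card_eq_one.1
    (show (six \ f).card = 1 by rw [Finset.card_sdiff_of_subset hf5]; omega)
  have hxm : x ∈ six ∧ x ∉ f := Finset.mem_sdiff.1 (hx ▸ Finset.mem_singleton_self x)
  have hkx : k x ∈ ptsOf stdOctad := by
    rw [← hko, smul_finset_eq_image]
    exact Finset.mem_image_of_mem _ (hs hxm.1)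
  have hnx : k x ∉ f.image (k : Equiv.Perm GolayPt) := fun h => by
    obtain ⟨y, hy, e⟩ := Finset.mem_image.1 h
    exact hxm.2 (k.injective e ▸ hy)
  rw [hk'] at hnx
  have hfix : ∀ p, p ∈ ptsOf stdOctad → p ∉ [3, 2, 1, 0, 23].toFinset.image ptN →
      ∃ l ∈ (Data.level6.2.2 ++ Data.level6.2.2.map fun l => compList l l),
        inM24 l = true ∧ applyNum l (idx p).val = 5 ∧
          (∀ b ∈ [3, 2, 1, 0, 23], applyNum l b = b) ∧ imageMask l stdOctad = stdOctad := by
    decide +kernel
  obtain ⟨l, -, hl, hl5, hlb, hlo⟩ := hfix _ hkx hnx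
  refine ⟨toPerm l * k, mul_mem (toPerm_mem_M24 hl) hk, ?_, ?_⟩
  · rw [mul_smul, hko, toPerm_smul_ptsOf (inM24.valid hl), hlo]
  · have hsix : six = insert x f := by
      rw [← Finset.union_sdiff_of_subset hf5, hx]
      ext; simp [or_comm]
    have e5 : toPerm l (k x) = ptN 5 := by
      apply ptEquiv.injective
      apply Fin.ext
      show (idx (toPerm l (k x))).val = (idx (ptN 5)).val
      rw [idx_toPerm (inM24.valid hl), hl5, idx_ptN (by norm_num)]
    rw [hsix, smul_finset_eq_image, Finset.image_insert, Equiv.Perm.mul_apply, e5,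
      List.toFinset_cons, Finset.image_insert]
    congr 1
    rw [Equiv.Perm.coe_mul, ← Finset.image_image, hk', Finset.image_image]
    refine Finset.image_congr fun b hb => ?_
    simp only [List.coe_toFinset, Set.mem_ofPred_eq] at hb
    have hb24 : b < 24 := by
      simp only [List.mem_cons, List.not_mem_nil, or_false] at hb
      omega
    apply ptEquiv.injective
    apply Fin.ext
    show (idx (toPerm l (ptN b))).val = (idx (ptN b)).val
    rw [idx_toPerm (inM24.valid hl), idx_ptN hb24, hlb b hb]
where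
  move_five' (f : Finset GolayPt) (hf : f.card = 5) : ∃ k ∈ M24,
      f.image (k : Equiv.Perm GolayPt) = [3, 2, 1, 0, 23].toFinset.image ptN := by
    obtain ⟨k, hk, e⟩ := exists_map_list f.toList ([3, 2, 1, 0, 23].map ptN)
      (by simp [hf]) (by simp [hf]) f.nodup_toList (by decide +kernel)
    refine ⟨k, hk, ?_⟩
    ext p
    have := congrArg (fun L : List GolayPt => p ∈ L) e
    simp only [List.mem_map, Finset.mem_toList] at this
    simp only [Finset.mem_image, List.mem_toFinset]
    exact this.to_iff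

theorem six_trivial : Data.level7.2.2.all (fun t => t == List.range 24 ||
    (List.range 4096).all fun i =>
      (fun m => !((popCount m == 8 && m &&& stdOctad == stdOctad ^^^ 8388655) ||
          (popCount m == 12 && m &&& stdOctad == 8388655)) || imageMask t m != m) (encode i)) =
    true := by
  decide +kernel

theorem six_mask : ([5, 3, 2, 1, 0, 23].toFinset.image ptN) = ptsOf 8388655 ∧
    ptsOf stdOctad \ ([5, 3, 2, 1, 0, 23].toFinset.image ptN) = ptsOf (stdOctad ^^^ 8388655) := by
  decide +kernel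

/-- An element fixing six points of an octad and a code set meeting the octad in the right way. -/
theorem eq_one_of_six {o six w : Finset GolayPt} (ho : o ∈ octads) (hs : six ⊆ o)
    (h6 : six.card = 6)
    (hw : IsCodeSet w ∧ (w.card = 8 ∧ w ∩ o = o \ six ∨ w.card = 12 ∧ w ∩ o = six))
    {g : Equiv.Perm GolayPt} (hg : g ∈ M24) (hgs : ∀ p ∈ six, g p = p) (hgw : g • w = w) :
    g = 1 := by
  obtain ⟨k, hk, hko, hks⟩ := exists_std ho hs h6
  have hmem : k * g * k⁻¹ ∈ M24 ⊓ fixNums [5, 3, 2, 1, 0, 23] := by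
    refine Subgroup.mem_inf.2 ⟨mul_mem (mul_mem hk hg) (inv_mem hk), mem_fixNums.2 fun b hb => ?_⟩
    have : ptN b ∈ k • six := by
      rw [hks]; exact Finset.mem_image_of_mem _ (List.mem_toFinset.2 hb)
    rw [smul_finset_eq_image, Finset.mem_image] at this
    obtain ⟨p, hp, e⟩ := this
    rw [← e]
    simp [hgs p hp]
  obtain ⟨t, ht, e, hv⟩ := elems16 hmem
  obtain ⟨hwc, hw⟩ := hw
  obtain ⟨i, hi, hm⟩ := (M24_isCodeSet hk hwc).exists_eq
  have hlt : encode i < 2 ^ 24 := encode_lt i hi
  have hfix : imageMask t (encode i) = encode i := by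
    have h1 : toPerm t • ptsOf (encode i) = ptsOf (encode i) := by
      rw [← e, ← hm, mul_smul, mul_smul, inv_smul_smul, hgw]
    rw [toPerm_smul_ptsOf hv] at h1
    refine ptsOf_injective ?_ hlt h1
    have hall : Data.level7.2.2.all (fun t => (List.range 24).all fun j => applyNum t j < 24) =
        true := by decide +kernel
    refine Nat.lt_pow_two_of_testBit _ fun j hj => ?_
    by_contra h
    rw [Bool.not_eq_false, imageMask, testBit_imageFold] at h
    rcases h with h | ⟨q, -, -, hq⟩
    · simp at h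
    · have := applyNum_lt t q
      omega
  have hcond : ((popCount (encode i) == 8 && encode i &&& stdOctad == stdOctad ^^^ 8388655) ||
      (popCount (encode i) == 12 && encode i &&& stdOctad == 8388655)) = true := by
    have hand : encode i &&& stdOctad < 2 ^ 24 := lt_of_le_of_lt Nat.and_le_left hlt
    have hinter : ptsOf (encode i &&& stdOctad) = k • (w ∩ o) := by
      rw [ptsOf_land, ← hm, ← hko, ← Finset.smul_finset_inter]
    rw [← card_ptsOf, ← hm, Finset.card_smul_finset]
    rcases hw with ⟨h8, he⟩ | ⟨h12, he⟩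
    · have e1 : ptsOf (encode i &&& stdOctad) = ptsOf (stdOctad ^^^ 8388655) := by
        rw [hinter, he, Finset.smul_finset_sdiff, hko, hks, six_mask.2]
      simp [h8, ptsOf_injective hand (by decide +kernel) e1]
    · have e1 : ptsOf (encode i &&& stdOctad) = ptsOf 8388655 := by
        rw [hinter, he, hks, six_mask.1]
      simp [h12, ptsOf_injective hand (by decide +kernel) e1]
  have := List.all_eq_true.1 six_trivial t ht
  rw [Bool.or_eq_true] at this
  rcases this with h | h
  · rw [beq_iff_eq] at h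
    have h1 : toPerm (List.range 24) = 1 := (toPerm_eq_iff (by decide +kernel) 1).2 fun i => by
      rw [Equiv.Perm.one_apply, idx_pt]
      revert i
      decide +kernel
    rw [h, h1, mul_inv_eq_one, mul_eq_left] at e
    exact e
  · have := List.all_eq_true.1 h i (List.mem_range.2 hi)
    simp only [hfix, bne_self_eq_false, Bool.or_false, Bool.not_eq_true'] at this
    rw [hcond] at this
    exact absurd this (by simp)

/-- A faithful action on six points by a group of order 720 is the symmetric group of degree 6. -/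
theorem iso_perm_six {G : Type*} [Group G] [MulAction G GolayPt] (H : Subgroup G)
    {six : Finset GolayPt} (h6 : six.card = 6) (hcard : Nat.card H = 720)
    (hstab : ∀ g ∈ H, ∀ p, g • p ∈ six ↔ p ∈ six)
    (hf : ∀ g ∈ H, (∀ p ∈ six, g • p = p) → g = 1) :
    Nonempty (↥H ≃* Equiv.Perm (Fin 6)) := by
  let f : ↥H →* Equiv.Perm ↥six :=
    { toFun := fun g => (MulAction.toPerm g.1).subtypePerm (fun p => hstab g.1 g.2 p)
      map_one' := Equiv.ext fun p => Subtype.ext (one_smul G p.1)
      map_mul' := fun g h => Equiv.ext fun p => Subtype.ext (mul_smul g.1 h.1 p.1) }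
  have hinj : Function.Injective f := by
    rw [injective_iff_map_eq_one]
    intro g hg
    refine Subtype.ext (hf g.1 g.2 fun p hp => ?_)
    exact congrArg Subtype.val (Equiv.ext_iff.1 hg ⟨p, hp⟩)
  have hb : Function.Bijective f := by
    rw [Nat.bijective_iff_injective_and_card]
    refine ⟨hinj, ?_⟩
    rw [hcard, Nat.card_perm, Nat.card_eq_fintype_card, Fintype.card_coe, h6]
    rfl
  exact ⟨(MulEquiv.ofBijective f hb).trans (six.equivFinOfCardEq h6).permCongrHom⟩

end Cfsg.Agent.Lib.Golay.OctadPairs
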