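/-
The fifteen trios through an octad.
-/
import Cfsg.Agent.Lib.Golay.Cross.OctadTrio
import Cfsg.Agent.Lib.Golay.CrossData.OctadTrioPair
import Cfsg.Agent.Lib.Golay.OctadPairs

set_option autoImplicit false
set_option maxRecDepth 1000000

namespace Cfsg.Agent.Lib.Golay.OctadTrios

open Cfsg
open scoped Pointwise
open Cfsg.Agent.Lib.Orbit
open Cfsg.Agent.Lib.Golay.StabCert
open Cfsg.Agent.Lib.Golay.CrossData.OctadTrio

/-- The base octad. -/
abbrev O : Finset GolayPt := ptsOf Orbits.Octad.base

/-- The trios through an octad. -/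
def triosAt (o : Finset GolayPt) : Set (Finset (Finset GolayPt)) := {T | T ∈ trios ∧ o ∈ T}

theorem mem_famOf_code {m : ℕ} {L : List ℕ} (hm : m < 2 ^ 24) (hL : canonFam L = true) :
    ptsOf m ∈ famOf L ↔ m ∈ L := by
  rw [mem_famOf]
  refine ⟨fun ⟨x, hx, e⟩ => ?_, fun h => ⟨m, h, rfl⟩⟩
  exact ptsOf_injective ((canonFam_spec hL).2 x hx) hm e ▸ hx

theorem roots_mem : orbits.all (fun r =>
    r.1.contains Orbits.Octad.base == (r.1 == root0) && canonFam r.1) = true := by decide +kernel

theorem triosAt_base :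
    triosAt O = MulAction.orbit (MulAction.stabilizer ↥M24 O) (famOf root0) := by
  ext T
  have hmem : ∀ h : ↥(MulAction.stabilizer ↥M24 O), ∀ F : Finset (Finset GolayPt),
      O ∈ h.1 • F ↔ O ∈ F := fun h F => by
    obtain ⟨h, e⟩ := h
    show O ∈ h • F ↔ _
    conv_lhs => rw [← show h • O = O from e]
    exact Finset.smul_mem_smul_finset_iff _
  constructor
  · rintro ⟨hT, hO⟩
    obtain ⟨r, hr, hTr⟩ := Cross.OctadTrio.decomp.exists_root hT
    obtain ⟨h, rfl⟩ := hTr
    have hc := List.all_eq_true.1 roots_mem r hr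
    simp only [Bool.and_eq_true, beq_iff_eq] at hc
    have hr0 : Orbits.Octad.base ∈ r.1 :=
      (mem_famOf_code (by decide +kernel) hc.2).1 ((hmem h _).1 hO)
    have : r.1 = root0 := beq_iff_eq.1 (hc.1 ▸ List.contains_iff_mem.2 hr0)
    rw [← this]
    exact MulAction.mem_orbit _ h
  · rintro ⟨h, rfl⟩
    exact ⟨Cross.OctadTrio.decomp.inv h.1 h.2 _
      (Cross.OctadTrio.decomp.roots (root0, tree0) List.mem_cons_self),
      (hmem h _).2 (mem_famOf.2 ⟨_, List.mem_cons_self, rfl⟩)⟩

theorem ncard_base : (triosAt O).ncard = 15 := by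
  rw [triosAt_base]
  exact (Cross.OctadTrio.decomp.ncard_orbit (o := (root0, tree0)) Cross.OctadTrio.inv
    Cross.OctadTrio.inv_smul Cross.OctadTrio.sep List.mem_cons_self).trans
    (List.cons.inj Cross.OctadTrio.sizes).1

theorem smul_triosAt (g : ↥M24) (o : Finset GolayPt) : triosAt (g • o) = g • triosAt o := by
  ext T
  rw [Set.mem_smul_set_iff_inv_smul_mem]
  simp only [triosAt, Set.mem_ofPred_eq]
  constructor
  · rintro ⟨hT, h⟩
    exact ⟨smul_trio _ hT, Finset.mem_inv_smul_finset_iff.2 h⟩
  · rintro ⟨hT, h⟩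
    exact ⟨by simpa using smul_trio g hT, Finset.mem_inv_smul_finset_iff.1 h⟩

theorem pair_checks : CrossData.OctadTrioPair.gens.all (fun l => inM24 l &&
      maskCoding.eqv (maskCoding.move l Orbits.Octad.base) Orbits.Octad.base &&
      famCoding.eqv (famCoding.move l root0) root0) = true ∧
    famCoding.orbsOk CrossData.OctadTrioPair.gens CrossData.OctadTrioPair.orbits = true ∧
    distinctOk canonFam Orbits.Trio.key
      (CrossData.OctadTrioPair.orbits.flatMap Coding.orbCodes) = true ∧
    CrossData.OctadTrioPair.orbits.all (fun r => Suborbit.Trio.isTrioCode r.1 &&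
      r.1.contains Orbits.Octad.base && r.1 != root0) = true ∧
    ((CrossData.OctadTrioPair.orbits.flatMap Coding.orbCodes).length = 14) ∧
    canonFam root0 = true := by
  decide +kernel

theorem pair_decomp : famCoding.CrossDecomp
    (MulAction.stabilizer ↥M24 O ⊓ MulAction.stabilizer ↥M24 (famOf root0))
    (triosAt O \ {famOf root0}) CrossData.OctadTrioPair.gens CrossData.OctadTrioPair.orbits where
  valid := fun a ha => by
    have := List.all_eq_true.1 pair_checks.1 a ha
    simp only [Bool.and_eq_true] at this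
    exact this.1.1
  mem := fun a ha => by
    have := List.all_eq_true.1 pair_checks.1 a ha
    simp only [Bool.and_eq_true] at this
    exact Subgroup.mem_inf.2
      ⟨(maskCoding.move_den a _ this.1.1).trans (maskCoding.eqv_sound _ _ this.1.2),
       (famCoding.move_den a _ this.1.1).trans (famCoding.eqv_sound _ _ this.2)⟩
  ok := pair_checks.2.1
  inv := fun g hg T hT => by
    obtain ⟨h1, h2⟩ := Subgroup.mem_inf.1 hg
    obtain ⟨⟨hT1, hT2⟩, hne⟩ := hT
    refine ⟨⟨smul_trio g hT1, ?_⟩, fun e => hne ?_⟩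
    · rw [← MulAction.mem_stabilizer_iff.1 h1]
      exact Finset.smul_mem_smul_finset hT2
    · exact MulAction.injective g (e.trans (MulAction.mem_stabilizer_iff.1 h2).symm)
  roots := fun o ho => by
    have := List.all_eq_true.1 pair_checks.2.2.2.1 o ho
    simp only [Bool.and_eq_true, List.contains_iff_mem, bne_iff_ne] at this
    refine ⟨⟨Suborbit.Trio.famOf_trio this.1.1, mem_famOf.2 ⟨_, this.1.2, rfl⟩⟩, fun e => this.2 ?_⟩
    refine famOf_injOn ?_ pair_checks.2.2.2.2.2 e
    have h := this.1.1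
    simp only [Suborbit.Trio.isTrioCode, Bool.and_eq_true] at h
    exact h.1.1.1
  nodup := nodup_fam _ pair_checks.2.2.1
  count := by
    rw [pair_checks.2.2.2.2.1, Set.ncard_sdiff_singleton_of_mem, ncard_base]
    rw [triosAt_base]
    exact MulAction.mem_orbit_self _
  fin := Set.toFinite _

/-- The stabiliser of an octad is transitive on ordered pairs of distinct trios through it. -/
theorem two_transitive {o : Finset GolayPt} (ho : o ∈ octads)
    {T₁ T₂ T₁' T₂' : Finset (Finset GolayPt)} (h₁ : T₁ ∈ triosAt o) (h₂ : T₂ ∈ triosAt o)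
    (h₁' : T₁' ∈ triosAt o) (h₂' : T₂' ∈ triosAt o) (hne : T₁ ≠ T₂) (hne' : T₁' ≠ T₂') :
    ∃ g : ↥M24, g • o = o ∧ g • T₁ = T₁' ∧ g • T₂ = T₂' := by
  obtain ⟨g, rfl⟩ := Suborbit.Octad.transitive ho
  have std : ∀ {A B : Finset (Finset GolayPt)}, A ∈ triosAt (g • O) → B ∈ triosAt (g • O) → A ≠ B →
      ∃ k : ↥M24, k • O = g • O ∧ k • famOf root0 = A ∧
        k • famOf (CrossData.OctadTrioPair.root0) = B := by
    intro A B hA hB hAB
    rw [smul_triosAt, Set.mem_smul_set_iff_inv_smul_mem] at hA hB
    rw [triosAt_base] at hA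
    obtain ⟨⟨a, ea⟩, ha⟩ := hA
    replace ea : a • O = O := ea
    replace ha : a • famOf root0 = g⁻¹ • A := ha
    have hB' : a⁻¹ • g⁻¹ • B ∈ triosAt O \ {famOf root0} := by
      refine ⟨⟨smul_trio _ hB.1, ?_⟩, fun e => hAB ?_⟩
      · rw [← show a⁻¹ • O = O from inv_smul_eq_iff.2 ea.symm]
        exact Finset.smul_mem_smul_finset hB.2
      · rw [Set.mem_singleton_iff, inv_smul_eq_iff, ha] at e
        exact (MulAction.injective g⁻¹ e).symm
    obtain ⟨r, hr, b, hb⟩ := pair_decomp.exists_root hB'
    simp only [CrossData.OctadTrioPair.orbits, List.mem_cons, List.not_mem_nil, or_false] at hr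
    subst hr
    obtain ⟨b1, b2⟩ := Subgroup.mem_inf.1 b.2
    refine ⟨g * a * b.1, ?_, ?_, ?_⟩
    · rw [mul_smul, mul_smul, MulAction.mem_stabilizer_iff.1 b1, ea]
    · rw [mul_smul, mul_smul, MulAction.mem_stabilizer_iff.1 b2,
        ha, smul_inv_smul]
    · rw [mul_smul, mul_smul, show b.1 • famOf CrossData.OctadTrioPair.root0 = a⁻¹ • g⁻¹ • B
        from hb, smul_inv_smul, smul_inv_smul]
  obtain ⟨k, k0, k1, k2⟩ := std h₁ h₂ hne
  obtain ⟨l, l0, l1, l2⟩ := std h₁' h₂' hne'
  refine ⟨l * k⁻¹, ?_, ?_, ?_⟩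
  · conv_lhs => rw [← k0, mul_smul, inv_smul_smul, l0]
  · rw [← k1, mul_smul, inv_smul_smul, l1]
  · rw [← k2, mul_smul, inv_smul_smul, l2]

theorem ncard_at {o : Finset GolayPt} (ho : o ∈ octads) : (triosAt o).ncard = 15 := by
  obtain ⟨g, rfl⟩ := Suborbit.Octad.transitive ho
  rw [smul_triosAt, ← Set.image_smul, Set.ncard_image_of_injective _ (MulAction.injective g),
    ncard_base]

theorem translations : Data.level7.2.2.all (fun t => (List.range 4096).all fun i =>
    (fun m => !(popCount m == 8 && m &&& OctadPairs.stdOctad == 0) || imageMask t m == m ||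
      imageMask t m == 16777215 ^^^ OctadPairs.stdOctad ^^^ m) (encode i)) = true := by
  decide +kernel

/-- An element fixing an octad pointwise fixes every trio through it. -/
theorem fix_trio {o : Finset GolayPt} (ho : o ∈ octads) {g : Equiv.Perm GolayPt} (hg : g ∈ M24)
    (hgo : ∀ p ∈ o, g p = p) {T : Finset (Finset GolayPt)} (hT : T ∈ triosAt o) : g • T = T := by
  obtain ⟨six, hs, h6⟩ := Finset.exists_subset_card_eq (s := o) (n := 6)
    (by rw [octad_card ho]; norm_num)
  obtain ⟨k, hk, hko, hks⟩ := OctadPairs.exists_std ho hs h6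
  have hmem : k * g * k⁻¹ ∈ M24 ⊓ fixNums [5, 3, 2, 1, 0, 23] := by
    refine Subgroup.mem_inf.2 ⟨mul_mem (mul_mem hk hg) (inv_mem hk), mem_fixNums.2 fun b hb => ?_⟩
    have : ptN b ∈ k • six := by
      rw [hks]; exact Finset.mem_image_of_mem _ (List.mem_toFinset.2 hb)
    rw [smul_finset_eq_image, Finset.mem_image] at this
    obtain ⟨p, hp, e⟩ := this
    rw [← e]
    simp [hgo p (hs hp)]
  obtain ⟨t, ht, et, hv⟩ := elems16 hmem
  obtain ⟨hTt, hoT⟩ := hT
  -- the other members of the trio are permuted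
  have step : ∀ a ∈ T, g • a ∈ T := by
    intro a ha
    have hgo' : g • o = o := by
      rw [smul_finset_eq_image]
      conv_rhs => rw [← Finset.image_id (s := o)]
      exact Finset.image_congr fun p hp => hgo p hp
    by_cases hao : a = o
    · rw [hao, hgo']; exact hoT
    have hd : Disjoint a o := hTt.2.2 a ha o hoT hao
    have hka : k • a ∈ octads := M24_octad hk (hTt.2.1 a ha)
    obtain ⟨i, hi, hm⟩ := (mem_octads_iff.1 hka).1.exists_eq
    have hlt : encode i < 2 ^ 24 := encode_lt i hi
    have h8 : popCount (encode i) = 8 := by rw [← card_ptsOf, ← hm, octad_card hka]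
    have hand : encode i &&& OctadPairs.stdOctad = 0 := by
      refine ptsOf_injective (lt_of_le_of_lt Nat.and_le_left hlt) (by norm_num) ?_
      rw [ptsOf_land, ← hm, ← hko, ← Finset.smul_finset_inter,
        Finset.disjoint_iff_inter_eq_empty.1 hd, Finset.smul_finset_empty, ptsOf_zero]
    have := List.all_eq_true.1 (List.all_eq_true.1 translations t ht) i (List.mem_range.2 hi)
    simp only [h8, hand, beq_self_eq_true, Bool.and_self, Bool.not_true, Bool.false_or,
      Bool.or_eq_true, beq_iff_eq] at this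
    have hga : k • g • a = ptsOf (imageMask t (encode i)) := by
      rw [← toPerm_smul_ptsOf hv, ← et, ← hm, mul_smul, mul_smul, inv_smul_smul]
    rcases this with e | e
    · rw [e, ← hm] at hga
      rw [MulAction.injective k hga]; exact ha
    · obtain ⟨b, hb, hbo, hba⟩ : ∃ b ∈ T, b ≠ o ∧ b ≠ a := by
        by_contra hno
        push Not at hno
        have : T ⊆ {o, a} := fun b hb => by
          rw [Finset.mem_insert, Finset.mem_singleton]
          by_cases hbo : b = o
          · exact Or.inl hbo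
          · exact Or.inr (hno b hb hbo)
        have h2 := (Finset.card_le_card this).trans Finset.card_le_two
        rw [hTt.1] at h2
        omega
      have hb' : g • a = b := by
        apply MulAction.injective k
        show k • g • a = k • b
        rw [hga, e, ptsOf_xor, ptsOf_xor, ← hm, show ptsOf OctadPairs.stdOctad = k • o from hko.symm,
          show ptsOf 16777215 = (Finset.univ : Finset GolayPt) by decide +kernel]
        symm
        have hbO := hTt.2.2 b hb o hoT hbo
        have hbA := hTt.2.2 b hb a ha hba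
        refine Finset.eq_of_subset_of_card_le (fun p hp => ?_) ?_
        · have h1 : p ∉ k • o := fun h => Finset.disjoint_left.1 hbO
            (Finset.inv_smul_mem_iff.2 hp) (Finset.inv_smul_mem_iff.2 h)
          have h2 : p ∉ k • a := fun h => Finset.disjoint_left.1 hbA
            (Finset.inv_smul_mem_iff.2 hp) (Finset.inv_smul_mem_iff.2 h)
          simp [Finset.mem_symmDiff, h1, h2]
        · have e1 : symmDiff (symmDiff (Finset.univ : Finset GolayPt) (k • o)) (k • a) =
              (Finset.univ \ (k • o)) \ (k • a) := by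
            ext p
            have : p ∈ k • a → p ∉ k • o := fun h h' => Finset.disjoint_left.1 hd
              (Finset.inv_smul_mem_iff.2 h) (Finset.inv_smul_mem_iff.2 h')
            simp only [Finset.mem_symmDiff, Finset.mem_sdiff, Finset.mem_univ, true_and]
            tauto
          rw [e1, Finset.card_smul_finset, octad_card (hTt.2.1 b hb),
            Finset.card_sdiff_of_subset, Finset.card_sdiff_of_subset (Finset.subset_univ _),
            Finset.card_univ, card_golayPt, Finset.card_smul_finset, Finset.card_smul_finset,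
            octad_card (hTt.2.1 a ha), octad_card ho]
          intro p hp
          rw [Finset.mem_sdiff]
          exact ⟨Finset.mem_univ _, fun h => Finset.disjoint_left.1 hd
            (Finset.inv_smul_mem_iff.2 hp) (Finset.inv_smul_mem_iff.2 h)⟩
      rw [hb']; exact hb
  refine Finset.eq_of_subset_of_card_le (fun x hx => ?_) (by rw [Finset.card_smul_finset])
  rw [Finset.smul_finset_def, Finset.mem_image] at hx
  obtain ⟨a, ha, rfl⟩ := hx
  exact step a ha

/-- An element fixing every trio through an octad fixes it pointwise. -/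
theorem pointwise_of_fix {o : Finset GolayPt} (ho : o ∈ octads) {g : Equiv.Perm GolayPt}
    (hg : g ∈ M24) (hgo : g • o = o) (hfix : ∀ T ∈ triosAt o, g • T = T) : ∀ p ∈ o, g p = p := by
  classical
  have hgs : g ∈ OctadStab.stabG o := Subgroup.mem_inf.2 ⟨hg, hgo⟩
  let N : Subgroup ↥(OctadStab.stabG o) :=
    { carrier := {a | ∀ T ∈ triosAt o, a.1 • T = T}
      one_mem' := fun T _ => one_smul _ T
      mul_mem' := fun {a b} ha hb T hT => by
        show (a.1 * b.1) • T = T
        rw [mul_smul, hb T hT, ha T hT]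
      inv_mem' := fun {a} ha T hT => by
        show a.1⁻¹ • T = T
        rw [inv_smul_eq_iff, ha T hT] }
  have hperm : ∀ (a : ↥(OctadStab.stabG o)), ∀ T ∈ triosAt o, a.1 • T ∈ triosAt o := by
    rintro ⟨a, am⟩ T hT
    obtain ⟨a1, a2⟩ := Subgroup.mem_inf.1 am
    refine ⟨smul_trio ⟨a, a1⟩ hT.1, ?_⟩
    show o ∈ a • T
    rw [← MulAction.mem_stabilizer_iff.1 a2]
    exact Finset.smul_mem_smul_finset hT.2
  have hN : N.Normal := ⟨fun a ha b T hT => by
    show (b.1 * a.1 * b.1⁻¹) • T = T
    rw [mul_smul, mul_smul, ha _ (by simpa using hperm b⁻¹ T hT), smul_inv_smul]⟩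
  have h8 : 5 ≤ Nat.card ↥o := by
    rw [Nat.card_eq_fintype_card, Fintype.card_coe, octad_card ho]; norm_num
  have : IsSimpleGroup (alternatingGroup ↥o) := alternatingGroup.isSimpleGroup h8
  let φ : ↥(OctadStab.stabG o) →* ↥(alternatingGroup ↥o) :=
    (OctadStab.restrictHom o).codRestrict _ fun a => OctadStab.range_restrict ho ▸ ⟨a, rfl⟩
  have hsurj : Function.Surjective φ := fun x => by
    obtain ⟨a, ha⟩ : x.1 ∈ (OctadStab.restrictHom o).range := by
      rw [OctadStab.range_restrict ho]; exact x.2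
    exact ⟨a, Subtype.ext ha⟩
  rcases (hN.map φ hsurj).eq_bot_or_eq_top with h | h
  · intro p hp
    have hm : φ ⟨g, hgs⟩ ∈ N.map φ := Subgroup.mem_map_of_mem φ (show (⟨g, hgs⟩ : ↥(OctadStab.stabG o)) ∈ N from hfix)
    rw [h, Subgroup.mem_bot] at hm
    exact congrArg Subtype.val (Equiv.ext_iff.1 (congrArg Subtype.val hm) ⟨p, hp⟩)
  · exfalso
    obtain ⟨A, hA, B, hB, hne⟩ := (Set.one_lt_ncard (Set.toFinite _)).1
      (show 1 < (triosAt o).ncard by rw [ncard_at ho]; norm_num)
    obtain ⟨k, k0, k1, -⟩ := two_transitive ho hA hB hB hA hne (Ne.symm hne)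
    have hk : k.1 ∈ OctadStab.stabG o := Subgroup.mem_inf.2 ⟨k.2, k0⟩
    obtain ⟨n, hn, e⟩ : φ ⟨k.1, hk⟩ ∈ N.map φ := h ▸ Subgroup.mem_top _
    have hfix' : ∀ p ∈ o, (n.1⁻¹ * k.1) p = p := by
      intro p hp
      have := congrArg Subtype.val (Equiv.ext_iff.1 (congrArg Subtype.val e) ⟨p, hp⟩)
      rw [Equiv.Perm.mul_apply, Equiv.Perm.inv_eq_iff_eq]
      exact this.symm
    have h2 := fix_trio ho (mul_mem (inv_mem (Subgroup.mem_inf.1 n.2).1) k.2) hfix' hA
    rw [mul_smul, show k.1 • A = B from k1, inv_smul_eq_iff, hn A hA] at h2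
    exact hne h2.symm

end Cfsg.Agent.Lib.Golay.OctadTrios
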