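/-
The quartets of a dodecad.
-/
import Cfsg.Agent.Lib.Golay.DodecadPoints
import Cfsg.Agent.Lib.Golay.QuartetData

set_option autoImplicit false

namespace Cfsg.Agent.Lib.Golay.Quartets

open Cfsg
open scoped Pointwise
open Cfsg.Agent.Lib.Orbit
open Cfsg.Agent.Lib.Golay.StabCert
open Cfsg.Agent.Lib.Golay.StepCert Cfsg.Agent.Lib.Golay.Normal
open Cfsg.Agent.Lib.Golay.DodecadPoints (d₀ d₀_mem)

/-- The mask of the base dodecad. -/
abbrev dMask : ℕ := 10260655

/-- The base triple. -/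
def t₀ : Finset GolayPt := ptsOf 7

theorem t₀_eq : t₀ = {pt 0, pt 1, pt 2} := by
  show ptsOf (1 ||| (2 ||| 4)) = _
  rw [ptsOf_lor, ptsOf_lor, ptsOf_one, ptsOf_two, DodecadPoints.ptsOf_four]
  rfl

/-- The base quartet. -/
def Q₀ : Finset (Finset GolayPt) := famOf [7, 4232, 786464, 9469952]

/-! ### Moving hexads and quartets -/

theorem hexad_smul (g : ↥M24) {d h : Finset GolayPt} (hh : h ∈ hexadsOn d) :
    g • h ∈ hexadsOn (g • d) := by
  obtain ⟨hc, o, ho, rfl⟩ := hh
  exact ⟨by rw [Finset.card_smul_finset]; exact hc, g • o, smul_octad g ho,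
    (Finset.smul_finset_inter).symm⟩

theorem quartet_smul (g : ↥M24) {d : Finset GolayPt} {Q : Finset (Finset GolayPt)}
    (hQ : Q ∈ quartets d) : g • Q ∈ quartets (g • d) := by
  refine ⟨by rw [Finset.card_smul_finset]; exact hQ.1, fun u hu => ?_, fun u hu v hv hne => ?_⟩
  · obtain ⟨t, ht, rfl⟩ := smul_mem_fam hu
    exact ⟨by rw [Finset.card_smul_finset]; exact (hQ.2.1 t ht).1,
      Finset.smul_finset_subset_smul_finset (hQ.2.1 t ht).2⟩
  · obtain ⟨t, ht, rfl⟩ := smul_mem_fam hu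
    obtain ⟨t', ht', rfl⟩ := smul_mem_fam hv
    rw [← Finset.smul_finset_union]
    exact hexad_smul g (hQ.2.2 t ht t' ht' fun e => hne (by rw [e]))

theorem quartet_smul_iff (g : ↥M24) {d : Finset GolayPt} {Q : Finset (Finset GolayPt)} :
    g • Q ∈ quartets (g • d) ↔ Q ∈ quartets d := by
  refine ⟨fun h => ?_, quartet_smul g⟩
  simpa only [inv_smul_smul] using quartet_smul g⁻¹ h

theorem quartets_finite (d : Finset GolayPt) : (quartets d).Finite :=
  (Set.toFinite (Set.univ : Set (Finset (Finset GolayPt)))).subset (Set.subset_univ _)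

/-! ### The hexads of the base dodecad -/

theorem hex_checks :
    ((codeCands 8 fun m => popCount (m &&& dMask) == 6).map (· &&& dMask)).all
        QuartetData.hexes.contains = true ∧
      QuartetData.hexes.all
        (((codeCands 8 fun m => popCount (m &&& dMask) == 6).map (· &&& dMask)).contains) = true ∧
      QuartetData.hexes.all (fun m => decide (m < 2 ^ 24)) = true := by decide +kernel

theorem mem_hexadsOn {h : Finset GolayPt} :
    h ∈ hexadsOn d₀ ↔ ∃ m ∈ QuartetData.hexes, ptsOf m = h := by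
  constructor
  · rintro ⟨hc, o, ho, rfl⟩
    obtain ⟨hcode, h8⟩ := mem_octads_iff.mp ho
    obtain ⟨m, hm, rfl⟩ := exists_codeCands hcode h8 (b := fun m => popCount (m &&& dMask) == 6)
      fun m e => by
        subst e
        rw [d₀, ← ptsOf_land, card_ptsOf] at hc
        simp [dMask, hc]
    refine ⟨m &&& dMask, List.contains_iff_mem.mp
      (List.all_eq_true.mp hex_checks.1 _ (List.mem_map_of_mem hm)), ?_⟩
    rw [ptsOf_land]; rfl
  · rintro ⟨m, hm, rfl⟩
    obtain ⟨o, ho, rfl⟩ :=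
      List.mem_map.mp (List.contains_iff_mem.mp (List.all_eq_true.mp hex_checks.2.1 m hm))
    obtain ⟨hcode, hb⟩ := List.mem_filter.mp ho
    rw [Bool.and_eq_true, beq_iff_eq, beq_iff_eq] at hb
    exact ⟨by rw [card_ptsOf]; exact hb.2, ptsOf o,
      mem_octads_iff.mpr ⟨isCodeSet_iff_mem.mpr ⟨o, hcode, rfl⟩, by rw [card_ptsOf]; exact hb.1⟩,
      (ptsOf_land _ _).symm⟩

theorem hexes_lt {m : ℕ} (hm : m ∈ QuartetData.hexes) : m < 2 ^ 24 :=
  of_decide_eq_true (List.all_eq_true.mp hex_checks.2.2 m hm)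

/-- The masks of the triples uniting with the base triple to hexads. -/
def partners : List ℕ := (QuartetData.hexes.filter fun m => m &&& 7 == 7).map (· ^^^ 7)

theorem partners_lt {a : ℕ} (ha : a ∈ partners) : a < 2 ^ 24 := by
  obtain ⟨m, hm, rfl⟩ := List.mem_map.mp ha
  exact Nat.xor_lt_two_pow (hexes_lt (List.mem_of_mem_filter hm)) (by norm_num)

theorem exists_partner {u : Finset GolayPt} (hu : u.card = 3) (h : t₀ ∪ u ∈ hexadsOn d₀) :
    ∃ a ∈ partners, ptsOf a = u := by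
  obtain ⟨m, hm, e⟩ := mem_hexadsOn.mp h
  have hd : Disjoint t₀ u := by
    rw [← Finset.card_union_eq_card_add_card, h.1, hu, t₀, card_ptsOf]
    decide +kernel
  refine ⟨m ^^^ 7, List.mem_map.mpr ⟨m, List.mem_filter.mpr ⟨hm, ?_⟩, rfl⟩, ?_⟩
  · rw [beq_iff_eq]
    refine ptsOf_injective (lt_of_le_of_lt Nat.and_le_right (by norm_num)) (by norm_num) ?_
    rw [ptsOf_land, e]
    exact Finset.union_inter_cancel_left
  · rw [ptsOf_xor, e]
    ext p
    have : p ∈ t₀ → p ∉ u := fun h => Finset.disjoint_left.mp hd h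
    simp only [Finset.mem_symmDiff, Finset.mem_union, t₀] at this ⊢
    tauto

/-! ### The quartets through the base triple -/

/-- Membership in a list, of a pair uniting to a hexad. -/
def hexPair (a b : ℕ) : Bool := QuartetData.hexes.contains (a ||| b)

theorem triple_checks :
    (partners.all fun a => partners.all fun b => !hexPair a b || partners.all fun f =>
      !(hexPair a f) || !(hexPair b f) ||
        QuartetData.atTriple.any fun L =>
          ([7, a, b, f].all L.contains && L.all [7, a, b, f].contains)) = true ∧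
    (QuartetData.atTriple.all fun L => canonFam L && L.length == 4 && L.contains 7 &&
      (L.all fun a => popCount a == 3 && a &&& dMask == a) &&
      L.all fun a => L.all fun b => a == b || hexPair a b) = true ∧
    (partners.all fun a => (QuartetData.atTriple.filter fun L => L.contains a).length == 1) = true ∧
    QuartetData.atTriple.length = 4 ∧
    distinctOk canonFam (hashFam QuartetData.hashMult QuartetData.hashSize)
      QuartetData.atTriple = true := by
  decide +kernel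

theorem atTriple_mem {L : List ℕ} (hL : L ∈ QuartetData.atTriple) :
    famOf L ∈ quartets d₀ ∧ t₀ ∈ famOf L := by
  have h := List.all_eq_true.mp triple_checks.2.1 L hL
  simp only [Bool.and_eq_true, beq_iff_eq, List.all_eq_true, List.contains_iff_mem,
    Bool.or_eq_true] at h
  obtain ⟨⟨⟨⟨hcanon, hlen⟩, h7⟩, hsub⟩, hpair⟩ := h
  obtain ⟨hp, hlt⟩ := canonFam_spec hcanon
  refine ⟨⟨?_, fun u hu => ?_, fun u hu v hv hne => ?_⟩, mem_famOf.mpr ⟨7, h7, rfl⟩⟩
  · rw [famOf, List.toFinset_card_of_nodup (hp.nodup.map_on fun x hx y hy e =>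
      ptsOf_injective (hlt x hx) (hlt y hy) e), List.length_map, hlen]
  · obtain ⟨m, hm, rfl⟩ := mem_famOf.mp hu
    refine ⟨by rw [card_ptsOf]; exact (hsub m hm).1, ?_⟩
    rw [← (hsub m hm).2, ptsOf_land]
    exact Finset.inter_subset_right
  · obtain ⟨a, ha, rfl⟩ := mem_famOf.mp hu
    obtain ⟨b, hb, rfl⟩ := mem_famOf.mp hv
    rcases hpair a ha b hb with e | e
    · exact absurd (by rw [e]) hne
    · exact mem_hexadsOn.mpr ⟨_, List.contains_iff_mem.mp e, ptsOf_lor a b⟩

theorem eq_atTriple {Q : Finset (Finset GolayPt)} (hQ : Q ∈ quartets d₀) (ht : t₀ ∈ Q) :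
    ∃ L ∈ QuartetData.atTriple, famOf L = Q := by
  obtain ⟨u, v, w, huv, huw, hvw, he⟩ := Finset.card_eq_three.mp
    (show (Q.erase t₀).card = 3 by rw [Finset.card_erase_of_mem ht, hQ.1])
  have hQe : Q = {t₀, u, v, w} := by rw [← Finset.insert_erase ht, he]
  have hin : ∀ x ∈ Q.erase t₀, x ∈ Q ∧ ∃ a ∈ partners, ptsOf a = x := fun x hx => by
    obtain ⟨hne, hxQ⟩ := Finset.mem_erase.mp hx
    exact ⟨hxQ, exists_partner (hQ.2.1 x hxQ).1 (hQ.2.2 t₀ ht x hxQ hne.symm)⟩
  obtain ⟨huQ, a, ha, rfl⟩ := hin u (by rw [he]; simp)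
  obtain ⟨hvQ, b, hb, rfl⟩ := hin v (by rw [he]; simp)
  obtain ⟨hwQ, f, hf, rfl⟩ := hin w (by rw [he]; simp)
  have hp : ∀ x y : ℕ, x ∈ partners → y ∈ partners → ptsOf x ∈ Q → ptsOf y ∈ Q →
      ptsOf x ≠ ptsOf y → hexPair x y = true := by
    intro x y hx hy hxQ hyQ hne
    obtain ⟨m, hm, e⟩ := mem_hexadsOn.mp (hQ.2.2 _ hxQ _ hyQ hne)
    refine List.contains_iff_mem.mpr ?_
    rw [← ptsOf_injective (hexes_lt hm) (Nat.or_lt_two_pow (partners_lt hx) (partners_lt hy))
      (by rw [e, ptsOf_lor])]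
    exact hm
  have hc := List.all_eq_true.mp (List.all_eq_true.mp triple_checks.1 a ha) b hb
  rw [hp a b ha hb huQ hvQ huv, Bool.not_true, Bool.false_or] at hc
  have hc := List.all_eq_true.mp hc f hf
  rw [hp a f ha hf huQ hwQ huw, hp b f hb hf hvQ hwQ hvw, Bool.not_true, Bool.false_or,
    Bool.false_or] at hc
  simp only [List.any_eq_true, Bool.and_eq_true, List.all_eq_true, List.contains_iff_mem] at hc
  obtain ⟨L, hL, h1, h2⟩ := hc
  refine ⟨L, hL, ?_⟩
  have : famOf L = famOf [7, a, b, f] := by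
    ext s
    simp only [mem_famOf]
    exact ⟨fun ⟨m, hm, e⟩ => ⟨m, h2 m hm, e⟩, fun ⟨m, hm, e⟩ => ⟨m, h1 m hm, e⟩⟩
  rw [this, hQe, famOf]
  simp [t₀]

/-- Two adjacent triples of the base dodecad lie in exactly one quartet. -/
theorem existsUnique_base {u : Finset GolayPt} (hu : u.card = 3) (h : t₀ ∪ u ∈ hexadsOn d₀) :
    ∃! Q : Finset (Finset GolayPt), Q ∈ quartets d₀ ∧ t₀ ∈ Q ∧ u ∈ Q := by
  obtain ⟨a, ha, rfl⟩ := exists_partner hu h
  obtain ⟨L, hone⟩ := List.length_eq_one_iff.mp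
    (beq_iff_eq.mp (List.all_eq_true.mp triple_checks.2.2.1 a ha))
  have hiff : ∀ M, (M ∈ QuartetData.atTriple ∧ M.contains a = true) ↔ M = L := fun M => by
    rw [← List.mem_singleton (a := M) (b := L), ← hone, List.mem_filter]
  obtain ⟨hL, haL⟩ := (hiff L).mpr rfl
  obtain ⟨q1, q2⟩ := atTriple_mem hL
  refine ⟨famOf L, ⟨q1, q2, mem_famOf.mpr ⟨a, List.contains_iff_mem.mp haL, rfl⟩⟩, ?_⟩
  rintro Q ⟨hQ, ht, huQ⟩
  obtain ⟨M, hM, rfl⟩ := eq_atTriple hQ ht
  obtain ⟨m, hm, e⟩ := mem_famOf.mp huQ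
  have hcanon : canonFam M = true := by
    have := List.all_eq_true.mp triple_checks.2.1 M hM
    simp only [Bool.and_eq_true] at this
    exact this.1.1.1.1
  have := ptsOf_injective ((canonFam_spec hcanon).2 m hm) (partners_lt ha) e
  rw [(hiff M).mp ⟨hM, List.contains_iff_mem.mpr (this ▸ hm)⟩]

theorem ncard_atBase : {Q | Q ∈ quartets d₀ ∧ t₀ ∈ Q}.ncard = 4 := by
  classical
  have e : {Q | Q ∈ quartets d₀ ∧ t₀ ∈ Q}
      = ((QuartetData.atTriple.map famOf).toFinset : Set (Finset (Finset GolayPt))) := by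
    ext Q
    simp only [Set.mem_ofPred_eq, Finset.mem_coe, List.mem_toFinset, List.mem_map]
    exact ⟨fun h => eq_atTriple h.1 h.2, fun ⟨L, hL, e⟩ => e ▸ atTriple_mem hL⟩
  rw [e, Set.ncard_coe_finset,
    List.toFinset_card_of_nodup (nodup_fam _ triple_checks.2.2.2.2), List.length_map,
    triple_checks.2.2.2.1]

/-! ### An arbitrary dodecad -/

theorem to_base {d : Finset GolayPt} (hd : d ∈ dodecads) {t : Finset GolayPt} (ht : t.card = 3)
    (htd : t ⊆ d) : ∃ g : ↥M24, g • d = d₀ ∧ g • t = t₀ := by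
  obtain ⟨p, q, r, hpq, hpr, hqr, rfl⟩ := Finset.card_eq_three.mp ht
  obtain ⟨g, gd, gp, gq, gr⟩ := DodecadPoints.to_triple hd (htd (by simp)) (htd (by simp))
    (htd (by simp)) hpq hpr hqr
  refine ⟨g, gd, ?_⟩
  rw [Finset.smul_finset_insert, Finset.smul_finset_insert, Finset.smul_finset_singleton, gp, gq,
    gr, t₀_eq]

theorem hexad_subset {d h : Finset GolayPt} (hh : h ∈ hexadsOn d) : h ⊆ d := by
  obtain ⟨-, o, -, rfl⟩ := hh
  exact Finset.inter_subset_right

/-- Two adjacent triples lie in exactly one quartet. -/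
theorem existsUnique_quartet {d : Finset GolayPt} (hd : d ∈ dodecads) {t u : Finset GolayPt}
    (ht : t.card = 3) (hu : u.card = 3) (h : t ∪ u ∈ hexadsOn d) :
    ∃! Q : Finset (Finset GolayPt), Q ∈ quartets d ∧ t ∈ Q ∧ u ∈ Q := by
  obtain ⟨g, gd, gt⟩ := to_base hd ht (Finset.union_subset_left (hexad_subset h))
  obtain ⟨Q, ⟨hQ, h1, h2⟩, huniq⟩ := existsUnique_base (u := g • u)
    (by rw [Finset.card_smul_finset, hu])
    (by rw [← gt, ← gd, ← Finset.smul_finset_union]; exact hexad_smul g h)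
  have back : ∀ R : Finset (Finset GolayPt), (R ∈ quartets d ∧ t ∈ R ∧ u ∈ R) ↔
      (g • R ∈ quartets d₀ ∧ t₀ ∈ g • R ∧ g • u ∈ g • R) := fun R => by
    rw [← gd, quartet_smul_iff, ← gt, Finset.smul_mem_smul_finset_iff,
      Finset.smul_mem_smul_finset_iff]
  refine ⟨g⁻¹ • Q, (back _).mpr ?_, fun R hR => ?_⟩
  · rw [smul_inv_smul]; exact ⟨hQ, h1, h2⟩
  · rw [← huniq (g • R) ((back R).mp hR), inv_smul_smul]

theorem ncard_at {d : Finset GolayPt} (hd : d ∈ dodecads) {t : Finset GolayPt}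
    (ht : t ∈ d.powersetCard 3) : {Q | Q ∈ quartets d ∧ t ∈ Q}.ncard = 4 := by
  obtain ⟨htd, htc⟩ := Finset.mem_powersetCard.mp ht
  obtain ⟨g, gd, gt⟩ := to_base hd htc htd
  have e : (fun Q => g • Q) '' {Q | Q ∈ quartets d ∧ t ∈ Q} = {Q | Q ∈ quartets d₀ ∧ t₀ ∈ Q} := by
    ext R
    simp only [Set.mem_image, Set.mem_ofPred_eq]
    constructor
    · rintro ⟨Q, ⟨h1, h2⟩, rfl⟩
      exact ⟨gd ▸ quartet_smul g h1, gt ▸ Finset.smul_mem_smul_finset h2⟩
    · rintro ⟨h1, h2⟩
      refine ⟨g⁻¹ • R, ⟨?_, ?_⟩, smul_inv_smul g R⟩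
      · rw [← quartet_smul_iff g, smul_inv_smul, gd]; exact h1
      · rw [← Finset.smul_mem_smul_finset_iff g, smul_inv_smul, gt]; exact h2
  rw [← Set.ncard_image_of_injective _ (MulAction.injective g), e, ncard_atBase]

theorem ncard_quartets {d : Finset GolayPt} (hd : d ∈ dodecads) : (quartets d).ncard = 220 := by
  classical
  obtain ⟨Qs, hQs⟩ := (quartets_finite d).exists_finset_coe
  have hmem : ∀ Q, Q ∈ Qs ↔ Q ∈ quartets d := fun Q => by rw [← Finset.mem_coe, hQs]
  have key := Finset.card_mul_eq_card_mul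
    (fun (t : Finset GolayPt) (Q : Finset (Finset GolayPt)) => t ∈ Q)
    (s := d.powersetCard 3) (t := Qs) (m := 4) (n := 4) ?_ ?_
  · rw [Finset.card_powersetCard, (mem_dodecads_iff.mp hd).2] at key
    rw [← hQs, Set.ncard_coe_finset]
    have : Nat.choose 12 3 = 220 := by decide
    omega
  · intro t ht
    rw [← ncard_at hd ht, ← Set.ncard_coe_finset]
    congr 1
    ext Q
    simp [Finset.bipartiteAbove, hmem]
  · intro Q hQ
    have hQ' := (hmem Q).mp hQ
    rw [← hQ'.1]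
    congr 1
    ext t
    simp only [Finset.bipartiteBelow, Finset.mem_filter, Finset.mem_powersetCard]
    exact ⟨fun h => h.2, fun h => ⟨⟨(hQ'.2.1 t h).2, (hQ'.2.1 t h).1⟩, h⟩⟩

/-! ### Transitivity on quartets -/

/-- Image lists fixing the base dodecad and the listed masks. -/
def fixesOk (L : List (List ℕ)) (ms : List ℕ) : Bool :=
  L.all fun a => inM24 a && (dMask :: ms).all fun m => imageMask a m == m

theorem fixesOk_valid {L : List (List ℕ)} {ms : List ℕ} (h : fixesOk L ms = true) :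
    ∀ a ∈ L, inM24 a = true := fun a ha => by
  have := List.all_eq_true.mp h a ha
  rw [Bool.and_eq_true] at this
  exact this.1

theorem fixesOk_smul {L : List (List ℕ)} {ms : List ℕ} (h : fixesOk L ms = true) {a : List ℕ}
    (ha : a ∈ L) {m : ℕ} (hm : m ∈ dMask :: ms) : StabCert.rho a • ptsOf m = ptsOf m := by
  have := List.all_eq_true.mp h a ha
  rw [Bool.and_eq_true, List.all_eq_true] at this
  rw [Subgroup.smul_def, rho_val this.1, toPerm_smul_ptsOf (inM24.valid this.1),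
    beq_iff_eq.mp (this.2 m hm)]

theorem triple_tree :
    fixesOk QuartetData.tripleGens [7] = true ∧
    famCoding.treeOk QuartetData.tripleGens [7, 4232, 786464, 9469952]
      QuartetData.atTripleTree = true ∧
    QuartetData.atTriple.all ([7, 4232, 786464, 9469952] :: QuartetData.atTripleTree.nodes).contains
      = true := by
  decide +kernel

theorem to_Q₀ {d : Finset GolayPt} (hd : d ∈ dodecads) {Q : Finset (Finset GolayPt)}
    (hQ : Q ∈ quartets d) : ∃ g : ↥M24, g • d = d₀ ∧ g • Q = Q₀ := by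
  obtain ⟨t, ht⟩ := Finset.card_pos.mp (show 0 < Q.card by rw [hQ.1]; norm_num)
  obtain ⟨g, gd, gt⟩ := to_base hd (hQ.2.1 t ht).1 (hQ.2.1 t ht).2
  obtain ⟨L, hL, e⟩ := eq_atTriple (gd ▸ quartet_smul g hQ) (gt ▸ Finset.smul_mem_smul_finset ht)
  obtain ⟨h1, h2, h3⟩ := triple_tree
  have hmem := List.contains_iff_mem.mp (List.all_eq_true.mp h3 L hL)
  have key : ∃ h ∈ MulAction.stabilizer ↥M24 d₀, h • Q₀ = famOf L := by
    rcases List.mem_cons.mp hmem with rfl | hn
    · exact ⟨1, one_mem _, one_smul _ _⟩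
    · exact famCoding.treeOk_mem _ (fixesOk_valid h1) (MulAction.stabilizer ↥M24 d₀)
        (fun a ha => fixesOk_smul h1 ha List.mem_cons_self) _ _ h2 L hn
  obtain ⟨h, hh, e'⟩ := key
  refine ⟨h⁻¹ * g, ?_, ?_⟩
  · rw [mul_smul, gd, inv_smul_eq_iff]
    exact (MulAction.mem_stabilizer_iff.mp hh).symm
  · rw [mul_smul, ← e, ← e', inv_smul_smul]

theorem quartets_transitive {d : Finset GolayPt} (hd : d ∈ dodecads)
    {Q Q' : Finset (Finset GolayPt)} (hQ : Q ∈ quartets d) (hQ' : Q' ∈ quartets d) :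
    ∃ g : ↥M24, g • d = d ∧ g • Q = Q' := by
  obtain ⟨g, g1, g2⟩ := to_Q₀ hd hQ
  obtain ⟨k, k1, k2⟩ := to_Q₀ hd hQ'
  exact ⟨k⁻¹ * g, by rw [mul_smul, g1, inv_smul_eq_iff, k1],
    by rw [mul_smul, g2, inv_smul_eq_iff, k2]⟩

theorem Q₀_mem : Q₀ ∈ quartets d₀ :=
  (atTriple_mem (L := [7, 4232, 786464, 9469952]) (by decide +kernel)).1

theorem card_stab_quartet {d : Finset GolayPt} (hd : d ∈ dodecads)
    {Q : Finset (Finset GolayPt)} (hQ : Q ∈ quartets d) :
    Nat.card ↥(MulAction.stabilizer ↥M24 d ⊓ MulAction.stabilizer ↥M24 Q) = 432 := by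
  have h := DodecadPoints.card_inf_stabilizer_mul (MulAction.stabilizer ↥M24 d) Q (quartets d)
    (fun g hg => by
      have := quartet_smul g hQ
      rwa [MulAction.mem_stabilizer_iff.mp hg] at this)
    (fun R hR => by
      obtain ⟨g, g1, g2⟩ := quartets_transitive hd hQ hR
      exact ⟨g, g1, g2⟩)
  rw [ncard_quartets hd, DodecadPoints.card_stab_dodecad hd] at h
  omega

end Cfsg.Agent.Lib.Golay.Quartets
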