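/-
The orbits of a quartet stabiliser on the quartets of its dodecad.
-/
import Cfsg.Agent.Lib.Golay.Quartets

set_option autoImplicit false

namespace Cfsg.Agent.Lib.Golay.QuartetOrbits

open Cfsg
open scoped Pointwise
open Cfsg.Agent.Lib.Orbit
open Cfsg.Agent.Lib.Golay.StabCert
open Cfsg.Agent.Lib.Golay.Quartets
open Cfsg.Agent.Lib.Golay.DodecadPoints (d₀ d₀_mem)

theorem rho_stab {a : List ℕ} (h : (inM24 a && imageMask a dMask == dMask) = true) :
    StabCert.rho a ∈ MulAction.stabilizer ↥M24 d₀ := by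
  rw [Bool.and_eq_true, beq_iff_eq] at h
  rw [MulAction.mem_stabilizer_iff, d₀, Subgroup.smul_def, rho_val h.1,
    toPerm_smul_ptsOf (inM24.valid h.1), h.2]

/-- Families of point sets under the stabiliser of the base dodecad. -/
noncomputable def subCoding :
    Coding ↥(MulAction.stabilizer ↥M24 d₀) (Finset (Finset GolayPt)) (List ℕ) (List ℕ) where
  den := famOf
  rho := fun a =>
    if h : (inM24 a && imageMask a dMask == dMask) = true then ⟨StabCert.rho a, rho_stab h⟩ else 1
  move := fun l L => L.map (imageMask l)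
  valid := fun a => inM24 a && imageMask a dMask == dMask
  eqv := famCoding.eqv
  eqv_sound := famCoding.eqv_sound
  move_den := fun l L h => by
    rw [dif_pos h, Subgroup.smul_def]
    exact famCoding.move_den l L ((Bool.and_eq_true _ _ ▸ h :).1)

theorem checks :
    subCoding.gensFix QuartetData.gens [7, 4232, 786464, 9469952] = true ∧
    subCoding.orbsOk QuartetData.gens QuartetData.orbits = true ∧
    distinctOk canonFam (hashFam QuartetData.hashMult QuartetData.hashSize)
      (QuartetData.orbits.flatMap Coding.orbCodes) = true ∧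
    (QuartetData.orbits.flatMap Coding.orbCodes).length = 220 ∧
    (QuartetData.orbits.map fun o => meetProfileCode [7, 4232, 786464, 9469952] o.1 0)
      = [12, 6, 8, 7, 5] ∧
    (QuartetData.orbits.map fun o => (Coding.orbCodes o).length) = [1, 12, 27, 72, 108] ∧
    (QuartetData.orbits.all fun o => canonFam o.1 && o.1.length == 4 &&
      (o.1.all fun a => popCount a == 3 && a &&& dMask == a) &&
      o.1.all fun a => o.1.all fun b => a == b || hexPair a b) = true ∧
    canonFam [7, 4232, 786464, 9469952] = true ∧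
    QuartetData.orbits.head?.map Prod.fst = some [7, 4232, 786464, 9469952] := by
  decide +kernel

theorem root_mem {o : List ℕ × OrbTree (List ℕ)} (ho : o ∈ QuartetData.orbits) :
    famOf o.1 ∈ quartets d₀ := by
  have h := List.all_eq_true.mp checks.2.2.2.2.2.2.1 o ho
  simp only [Bool.and_eq_true, beq_iff_eq, List.all_eq_true, Bool.or_eq_true] at h
  obtain ⟨⟨⟨hcanon, hlen⟩, hsub⟩, hpair⟩ := h
  obtain ⟨hp, hlt⟩ := canonFam_spec hcanon
  refine ⟨?_, fun u hu => ?_, fun u hu v hv hne => ?_⟩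
  · rw [famOf, List.toFinset_card_of_nodup (hp.nodup.map_on fun x hx y hy e =>
      ptsOf_injective (hlt x hx) (hlt y hy) e), List.length_map, hlen]
  · obtain ⟨m, hm, rfl⟩ := mem_famOf.mp hu
    refine ⟨by rw [card_ptsOf]; exact (hsub m hm).1, ?_⟩
    rw [← (hsub m hm).2, ptsOf_land]
    exact Finset.inter_subset_right
  · obtain ⟨a, ha, rfl⟩ := mem_famOf.mp hu
    obtain ⟨b, hb, rfl⟩ := mem_famOf.mp hv
    rcases hpair a ha b hb with e | e
    · exact absurd (by rw [e]) hne
    · exact mem_hexadsOn.mpr ⟨_, List.contains_iff_mem.mp e, ptsOf_lor a b⟩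

theorem decomp : subCoding.Decomp (quartets d₀) QuartetData.gens [7, 4232, 786464, 9469952]
    QuartetData.orbits where
  fix := checks.1
  ok := checks.2.1
  inv := fun g x hx => by
    have := quartet_smul g.1 hx
    rwa [MulAction.mem_stabilizer_iff.mp g.2] at this
  roots := fun o ho => root_mem ho
  nodup := nodup_fam _ checks.2.2.1
  count := by rw [ncard_quartets d₀_mem, checks.2.2.2.1]
  fin := quartets_finite _

theorem den_eq (L : List ℕ) : subCoding.den L = famOf L := rfl

theorem orbit_base (X : Finset (Finset GolayPt)) :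
    MulAction.orbit ↥(MulAction.stabilizer ↥M24 d₀ ⊓ MulAction.stabilizer ↥M24 Q₀) X =
      MulAction.orbit (MulAction.stabilizer ↥(MulAction.stabilizer ↥M24 d₀)
        (subCoding.den [7, 4232, 786464, 9469952])) X := by
  ext Y
  constructor
  · rintro ⟨g, rfl⟩
    obtain ⟨h1, h2⟩ := Subgroup.mem_inf.mp g.2
    exact ⟨⟨⟨g.1, h1⟩, MulAction.mem_stabilizer_iff.mp h2⟩, rfl⟩
  · rintro ⟨g, rfl⟩
    exact ⟨⟨g.1.1, Subgroup.mem_inf.mpr ⟨g.1.2, g.2⟩⟩, rfl⟩

theorem orbit_transfer {g : ↥M24} {d : Finset GolayPt} {Q : Finset (Finset GolayPt)}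
    (gd : g • d = d₀) (gQ : g • Q = Q₀) (X : Finset (Finset GolayPt)) :
    MulAction.orbit ↥(MulAction.stabilizer ↥M24 d ⊓ MulAction.stabilizer ↥M24 Q) (g⁻¹ • X) =
      g⁻¹ • MulAction.orbit ↥(MulAction.stabilizer ↥M24 d₀ ⊓ MulAction.stabilizer ↥M24 Q₀) X := by
  ext Z
  rw [Set.mem_smul_set_iff_inv_smul_mem, inv_inv]
  constructor
  · rintro ⟨⟨h, hh⟩, rfl⟩
    obtain ⟨h1, h2⟩ := Subgroup.mem_inf.mp hh
    refine ⟨⟨g * h * g⁻¹, Subgroup.mem_inf.mpr ⟨?_, ?_⟩⟩, ?_⟩
    · rw [MulAction.mem_stabilizer_iff, ← gd, mul_smul, mul_smul, inv_smul_smul,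
        MulAction.mem_stabilizer_iff.mp h1]
    · rw [MulAction.mem_stabilizer_iff, ← gQ, mul_smul, mul_smul, inv_smul_smul,
        MulAction.mem_stabilizer_iff.mp h2]
    · show (g * h * g⁻¹) • X = g • h • g⁻¹ • X
      rw [mul_smul, mul_smul]
  · rintro ⟨⟨h, hh⟩, e⟩
    obtain ⟨h1, h2⟩ := Subgroup.mem_inf.mp hh
    refine ⟨⟨g⁻¹ * h * g, Subgroup.mem_inf.mpr ⟨?_, ?_⟩⟩, ?_⟩
    · rw [MulAction.mem_stabilizer_iff, mul_smul, mul_smul, gd,
        MulAction.mem_stabilizer_iff.mp h1, ← gd, inv_smul_smul]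
    · rw [MulAction.mem_stabilizer_iff, mul_smul, mul_smul, gQ,
        MulAction.mem_stabilizer_iff.mp h2, ← gQ, inv_smul_smul]
    · show (g⁻¹ * h * g) • g⁻¹ • X = Z
      rw [mul_smul, mul_smul, smul_inv_smul, show h • X = g • Z from e, inv_smul_smul]

theorem orbit_shapes {d : Finset GolayPt} (hd : d ∈ dodecads) {Q : Finset (Finset GolayPt)}
    (hQ : Q ∈ quartets d) :
    ∃ X₁ ∈ quartets d, ∃ X₂ ∈ quartets d, ∃ X₃ ∈ quartets d, ∃ X₄ ∈ quartets d,
      (MulAction.orbit ↥(MulAction.stabilizer M24 d ⊓ MulAction.stabilizer M24 Q) X₁).ncard = 12 ∧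
      (MulAction.orbit ↥(MulAction.stabilizer M24 d ⊓ MulAction.stabilizer M24 Q) X₂).ncard = 27 ∧
      (MulAction.orbit ↥(MulAction.stabilizer M24 d ⊓ MulAction.stabilizer M24 Q) X₃).ncard = 72 ∧
      (MulAction.orbit ↥(MulAction.stabilizer M24 d ⊓ MulAction.stabilizer M24 Q) X₄).ncard = 108 ∧
      quartets d = {Q} ∪
        MulAction.orbit ↥(MulAction.stabilizer M24 d ⊓ MulAction.stabilizer M24 Q) X₁ ∪
        MulAction.orbit ↥(MulAction.stabilizer M24 d ⊓ MulAction.stabilizer M24 Q) X₂ ∪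
        MulAction.orbit ↥(MulAction.stabilizer M24 d ⊓ MulAction.stabilizer M24 Q) X₃ ∪
        MulAction.orbit ↥(MulAction.stabilizer M24 d ⊓ MulAction.stabilizer M24 Q) X₄ := by
  obtain ⟨g, gd, gQ⟩ := to_Q₀ hd hQ
  obtain ⟨o0, o1, o2, o3, o4, hos⟩ : ∃ o0 o1 o2 o3 o4, QuartetData.orbits = [o0, o1, o2, o3, o4] :=
    ⟨_, _, _, _, _, rfl⟩
  have hlen := checks.2.2.2.2.2.1
  rw [hos] at hlen
  simp only [List.map_cons, List.map_nil, List.cons.injEq, and_true] at hlen
  obtain ⟨-, l1, l2, l3, l4⟩ := hlen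
  have h0 : o0.1 = [7, 4232, 786464, 9469952] := by
    simpa [hos] using checks.2.2.2.2.2.2.2.2
  set inv : Finset (Finset GolayPt) → ℕ := fun x => meetProfile Q₀ x 0
  have hinv : ∀ h : ↥(MulAction.stabilizer ↥M24 d₀),
      h • subCoding.den [7, 4232, 786464, 9469952] = subCoding.den [7, 4232, 786464, 9469952] →
      ∀ x, inv (h • x) = inv x := fun h hh x => by
    show meetProfile Q₀ (h.1 • x) 0 = meetProfile Q₀ x 0
    conv_lhs => rw [show Q₀ = h.1 • Q₀ from hh.symm]
    exact meetProfile_smul _ _ _ _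
  have hsep : (QuartetData.orbits.map fun o => inv (subCoding.den o.1)).Nodup := by
    rw [List.map_congr_left (g := fun o => meetProfileCode [7, 4232, 786464, 9469952] o.1 0)
      (fun o ho => ?_), checks.2.2.2.2.1]
    · decide
    · have := List.all_eq_true.mp checks.2.2.2.2.2.2.1 o ho
      simp only [Bool.and_eq_true] at this
      exact meetProfile_code checks.2.2.2.2.2.2.2.1 this.1.1.1 0
  have size : ∀ o ∈ QuartetData.orbits,
      (MulAction.orbit ↥(MulAction.stabilizer M24 d ⊓ MulAction.stabilizer M24 Q)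
        (g⁻¹ • famOf o.1)).ncard = (Coding.orbCodes o).length := fun o ho => by
    rw [orbit_transfer gd gQ, ← Set.image_smul,
      Set.ncard_image_of_injective _ (MulAction.injective _), orbit_base, ← den_eq,
      decomp.ncard_orbit inv hinv hsep ho]
  have mem : ∀ o ∈ QuartetData.orbits, g⁻¹ • famOf o.1 ∈ quartets d := fun o ho => by
    rw [← quartet_smul_iff g, smul_inv_smul, gd]
    exact root_mem ho
  have m0 : o0 ∈ QuartetData.orbits := by rw [hos]; simp
  have m1 : o1 ∈ QuartetData.orbits := by rw [hos]; simp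
  have m2 : o2 ∈ QuartetData.orbits := by rw [hos]; simp
  have m3 : o3 ∈ QuartetData.orbits := by rw [hos]; simp
  have m4 : o4 ∈ QuartetData.orbits := by rw [hos]; simp
  refine ⟨_, mem o1 m1, _, mem o2 m2, _, mem o3 m3, _, mem o4 m4, (size o1 m1).trans l1,
    (size o2 m2).trans l2, (size o3 m3).trans l3, (size o4 m4).trans l4, ?_⟩
  have hfix : ∀ h ∈ MulAction.stabilizer ↥M24 d₀ ⊓ MulAction.stabilizer ↥M24 Q₀, h • Q₀ = Q₀ :=
    fun h hh => (Subgroup.mem_inf.mp hh).2
  ext Y
  simp only [Set.mem_union, Set.mem_singleton_iff, orbit_transfer gd gQ,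
    Set.mem_smul_set_iff_inv_smul_mem, inv_inv, orbit_base]
  constructor
  · intro hY
    obtain ⟨o, ho, hmem⟩ := decomp.exists_root
      (x := g • Y) (by rw [← gd]; exact quartet_smul g hY)
    rw [den_eq] at hmem
    rw [hos] at ho
    simp only [List.mem_cons, List.not_mem_nil, or_false] at ho
    rcases ho with rfl | rfl | rfl | rfl | rfl
    · refine Or.inl (Or.inl (Or.inl (Or.inl ?_)))
      rw [h0] at hmem
      have e := Coding.mem_orbit_stabilizer hmem
      exact MulAction.injective g (e.trans gQ.symm)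
    · exact Or.inl (Or.inl (Or.inl (Or.inr hmem)))
    · exact Or.inl (Or.inl (Or.inr hmem))
    · exact Or.inl (Or.inr hmem)
    · exact Or.inr hmem
  · intro h
    have key : ∀ o ∈ QuartetData.orbits, g • Y ∈ MulAction.orbit
        (MulAction.stabilizer ↥(MulAction.stabilizer ↥M24 d₀)
          (subCoding.den [7, 4232, 786464, 9469952])) (famOf o.1) → Y ∈ quartets d := by
      intro o ho hm
      have := decomp.orbit_subset (root_mem ho) hm
      rwa [← gd, quartet_smul_iff] at this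
    rcases h with (((rfl | h) | h) | h) | h
    exacts [hQ, key o1 m1 h, key o2 m2 h, key o3 m3 h, key o4 m4 h]

end Cfsg.Agent.Lib.Golay.QuartetOrbits
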