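/-
The structure of a quartet stabiliser inside a dodecad stabiliser.
-/
import Cfsg.Agent.Lib.Golay.Quartets
import Cfsg.Agent.Lib.Golay.AffineQuotient
import Cfsg.Agent.Lib.Golay.Cert

set_option autoImplicit false

namespace Cfsg.Agent.Lib.Golay.QuartetStab

open Cfsg
open scoped Pointwise
open Cfsg.Agent.Lib.Orbit
open Cfsg.Agent.Lib.Golay.StabCert
open Cfsg.Agent.Lib.Golay.StepCert Cfsg.Agent.Lib.Golay.Normal
open Cfsg.Agent.Lib.Golay.Quartets
open Cfsg.Agent.Lib.Golay.DodecadPoints (d₀ d₀_mem)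
open Cfsg.Agent.Lib.Golay.AffineQuotient (Plane)

/-- The stabiliser of the base dodecad and the base quartet. -/
noncomputable def S₀ : Subgroup ↥M24 :=
  MulAction.stabilizer ↥M24 d₀ ⊓ MulAction.stabilizer ↥M24 Q₀

theorem card_S₀ : Nat.card ↥S₀ = 432 := card_stab_quartet d₀_mem Q₀_mem

theorem idx_rho {l : List ℕ} (h : inM24 l = true) (p : GolayPt) :
    (idx (StabCert.rho l • p)).val = applyNum l (idx p).val := by
  show (idx ((StabCert.rho l : Equiv.Perm GolayPt) p)).val = _
  rw [rho_val h, idx_toPerm (inM24.valid h)]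

theorem idx_rho_pow {l : List ℕ} (h : inM24 l = true) (n : ℕ) (p : GolayPt) :
    (idx (StabCert.rho l ^ n • p)).val = (applyNum l)^[n] (idx p).val := by
  induction n generalizing p with
  | zero => rw [pow_zero, one_smul]; rfl
  | succ n ih => rw [pow_succ, mul_smul, ih, idx_rho h, Function.iterate_succ_apply]

theorem ext_idx {g h : ↥M24} (e : ∀ i : Fin 24, (idx (g • pt i)).val = (idx (h • pt i)).val) :
    g = h := by
  refine Subtype.ext (Equiv.ext fun p => ?_)
  have := e (idx p)
  rw [pt_idx] at this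
  exact ptEquiv.injective (Fin.ext this)

/-! ### The two translations -/

local notation "tA" => StabCert.rho QuartetData.transA
local notation "tB" => StabCert.rho QuartetData.transB
local notation "A" => applyNum QuartetData.transA
local notation "B" => applyNum QuartetData.transB

theorem trans_checks :
    fixesOk [QuartetData.transA, QuartetData.transB] [7, 4232, 786464, 9469952] = true ∧
    (∀ i : Fin 24, A^[3] i.val = i.val ∧ B^[3] i.val = i.val ∧ A (B i.val) = B (A i.val)) ∧
    (∀ x y : Fin 3, A^[x.val] (B^[y.val] QuartetData.affPoint) = QuartetData.affPoint →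
      x.val = 0 ∧ y.val = 0) ∧
    (∀ i : Fin 24, A i.val ≠ i.val → B i.val ≠ i.val → A (B i.val) ≠ i.val →
      A (B (B i.val)) ≠ i.val →
      ∃ x y : Fin 3, A^[x.val] (B^[y.val] QuartetData.affPoint) = i.val) ∧
    (QuartetData.affPoint < 24 ∧ A QuartetData.affPoint ≠ QuartetData.affPoint ∧
      B QuartetData.affPoint ≠ QuartetData.affPoint ∧
      A (B QuartetData.affPoint) ≠ QuartetData.affPoint ∧
      A (B (B QuartetData.affPoint)) ≠ QuartetData.affPoint) ∧
    (∀ i ∈ QuartetData.affPoints, i < 24 ∧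
      ∃ x y : Fin 3, A^[x.val] (B^[y.val] QuartetData.affPoint) = i) ∧
    fixRun [dMask] QuartetData.affPoints QuartetData.fixing = true := by
  refine ⟨?_, ?_, ?_, ?_, ?_, ?_, ?_⟩ <;> decide +kernel

theorem valA : inM24 QuartetData.transA = true :=
  fixesOk_valid trans_checks.1 _ List.mem_cons_self

theorem valB : inM24 QuartetData.transB = true :=
  fixesOk_valid trans_checks.1 _ (List.mem_cons_of_mem _ List.mem_cons_self)

theorem tA_cube : tA ^ 3 = 1 := ext_idx fun i => by
  rw [idx_rho_pow valA, idx_pt, one_smul, idx_pt]; exact (trans_checks.2.1 i).1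

theorem tB_cube : tB ^ 3 = 1 := ext_idx fun i => by
  rw [idx_rho_pow valB, idx_pt, one_smul, idx_pt]; exact (trans_checks.2.1 i).2.1

theorem tA_comm_tB : Commute tA tB := ext_idx fun i => by
  rw [mul_smul, mul_smul, idx_rho valA, idx_rho valB, idx_rho valB, idx_rho valA, idx_pt]
  exact (trans_checks.2.1 i).2.2

/-- The translations of the affine plane. -/
noncomputable def translation : Multiplicative Plane →* ↥M24 where
  toFun v := tA ^ (v.toAdd 0).val * tB ^ (v.toAdd 1).val
  map_one' := by simp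
  map_mul' v w := by
    have hp : ∀ (g : ↥M24), g ^ 3 = 1 → ∀ x y : ZMod 3, g ^ (x + y).val = g ^ x.val * g ^ y.val :=
      fun g hg x y => by
        rw [← pow_add, ZMod.val_add]
        exact (pow_eq_pow_mod _ hg).symm
    show tA ^ ((v.toAdd + w.toAdd) 0).val * tB ^ ((v.toAdd + w.toAdd) 1).val = _
    rw [Pi.add_apply, Pi.add_apply, hp _ tA_cube, hp _ tB_cube]
    simp only [mul_assoc]
    congr 1
    rw [← mul_assoc, ← mul_assoc, (tA_comm_tB.pow_pow _ _).eq]

theorem idx_translation (x y : ℕ) (p : GolayPt) :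
    (idx ((tA ^ x * tB ^ y) • p)).val = A^[x] (B^[y] (idx p).val) := by
  rw [mul_smul, idx_rho_pow valA, idx_rho_pow valB]

theorem translation_injective : Function.Injective translation := by
  rw [injective_iff_map_eq_one]
  intro v hv
  have h := congrArg (fun g : ↥M24 => (idx (g • ptN QuartetData.affPoint)).val) hv
  simp only [one_smul] at h
  rw [show translation v = tA ^ (v.toAdd 0).val * tB ^ (v.toAdd 1).val from rfl, idx_translation,
    idx_ptN trans_checks.2.2.2.2.1.1] at h
  have := trans_checks.2.2.1 ⟨(v.toAdd 0).val, ZMod.val_lt _⟩ ⟨(v.toAdd 1).val, ZMod.val_lt _⟩ h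
  refine Multiplicative.toAdd.injective (funext fun i => ?_)
  fin_cases i
  · exact (ZMod.val_eq_zero _).mp this.1
  · exact (ZMod.val_eq_zero _).mp this.2

/-- The translations inside the quartet stabiliser. -/
theorem translation_fixes (v : Multiplicative Plane) :
    translation v • d₀ = d₀ ∧ ∀ t ∈ Q₀, translation v • t = t := by
  have key : ∀ m ∈ dMask :: [7, 4232, 786464, 9469952], translation v • ptsOf m = ptsOf m := by
    intro m hm
    have hA : tA ∈ MulAction.stabilizer ↥M24 (ptsOf m) :=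
      fixesOk_smul trans_checks.1 List.mem_cons_self hm
    have hB : tB ∈ MulAction.stabilizer ↥M24 (ptsOf m) :=
      fixesOk_smul trans_checks.1 (List.mem_cons_of_mem _ List.mem_cons_self) hm
    exact Subgroup.mul_mem _ (Subgroup.pow_mem _ hA _) (Subgroup.pow_mem _ hB _)
  refine ⟨key _ List.mem_cons_self, fun t ht => ?_⟩
  obtain ⟨m, hm, rfl⟩ := mem_famOf.mp ht
  exact key m (List.mem_cons_of_mem _ hm)

theorem smul_fam_eq {g : ↥M24} {Q : Finset (Finset GolayPt)} (h : ∀ t ∈ Q, g • t = t) :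
    g • Q = Q := by
  refine Finset.eq_of_subset_of_card_le (fun u hu => ?_) (by rw [Finset.card_smul_finset])
  obtain ⟨t, ht, rfl⟩ := smul_mem_fam hu
  rw [h t ht]; exact ht

theorem translation_mem (v : Multiplicative Plane) : translation v ∈ S₀ :=
  Subgroup.mem_inf.mpr ⟨(translation_fixes v).1, smul_fam_eq (translation_fixes v).2⟩

theorem translation_cube (v : Multiplicative Plane) : translation v ^ 3 = 1 := by
  rw [← map_pow]
  have : v ^ 3 = 1 := by
    refine Multiplicative.toAdd.injective (funext fun i => ?_)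
    show (3 • v.toAdd) i = 0
    rw [Pi.smul_apply]
    generalize v.toAdd i = z
    revert z
    decide
  rw [this, map_one]

/-! ### The kernel on the four triples -/

/-- The triples of the base quartet. -/
def tri (k : Fin 4) : Finset GolayPt := ptsOf ([7, 4232, 786464, 9469952].getD k.val 0)

theorem member_checks :
    famCoding.gensFix QuartetData.gens [7, 4232, 786464, 9469952] = true ∧
    fixesOk QuartetData.gens [] = true ∧
    fixesOk QuartetData.gensOne [7] = true ∧
    fixesOk QuartetData.gensTwo [7, 4232] = true ∧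
    famCoding.gensFix QuartetData.gensOne [7, 4232, 786464, 9469952] = true ∧
    famCoding.gensFix QuartetData.gensTwo [7, 4232, 786464, 9469952] = true ∧
    maskCoding.treeOk QuartetData.gens 7 QuartetData.memberTreeOne = true ∧
    maskCoding.treeOk QuartetData.gensOne 4232 QuartetData.memberTreeTwo = true ∧
    maskCoding.treeOk QuartetData.gensTwo 786464 QuartetData.memberTreeThree = true ∧
    [4232, 786464, 9469952].all QuartetData.memberTreeOne.nodes.contains = true ∧
    [786464, 9469952].all QuartetData.memberTreeTwo.nodes.contains = true ∧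
    [9469952].all QuartetData.memberTreeThree.nodes.contains = true ∧
    maskCoding.treeOk QuartetData.gens 1 QuartetData.pointTree = true ∧
    (pointMasks fun m => m &&& dMask != 0).all
      (1 :: QuartetData.pointTree.nodes).contains = true := by
  decide +kernel

theorem gens_mem {L : List (List ℕ)} {ms : List ℕ} (h1 : fixesOk L ms = true)
    (h2 : famCoding.gensFix L [7, 4232, 786464, 9469952] = true) :
    ∀ a ∈ L, StabCert.rho a ∈ S₀ := fun a ha =>
  Subgroup.mem_inf.mpr ⟨fixesOk_smul h1 ha List.mem_cons_self, famCoding.gensFix_mem h2 a ha⟩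

theorem member_reach {L : List (List ℕ)} {ms : List ℕ} (h1 : fixesOk L ms = true)
    (H : Subgroup ↥M24) (hH : ∀ a ∈ L, StabCert.rho a ∈ H) {r : ℕ} {t : OrbTree ℕ}
    (ht : maskCoding.treeOk L r t = true) {c : ℕ} (hc : c ∈ r :: t.nodes) :
    ∃ g ∈ H, g • ptsOf r = ptsOf c := by
  rcases List.mem_cons.mp hc with rfl | hc
  · exact ⟨1, one_mem _, one_smul _ _⟩
  · exact maskCoding.treeOk_mem L (fixesOk_valid h1) H hH t r ht c hc

/-- The elements of the quartet stabiliser fixing three of the triples. -/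
noncomputable def kern : Subgroup ↥M24 :=
  S₀ ⊓ MulAction.stabilizer ↥M24 (tri 0) ⊓ MulAction.stabilizer ↥M24 (tri 1) ⊓
    MulAction.stabilizer ↥M24 (tri 2)

theorem tri_injective : Function.Injective tri := by
  intro i j h
  have hlt : ∀ k : Fin 4, [7, 4232, 786464, 9469952].getD k.val 0 < 2 ^ 24 := by decide +kernel
  have hinj : ∀ k l : Fin 4, [7, 4232, 786464, 9469952].getD k.val 0 =
      [7, 4232, 786464, 9469952].getD l.val 0 → k = l := by decide +kernel
  exact hinj i j (ptsOf_injective (hlt i) (hlt j) h)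

theorem mem_Q₀_iff {u : Finset GolayPt} : u ∈ Q₀ ↔ ∃ k, tri k = u := by
  rw [Q₀, mem_famOf]
  constructor
  · rintro ⟨m, hm, rfl⟩
    simp only [List.mem_cons, List.not_mem_nil, or_false] at hm
    rcases hm with rfl | rfl | rfl | rfl
    exacts [⟨0, rfl⟩, ⟨1, rfl⟩, ⟨2, rfl⟩, ⟨3, rfl⟩]
  · rintro ⟨k, rfl⟩
    fin_cases k
    exacts [⟨7, by simp, rfl⟩, ⟨4232, by simp, rfl⟩, ⟨786464, by simp, rfl⟩,
      ⟨9469952, by simp, rfl⟩]

theorem card_kern : Nat.card ↥kern = 18 := by
  obtain ⟨f1, f2, f3, f4, f5, f6, t1, t2, t3, c1, c2, c3, -, -⟩ := member_checks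
  have hin : ∀ g ∈ S₀, ∀ k, ∃ l, tri l = g • tri k := fun g hg k => by
    refine mem_Q₀_iff.mp ?_
    have := Finset.smul_mem_smul_finset (a := g) (mem_Q₀_iff.mpr ⟨k, rfl⟩)
    rwa [MulAction.mem_stabilizer_iff.mp (Subgroup.mem_inf.mp hg).2] at this
  have ne : ∀ {g : ↥M24} {i k : Fin 4}, i ≠ k → g • tri i = tri i → g • tri k ≠ tri i :=
    fun hik hi e => hik (tri_injective (MulAction.injective _ (hi.trans e.symm)))
  have c1' := DodecadPoints.card_inf_stabilizer_mul S₀ (tri 0) {u | ∃ l, tri l = u}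
    (fun g hg => hin g hg 0) (fun u hu => by
      obtain ⟨l, rfl⟩ := hu
      refine member_reach f2 S₀ (gens_mem f2 f1) t1 ?_
      have := List.all_eq_true.mp c1
      fin_cases l
      · exact List.mem_cons_self
      all_goals exact List.mem_cons_of_mem _ (List.contains_iff_mem.mp (this _ (by simp))))
  have c2' := DodecadPoints.card_inf_stabilizer_mul
    (S₀ ⊓ MulAction.stabilizer ↥M24 (tri 0)) (tri 1) {u | ∃ l, l ≠ 0 ∧ tri l = u}
    (fun g hg => by
      obtain ⟨h1, h2⟩ := Subgroup.mem_inf.mp hg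
      obtain ⟨l, hl⟩ := hin g h1 1
      exact ⟨l, fun e => ne (i := 0) (k := 1) (by decide) h2 (e ▸ hl.symm), hl⟩)
    (fun u hu => by
      obtain ⟨l, hl, rfl⟩ := hu
      refine member_reach f3 _ (fun a ha => Subgroup.mem_inf.mpr ⟨gens_mem f3 f5 a ha,
        fixesOk_smul f3 ha (List.mem_cons_of_mem _ List.mem_cons_self)⟩) t2 ?_
      have := List.all_eq_true.mp c2
      fin_cases l
      · exact absurd rfl hl
      · exact List.mem_cons_self
      all_goals exact List.mem_cons_of_mem _ (List.contains_iff_mem.mp (this _ (by simp))))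
  have c3' := DodecadPoints.card_inf_stabilizer_mul
    (S₀ ⊓ MulAction.stabilizer ↥M24 (tri 0) ⊓ MulAction.stabilizer ↥M24 (tri 1)) (tri 2)
    {u | ∃ l, l ≠ 0 ∧ l ≠ 1 ∧ tri l = u}
    (fun g hg => by
      obtain ⟨⟨h1, h2⟩, h3⟩ := (Subgroup.mem_inf.mp hg).imp Subgroup.mem_inf.mp id
      obtain ⟨l, hl⟩ := hin g h1 2
      exact ⟨l, fun e => ne (i := 0) (k := 2) (by decide) h2 (e ▸ hl.symm),
        fun e => ne (i := 1) (k := 2) (by decide) h3 (e ▸ hl.symm), hl⟩)
    (fun u hu => by
      obtain ⟨l, hl, hl', rfl⟩ := hu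
      refine member_reach f4 _ (fun a ha => Subgroup.mem_inf.mpr ⟨Subgroup.mem_inf.mpr
        ⟨gens_mem f4 f6 a ha, fixesOk_smul f4 ha (List.mem_cons_of_mem _ List.mem_cons_self)⟩,
        fixesOk_smul f4 ha (List.mem_cons_of_mem _ (List.mem_cons_of_mem _ List.mem_cons_self))⟩)
        t3 ?_
      have := List.all_eq_true.mp c3
      fin_cases l
      · exact absurd rfl hl
      · exact absurd rfl hl'
      · exact List.mem_cons_self
      · exact List.mem_cons_of_mem _ (List.contains_iff_mem.mp (this _ (by simp))))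
  have cnt : ∀ (p : Fin 4 → Prop) [DecidablePred p],
      {u | ∃ l, p l ∧ tri l = u}.ncard = (Finset.univ.filter p).card := fun p _ => by
    rw [show {u | ∃ l, p l ∧ tri l = u} = tri '' {l | p l} from rfl,
      Set.ncard_image_of_injective _ tri_injective, ← Set.ncard_coe_finset]
    simp
  have e2 := cnt (fun l => l ≠ 0)
  have e3 : {u | ∃ l, l ≠ 0 ∧ l ≠ 1 ∧ tri l = u}.ncard = 2 := by
    have := cnt (fun l => l ≠ 0 ∧ l ≠ 1)
    simp only [and_assoc] at this
    rw [this]; decide
  have e1 : {u | ∃ l, tri l = u}.ncard = 4 := by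
    rw [show {u | ∃ l, tri l = u} = Set.range tri from rfl,
      Set.ncard_range_of_injective tri_injective, Nat.card_eq_fintype_card, Fintype.card_fin]
  rw [e1, card_S₀] at c1'
  rw [e2, show (Finset.univ.filter fun l : Fin 4 => l ≠ 0).card = 3 by decide] at c2'
  rw [e3] at c3'
  show Nat.card ↥(S₀ ⊓ _ ⊓ _ ⊓ MulAction.stabilizer ↥M24 (tri 2)) = 18
  omega

theorem mem_kern_iff {g : ↥M24} : g ∈ kern ↔ g • d₀ = d₀ ∧ ∀ t ∈ Q₀, g • t = t := by
  constructor
  · intro hg
    obtain ⟨h012, h2⟩ := Subgroup.mem_inf.mp hg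
    obtain ⟨h01, h1⟩ := Subgroup.mem_inf.mp h012
    obtain ⟨hS, h0⟩ := Subgroup.mem_inf.mp h01
    refine ⟨(Subgroup.mem_inf.mp hS).1, fun t ht => ?_⟩
    obtain ⟨k, rfl⟩ := mem_Q₀_iff.mp ht
    fin_cases k
    · exact h0
    · exact h1
    · exact h2
    · have := Finset.smul_mem_smul_finset (a := g) ht
      rw [MulAction.mem_stabilizer_iff.mp (Subgroup.mem_inf.mp hS).2] at this
      obtain ⟨l, hl⟩ := mem_Q₀_iff.mp this
      fin_cases l
      · exact absurd (tri_injective (MulAction.injective g (h0.trans hl))) (by decide)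
      · exact absurd (tri_injective (MulAction.injective g (h1.trans hl))) (by decide)
      · exact absurd (tri_injective (MulAction.injective g (h2.trans hl))) (by decide)
      · exact hl.symm
  · rintro ⟨hd, ht⟩
    exact Subgroup.mem_inf.mpr ⟨Subgroup.mem_inf.mpr ⟨Subgroup.mem_inf.mpr
      ⟨Subgroup.mem_inf.mpr ⟨hd, smul_fam_eq ht⟩, ht _ (mem_Q₀_iff.mpr ⟨0, rfl⟩)⟩,
      ht _ (mem_Q₀_iff.mpr ⟨1, rfl⟩)⟩, ht _ (mem_Q₀_iff.mpr ⟨2, rfl⟩)⟩

/-- A conjugate of a translation is a translation. -/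
theorem conj_translation {s : ↥M24} (hs : s ∈ S₀) (v : Multiplicative Plane) :
    s * translation v * s⁻¹ ∈ translation.range := by
  have hx : s * translation v * s⁻¹ ∈ kern := by
    refine mem_kern_iff.mpr ⟨?_, fun t ht => ?_⟩
    · rw [mul_smul, mul_smul, MulAction.mem_stabilizer_iff.mp
        ((Subgroup.inv_mem _ (Subgroup.mem_inf.mp hs).1)), (translation_fixes v).1]
      exact (Subgroup.mem_inf.mp hs).1
    · have hmem : s⁻¹ • t ∈ Q₀ := by
        have := Finset.smul_mem_smul_finset (a := s⁻¹) ht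
        rwa [MulAction.mem_stabilizer_iff.mp
          (Subgroup.inv_mem _ (Subgroup.mem_inf.mp hs).2)] at this
      rw [mul_smul, mul_smul, (translation_fixes v).2 _ hmem, smul_inv_smul]
  have hle : translation.range ≤ kern := by
    rintro _ ⟨w, rfl⟩
    exact mem_kern_iff.mpr (translation_fixes w)
  have hidx : (translation.range.subgroupOf kern).index = 2 := by
    have := Subgroup.card_mul_index (translation.range.subgroupOf kern)
    rw [Nat.card_congr (Subgroup.subgroupOfEquivOfLe hle).toEquiv, card_kern] at this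
    have h9 : Nat.card ↥translation.range = 9 := by
      rw [← Nat.card_congr (MonoidHom.ofInjective translation_injective).toEquiv,
        Nat.card_congr Multiplicative.toAdd, Nat.card_eq_fintype_card, Fintype.card_fun,
        ZMod.card, Fintype.card_fin]
      norm_num
    rw [h9] at this
    omega
  have hsq := Subgroup.sq_mem_of_index_two hidx ⟨_, hx⟩
  rw [Subgroup.mem_subgroupOf] at hsq
  have hcube : (s * translation v * s⁻¹) ^ 3 = 1 := by
    rw [conj_pow, translation_cube, mul_one, mul_inv_cancel]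
  have := Subgroup.mul_mem _ hsq hsq
  convert this using 1
  show s * translation v * s⁻¹ = (s * translation v * s⁻¹) ^ 2 * (s * translation v * s⁻¹) ^ 2
  rw [← pow_add, show 2 + 2 = 3 + 1 from rfl, pow_succ, hcube, one_mul]

/-- The translations are their own centraliser. -/
theorem mem_range_of_commute {c : ↥M24} (hc : c ∈ S₀) (hA : Commute c tA) (hB : Commute c tB) :
    c ∈ translation.range := by
  obtain ⟨-, -, -, hbig, ⟨h24, nA, nB, nAB, nABB⟩, haff, hrun⟩ := trans_checks
  set p₀ := ptN QuartetData.affPoint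
  have hp : (idx p₀).val = QuartetData.affPoint := idx_ptN h24
  set q := c • p₀
  have moved : ∀ {h : ↥M24}, Commute c h → (idx (h • p₀)).val ≠ QuartetData.affPoint →
      (idx (h • q)).val ≠ (idx q).val := by
    intro h hch hne e
    refine hne ?_
    have e' : h • q = q := ptEquiv.injective (Fin.ext e)
    have : c • h • p₀ = c • p₀ := by rw [← mul_smul, hch.eq, mul_smul]; exact e'
    rw [MulAction.injective c this, hp]
  have iAB : ∀ p : GolayPt, (idx ((tA * tB) • p)).val = A (B (idx p).val) := fun p => by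
    rw [mul_smul, idx_rho valA, idx_rho valB]
  have iABB : ∀ p : GolayPt, (idx ((tA * (tB * tB)) • p)).val = A (B (B (idx p).val)) := fun p => by
    rw [mul_smul, mul_smul, idx_rho valA, idx_rho valB, idx_rho valB]
  have m1 := moved hA (by rw [idx_rho valA, hp]; exact nA)
  have m2 := moved hB (by rw [idx_rho valB, hp]; exact nB)
  have m3 := moved (hA.mul_right hB) (by rw [iAB, hp]; exact nAB)
  have m4 := moved (hA.mul_right (hB.mul_right hB)) (by rw [iABB, hp]; exact nABB)
  rw [idx_rho valA] at m1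
  rw [idx_rho valB] at m2
  rw [iAB] at m3
  rw [iABB] at m4
  obtain ⟨x, y, e⟩ := hbig (idx q) m1 m2 m3 m4
  set n := tA ^ x.val * tB ^ y.val
  have hn : n • p₀ = q := ptEquiv.injective (Fin.ext ((idx_translation _ _ _).trans (hp ▸ e)))
  have hnv : translation (Multiplicative.ofAdd ![(x.val : ZMod 3), (y.val : ZMod 3)]) = n := by
    show tA ^ ((x.val : ZMod 3)).val * tB ^ ((y.val : ZMod 3)).val = n
    rw [ZMod.val_natCast, ZMod.val_natCast, Nat.mod_eq_of_lt x.isLt, Nat.mod_eq_of_lt y.isLt]
  have hnA : Commute n tA :=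
    ((Commute.refl tA).pow_left _).mul_left (tA_comm_tB.symm.pow_left _)
  have hnB : Commute n tB :=
    (tA_comm_tB.pow_left _).mul_left ((Commute.refl tB).pow_left _)
  have hfix : n⁻¹ * c = 1 := by
    set k := n⁻¹ * c
    have k0 : k • p₀ = p₀ := by rw [mul_smul, inv_smul_eq_iff, hn]
    have kA : Commute k tA := hnA.inv_left.mul_left hA
    have kB : Commute k tB := hnB.inv_left.mul_left hB
    have kd : (k : Equiv.Perm GolayPt) • ptsOf dMask = ptsOf dMask := by
      have h1 : c • d₀ = d₀ := (Subgroup.mem_inf.mp hc).1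
      have h2 : n • d₀ = d₀ := hnv ▸ (translation_fixes _).1
      show k • d₀ = d₀
      rw [mul_smul, h1, inv_smul_eq_iff, h2]
    refine Subtype.ext (eq_one_of_fixRun k.2 (extra := [dMask]) (fun S hS => ?_) (fun i hi => ?_)
      hrun)
    · rw [List.mem_singleton.mp hS]; exact kd
    · obtain ⟨hi24, u, w, e'⟩ := haff i hi
      have hi' : (tA ^ u.val * tB ^ w.val) • p₀ = ptN i :=
        ptEquiv.injective (Fin.ext ((idx_translation _ _ _).trans
          (by rw [hp, e']; exact (idx_ptN hi24).symm)))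
      show k • ptN i = ptN i
      rw [← hi', ← mul_smul, ((kA.pow_right _).mul_right (kB.pow_right _)).eq, mul_smul, k0]
  exact ⟨_, hnv.trans (inv_mul_eq_one.mp hfix)⟩

theorem structure_base :
    ∃ (N : Subgroup ↥S₀) (_ : N.Normal),
      Nat.card N = 9 ∧ Nonempty (↥S₀ ⧸ N ≃* GL (Fin 2) (ZMod 3)) := by
  set f : Multiplicative Plane →* ↥S₀ := translation.codRestrict S₀ translation_mem
  have hf : Function.Injective f := fun v w h => translation_injective (congrArg Subtype.val h)
  have hnorm : f.range.Normal := ⟨fun n hn s => by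
    obtain ⟨v, rfl⟩ := hn
    obtain ⟨w, hw⟩ := conj_translation s.2 v
    exact ⟨w, Subtype.ext hw⟩⟩
  refine ⟨f.range, hnorm, AffineQuotient.quotient_equiv f.range (MonoidHom.ofInjective hf).symm
    card_S₀ fun g hg => ?_⟩
  have h : ∀ v, Commute g.1 (translation v) := fun v =>
    congrArg Subtype.val (hg (f v) ⟨v, rfl⟩)
  have eA : translation (Multiplicative.ofAdd ![1, 0]) = tA := by
    show tA ^ (1 : ZMod 3).val * tB ^ (0 : ZMod 3).val = tA
    rw [ZMod.val_zero, pow_zero, mul_one, show (1 : ZMod 3).val = 1 from rfl, pow_one]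
  have eB : translation (Multiplicative.ofAdd ![0, 1]) = tB := by
    show tA ^ (0 : ZMod 3).val * tB ^ (1 : ZMod 3).val = tB
    rw [ZMod.val_zero, pow_zero, one_mul, show (1 : ZMod 3).val = 1 from rfl, pow_one]
  obtain ⟨w, hw⟩ := mem_range_of_commute g.2 (eA ▸ h _) (eB ▸ h _)
  exact ⟨w, Subtype.ext hw⟩

/-- Conjugation between quartet stabilisers. -/
noncomputable def stabEquiv {g : ↥M24} {d : Finset GolayPt} {Q : Finset (Finset GolayPt)}
    (gd : g • d = d₀) (gQ : g • Q = Q₀) :
    ↥(MulAction.stabilizer ↥M24 d ⊓ MulAction.stabilizer ↥M24 Q) ≃* ↥S₀ :=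
  ((MulAut.conj g).subgroupMap _).trans (MulEquiv.subgroupCongr (by
    rw [S₀, ← gd, ← gQ, MulAction.stabilizer_smul_eq_stabilizer_map_conj,
      MulAction.stabilizer_smul_eq_stabilizer_map_conj]
    exact Subgroup.map_inf _ _ _ (MulAut.conj g).injective))

theorem structure_quartet {d : Finset GolayPt} (hd : d ∈ dodecads)
    {Q : Finset (Finset GolayPt)} (hQ : Q ∈ quartets d) :
    ∃ (N : Subgroup ↥(MulAction.stabilizer ↥M24 d ⊓ MulAction.stabilizer ↥M24 Q)) (_ : N.Normal),
      Nat.card N = 9 ∧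
        Nonempty (↥(MulAction.stabilizer ↥M24 d ⊓ MulAction.stabilizer ↥M24 Q) ⧸ N
          ≃* GL (Fin 2) (ZMod 3)) := by
  obtain ⟨g, gd, gQ⟩ := to_Q₀ hd hQ
  obtain ⟨N, hN, h⟩ := structure_base
  exact AffineQuotient.transport (stabEquiv gd gQ) h

theorem transitive_points {d : Finset GolayPt} (hd : d ∈ dodecads)
    {Q : Finset (Finset GolayPt)} (hQ : Q ∈ quartets d) {p q : GolayPt} (hp : p ∈ d)
    (hq : q ∈ d) :
    ∃ k ∈ MulAction.stabilizer ↥M24 d ⊓ MulAction.stabilizer ↥M24 Q, k • p = q := by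
  obtain ⟨g, gd, gQ⟩ := to_Q₀ hd hQ
  obtain ⟨f1, f2, -, -, -, -, -, -, -, -, -, -, t, c⟩ := member_checks
  have reach : ∀ x ∈ d, ∃ h ∈ S₀, h • pt 0 = g • x := fun x hx => by
    have hm : 2 ^ (idx (g • x)).val ∈ pointMasks fun m => m &&& dMask != 0 := by
      refine mem_pointMasks (p := g • x) (bne_iff_ne.mpr ?_)
      exact DodecadPoints.mask_and_ne (gd ▸ Finset.smul_mem_smul_finset hx)
    obtain ⟨h, hh, e⟩ := member_reach f2 S₀ (gens_mem f2 f1) t
      (List.contains_iff_mem.mp (List.all_eq_true.mp c _ hm))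
    exact ⟨h, hh, smul_eq_of_singleton (by rw [← ptsOf_two_pow (g • x), ← ptsOf_one]; exact e)⟩
  obtain ⟨h, hh, e⟩ := reach p hp
  obtain ⟨h', hh', e'⟩ := reach q hq
  have hk : h' * h⁻¹ ∈ S₀ := Subgroup.mul_mem _ hh' (Subgroup.inv_mem _ hh)
  obtain ⟨k1, k2⟩ := Subgroup.mem_inf.mp hk
  refine ⟨g⁻¹ * (h' * h⁻¹) * g, Subgroup.mem_inf.mpr ⟨?_, ?_⟩, ?_⟩
  · exact conj_smul (X := Finset GolayPt) (by rw [gd]; exact k1)
  · exact conj_smul (X := Finset (Finset GolayPt)) (by rw [gQ]; exact k2)
  · exact conj_smul (X := GolayPt) (by rw [← e, ← e', mul_smul, inv_smul_smul])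

end Cfsg.Agent.Lib.Golay.QuartetStab
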