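/-
The elements of a dodecad stabiliser in `Cfsg.M24` fixing three points of the dodecad.
-/
import Cfsg.Agent.Lib.Golay.Simple
import Cfsg.Agent.Lib.Golay.ThreePointData

set_option autoImplicit false
set_option maxRecDepth 1000000

namespace Cfsg.Agent.Lib.Golay.ThreePoint

open Cfsg
open scoped Pointwise
open Cfsg.Agent.Lib.Golay.ThreePointData

/-- The base group. -/
def base : Subgroup (Equiv.Perm GolayPt) := dodecadGroup ⊓ fixNums [1, 0, 23]

/-- Equality of image lists on all indices. -/
def same (l m : List ℕ) : Bool := (List.range 24).all fun i => applyNum l i == applyNum m i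

theorem toPerm_congr {l m : List ℕ} (hl : validList l = true) (hm : validList m = true)
    (h : same l m = true) : toPerm l = toPerm m := by
  refine (toPerm_eq_iff hl _).2 fun i => ?_
  rw [idx_toPerm hm, idx_pt]
  exact (beq_iff_eq.1 (List.all_eq_true.1 h i.val (List.mem_range.2 i.isLt))).symm

theorem checks : elems.all (fun l => inDodecad l && applyNum l 23 == 23 && applyNum l 0 == 0 &&
      applyNum l 1 == 1) = true ∧
    ((List.range 24).all fun a => (List.range 24).all fun b =>
      !(Data.dodecad0.testBit a && Data.dodecad0.testBit b && a != b &&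
        !([23, 0, 1].contains a) && !([23, 0, 1].contains b)) ||
      elems.any fun l => applyNum l 2 == a && applyNum l 3 == b) = true ∧
    (elems.map fun l => applyNum l 2 * 24 + applyNum l 3).Nodup ∧ elems.length = 72 ∧
    threes.all (fun x => validList x && elems.contains x) = true ∧
    threes.length = 9 ∧ (threes.map fun l => applyNum l 2).Nodup ∧
    threes.contains (List.range 24) = true ∧
    quat.all (fun x => validList x && elems.contains x) = true ∧ quat.length = 8 ∧
    (quat.map fun l => applyNum l 3).Nodup := by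
  decide +kernel

theorem closed : threes.all (fun x => threes.all fun y => validList (compList x y) &&
      threes.any fun z => same z (compList x y)) = true ∧
    threes.all (fun x => same (compList x (compList x x)) (List.range 24) &&
      validList (compList x x) && validList (compList x (compList x x))) = true ∧
    elems.all (fun g => threes.all fun x => validList (compList g x) &&
      threes.any fun y => validList (compList y g) && same (compList g x) (compList y g)) = true := by
  decide +kernel

theorem elem_valid {l : List ℕ} (h : l ∈ elems) : validList l = true := by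
  have := List.all_eq_true.1 checks.1 l h
  simp only [Bool.and_eq_true, inDodecad] at this
  exact inM24.valid this.1.1.1.1

theorem elem_mem {l : List ℕ} (h : l ∈ elems) : toPerm l ∈ base := by
  have hv := elem_valid h
  have := List.all_eq_true.1 checks.1 l h
  simp only [Bool.and_eq_true, beq_iff_eq] at this
  obtain ⟨⟨⟨h1, h23⟩, h0⟩, h1'⟩ := this
  refine Subgroup.mem_inf.2 ⟨toPerm_mem_dodecadGroup h1, mem_fixNums.2 fun b hb => ?_⟩
  simp only [List.mem_cons, List.not_mem_nil, or_false] at hb
  apply ptEquiv.injective
  apply Fin.ext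
  show (idx (toPerm l (ptN b))).val = (idx (ptN b)).val
  rcases hb with rfl | rfl | rfl <;> rw [idx_toPerm hv, idx_ptN (by norm_num)] <;> assumption

theorem range_eq_one : toPerm (List.range 24) = 1 :=
  (toPerm_eq_iff (by decide +kernel) 1).2 fun i => by
    rw [Equiv.Perm.one_apply, idx_pt]
    revert i
    decide +kernel

theorem exists_elem {h : Equiv.Perm GolayPt} (hh : h ∈ base) : ∃ l ∈ elems, h = toPerm l := by
  obtain ⟨hd, hfix⟩ := Subgroup.mem_inf.1 hh
  have hf := mem_fixNums.1 hfix
  have hD : ∀ b < 24, Data.dodecad0.testBit b = true →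
      Data.dodecad0.testBit (idx (h (ptN b))).val = true := by
    intro b hb h1
    rw [← mem_ptsOf, dodecadGroup_preserves hd, mem_ptsOf, idx_ptN hb]
    exact h1
  have hne : ∀ b, b < 24 → b ∉ [1, 0, 23] → (idx (h (ptN b))).val ∉ [23, 0, 1] := by
    intro b hb hnot hmem
    obtain ⟨c, hc, hc24, e⟩ : ∃ c, c ∈ [1, 0, 23] ∧ c < 24 ∧ (idx (h (ptN b))).val = c := by
      simp only [List.mem_cons, List.not_mem_nil, or_false] at hmem
      rcases hmem with e | e | e <;> exact ⟨_, by simp, by norm_num, e⟩
    have : h (ptN b) = h (ptN c) := by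
      rw [hf c hc]
      exact ptEquiv.injective (Fin.ext (show (idx (h (ptN b))).val = (idx (ptN c)).val by
        rw [e, idx_ptN hc24]))
    have e' : (idx (ptN b)).val = (idx (ptN c)).val := by rw [h.injective this]
    rw [idx_ptN hb, idx_ptN hc24] at e'
    exact hnot (e' ▸ hc)
  have h23 : (idx (h (ptN 2))).val ≠ (idx (h (ptN 3))).val := fun e => by
    have : ptN 2 = ptN 3 := h.injective (ptEquiv.injective (Fin.ext e))
    revert this
    decide +kernel
  have := List.all_eq_true.1 (List.all_eq_true.1 checks.2.1 _ (List.mem_range.2 (idx (h (ptN 2))).isLt))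
    _ (List.mem_range.2 (idx (h (ptN 3))).isLt)
  have c1 := hD 2 (by norm_num) (by decide +kernel)
  have c2 := hD 3 (by norm_num) (by decide +kernel)
  have c3 : [23, 0, 1].contains (idx (h (ptN 2))).val = false := by
    rw [Bool.eq_false_iff, ne_eq, List.contains_iff_mem]
    exact hne 2 (by norm_num) (by simp)
  have c4 : [23, 0, 1].contains (idx (h (ptN 3))).val = false := by
    rw [Bool.eq_false_iff, ne_eq, List.contains_iff_mem]
    exact hne 3 (by norm_num) (by simp)
  simp only [c1, c2, c3, c4, bne_iff_ne.2 h23, Bool.not_false, Bool.and_self, Bool.not_true,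
    Bool.false_or, List.any_eq_true, Bool.and_eq_true, beq_iff_eq] at this
  obtain ⟨l, hl, e2, e3⟩ := this
  refine ⟨l, hl, ?_⟩
  have hv := elem_valid hl
  have hk : (toPerm l)⁻¹ * h ∈ dodecadGroup ⊓ fixNums [3, 2, 1, 0, 23] := by
    obtain ⟨h1, h2⟩ := Subgroup.mem_inf.1 (mul_mem (inv_mem (elem_mem hl)) hh)
    refine Subgroup.mem_inf.2 ⟨h1, mem_fixNums.2 fun b hb => ?_⟩
    simp only [List.mem_cons, List.not_mem_nil, or_false] at hb
    have h2' := mem_fixNums.1 h2
    have mk : ∀ b < 24, applyNum l b = (idx (h (ptN b))).val →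
        ((toPerm l)⁻¹ * h) (ptN b) = ptN b := by
      intro b hb e
      rw [Equiv.Perm.mul_apply, Equiv.Perm.inv_eq_iff_eq]
      apply ptEquiv.injective
      apply Fin.ext
      show (idx (h (ptN b))).val = (idx (toPerm l (ptN b))).val
      rw [idx_toPerm hv, idx_ptN hb, e]
    rcases hb with rfl | rfl | hb
    · exact mk 3 (by norm_num) e3
    · exact mk 2 (by norm_num) e2
    · exact h2' b (by simpa using hb)
  rw [dodecadGroup_fix5, Subgroup.mem_bot] at hk
  exact (inv_mul_eq_one.1 hk).symm

theorem card_base : Nat.card base = 72 := by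
  let f : Fin elems.length → base := fun i => ⟨toPerm (elems.get i), elem_mem (List.get_mem _ _)⟩
  have hb : Function.Bijective f := by
    constructor
    · intro i j e
      have e' : toPerm (elems.get i) = toPerm (elems.get j) := congrArg Subtype.val e
      have h : ∀ b < 24, applyNum (elems.get i) b = applyNum (elems.get j) b := fun b hb => by
        have := congrArg (fun σ : Equiv.Perm GolayPt => (idx (σ (ptN b))).val) e'
        simpa only [idx_toPerm (elem_valid (List.get_mem _ _)), idx_ptN hb] using this
      apply Fin.ext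
      refine (checks.2.2.1.getElem_inj_iff (hi := by simp) (hj := by simp)).1 ?_
      simp only [List.getElem_map]
      have h2 := h 2 (by norm_num)
      have h3 := h 3 (by norm_num)
      simp only [List.get_eq_getElem] at h2 h3
      rw [h2, h3]
    · rintro ⟨h, hh⟩
      obtain ⟨l, hl, rfl⟩ := exists_elem hh
      obtain ⟨i, rfl⟩ := List.get_of_mem hl
      exact ⟨i, rfl⟩
  rw [← Nat.card_congr (Equiv.ofBijective f hb), Nat.card_fin, checks.2.2.2.1]

theorem three_elem {x : List ℕ} (hx : x ∈ threes) : validList x = true ∧ x ∈ elems := by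
  have := List.all_eq_true.1 checks.2.2.2.2.1 x hx
  simpa [List.contains_iff_mem] using this

/-- The normal subgroup of order nine. -/
def nine : Subgroup base where
  carrier := {g | ∃ x ∈ threes, g.1 = toPerm x}
  one_mem' := ⟨List.range 24, List.contains_iff_mem.1 checks.2.2.2.2.2.2.2.1, range_eq_one.symm⟩
  mul_mem' := by
    rintro a b ⟨x, hx, ha⟩ ⟨y, hy, hb⟩
    have := List.all_eq_true.1 (List.all_eq_true.1 closed.1 x hx) y hy
    simp only [Bool.and_eq_true, List.any_eq_true] at this
    obtain ⟨hv, z, hz, hzs⟩ := this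
    refine ⟨z, hz, ?_⟩
    show a.1 * b.1 = _
    rw [ha, hb, ← toPerm_mul (three_elem hx).1 (three_elem hy).1 hv,
      toPerm_congr (three_elem hz).1 hv hzs]
  inv_mem' := by
    rintro a ⟨x, hx, ha⟩
    have h3 := List.all_eq_true.1 closed.2.1 x hx
    simp only [Bool.and_eq_true] at h3
    have := List.all_eq_true.1 (List.all_eq_true.1 closed.1 x hx) x hx
    simp only [Bool.and_eq_true, List.any_eq_true] at this
    obtain ⟨hv, z, hz, hzs⟩ := this
    refine ⟨z, hz, ?_⟩
    show a.1⁻¹ = _
    rw [inv_eq_iff_mul_eq_one, ha, toPerm_congr (three_elem hz).1 hv hzs,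
      ← toPerm_mul (three_elem hx).1 hv h3.2,
      toPerm_congr h3.2 (by decide +kernel) h3.1.1, range_eq_one]

theorem nine_cube {g : base} (hg : g ∈ nine) : g ^ 3 = 1 := by
  obtain ⟨x, hx, e⟩ := hg
  have h3 := List.all_eq_true.1 closed.2.1 x hx
  simp only [Bool.and_eq_true] at h3
  apply Subtype.ext
  show g.1 ^ 3 = 1
  rw [pow_succ', pow_two, e, ← toPerm_mul (three_elem hx).1 (three_elem hx).1 h3.1.2,
    ← toPerm_mul (three_elem hx).1 h3.1.2 h3.2,
    toPerm_congr h3.2 (by decide +kernel) h3.1.1, range_eq_one]

theorem nine_normal : nine.Normal := ⟨fun n ⟨x, hx, e⟩ g => by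
  obtain ⟨l, hl, el⟩ := exists_elem g.2
  have := List.all_eq_true.1 (List.all_eq_true.1 closed.2.2 l hl) x hx
  simp only [Bool.and_eq_true, List.any_eq_true] at this
  obtain ⟨hv, y, hy, hv', hs⟩ := this
  refine ⟨y, hy, ?_⟩
  show g.1 * n.1 * g.1⁻¹ = _
  rw [mul_inv_eq_iff_eq_mul, e, el, ← toPerm_mul (elem_valid hl) (three_elem hx).1 hv,
    ← toPerm_mul (three_elem hy).1 (elem_valid hl) hv', toPerm_congr hv hv' hs]⟩

theorem card_nine : Nat.card nine = 9 := by
  let f : Fin threes.length → nine := fun i =>
    ⟨⟨toPerm (threes.get i), elem_mem (three_elem (List.get_mem _ _)).2⟩,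
      threes.get i, List.get_mem _ _, rfl⟩
  have hb : Function.Bijective f := by
    constructor
    · intro i j e
      have e' : toPerm (threes.get i) = toPerm (threes.get j) :=
        congrArg (fun g : nine => g.1.1) e
      apply Fin.ext
      refine (checks.2.2.2.2.2.2.1.getElem_inj_iff (hi := by simp) (hj := by simp)).1 ?_
      simp only [List.getElem_map]
      have := congrArg (fun σ : Equiv.Perm GolayPt => (idx (σ (ptN 2))).val) e'
      simp only [idx_toPerm (three_elem (List.get_mem _ _)).1,
        idx_ptN (show 2 < 24 by norm_num)] at this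
      simpa only [List.get_eq_getElem] using this
    · rintro ⟨g, x, hx, e⟩
      obtain ⟨i, rfl⟩ := List.get_of_mem hx
      exact ⟨i, Subtype.ext (Subtype.ext e.symm)⟩
  rw [← Nat.card_congr (Equiv.ofBijective f hb), Nat.card_fin, checks.2.2.2.2.2.1]

/-- The position of a quaternion in the list. -/
def quatIdx : QuaternionGroup 2 → ℕ
  | .a i => i.val
  | .xa i => 4 + i.val

/-- The image list of a quaternion. -/
def quatList (q : QuaternionGroup 2) : List ℕ := quat.getD (quatIdx q) []

theorem quat_mul : ∀ a b : QuaternionGroup 2,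
    validList (compList (quatList a) (quatList b)) = true ∧ quatList a ∈ quat ∧
      same (quatList (a * b)) (compList (quatList a) (quatList b)) = true := by
  decide +kernel

theorem quat_elem (a : QuaternionGroup 2) :
    validList (quatList a) = true ∧ quatList a ∈ elems := by
  have := List.all_eq_true.1 checks.2.2.2.2.2.2.2.2.1 _ (quat_mul a a).2.1
  simpa [List.contains_iff_mem] using this

/-- The quaternion group inside the base group. -/
noncomputable def quatHom : QuaternionGroup 2 →* base :=
  MonoidHom.mk' (fun q => ⟨toPerm (quatList q), elem_mem (quat_elem q).2⟩) fun a b => by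
    apply Subtype.ext
    show toPerm (quatList (a * b)) = toPerm (quatList a) * toPerm (quatList b)
    rw [← toPerm_mul (quat_elem a).1 (quat_elem b).1 (quat_mul a b).1]
    exact toPerm_congr (quat_elem _).1 (quat_mul a b).1 (quat_mul a b).2.2

theorem quatHom_injective : Function.Injective quatHom := by
  intro a b e
  have key : ∀ a b : QuaternionGroup 2, applyNum (quatList a) 3 = applyNum (quatList b) 3 → a = b := by
    decide +kernel
  apply key
  have := congrArg (fun g : base => (idx (g.1 (ptN 3))).val) e
  change (idx (toPerm (quatList a) (ptN 3))).val = (idx (toPerm (quatList b) (ptN 3))).val at this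
  rwa [idx_toPerm (quat_elem a).1, idx_toPerm (quat_elem b).1, idx_ptN (by norm_num)] at this

/-- The facts about any group isomorphic to the base group. -/
theorem sylow_facts {G : Type*} [Group G] [Finite G] (e : ↥base ≃* G) :
    (∀ Q : Sylow 3 G, (Q : Subgroup G).Normal ∧ Nat.card ↥Q = 9 ∧
      ∀ x ∈ (Q : Subgroup G), x ^ 3 = 1) ∧
    ∀ P : Sylow 2 G, Nonempty (↥P ≃* QuaternionGroup 2) := by
  have : Fact (Nat.Prime 3) := ⟨Nat.prime_three⟩
  have : Fact (Nat.Prime 2) := ⟨Nat.prime_two⟩
  have hG : Nat.card G = 2 ^ 3 * 3 ^ 2 := by rw [← Nat.card_congr e.toEquiv, card_base]; rfl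
  have f3 : (2 ^ 3 * 3 ^ 2 : ℕ).factorization 3 = 2 := by
    rw [Nat.factorization_mul (by norm_num) (by norm_num), Nat.Prime.factorization_pow (by norm_num),
      Nat.Prime.factorization_pow (by norm_num)]
    simp
  have f2 : (2 ^ 3 * 3 ^ 2 : ℕ).factorization 2 = 3 := by
    rw [Nat.factorization_mul (by norm_num) (by norm_num), Nat.Prime.factorization_pow (by norm_num),
      Nat.Prime.factorization_pow (by norm_num)]
    simp
  let K : Subgroup G := nine.map e.toMonoidHom
  have hK9 : Nat.card K = 9 := by
    rw [← Nat.card_congr (nine.equivMapOfInjective e.toMonoidHom e.injective).toEquiv, card_nine]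
  let Q0 : Sylow 3 G := Sylow.ofCard K (by rw [hK9, hG, f3]; rfl)
  have hKn : (Q0 : Subgroup G).Normal := by
    rw [Sylow.coe_ofCard]
    exact nine_normal.map e.toMonoidHom e.surjective
  refine ⟨fun Q => ?_, fun P => ?_⟩
  · obtain ⟨g, rfl⟩ := MulAction.exists_smul_eq G Q0 Q
    rw [Sylow.smul_eq_of_normal]
    refine ⟨hKn, hK9, fun x hx => ?_⟩
    obtain ⟨y, hy, rfl⟩ := (show x ∈ K from hx)
    rw [← map_pow, nine_cube hy, map_one]
  · let f := e.toMonoidHom.comp quatHom
    have hf : Function.Injective f := e.injective.comp quatHom_injective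
    have h8 : Nat.card f.range = 8 := by
      rw [← Nat.card_congr (MonoidHom.ofInjective hf).toEquiv, Nat.card_eq_fintype_card,
        QuaternionGroup.card]
    let P0 : Sylow 2 G := Sylow.ofCard f.range (by rw [h8, hG, f2]; rfl)
    exact ⟨(P.equiv P0).trans (MonoidHom.ofInjective hf).symm⟩

end Cfsg.Agent.Lib.Golay.ThreePoint
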